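import Cfsg.Agent.Lib.Zass29.SuzukiOrder

/-!
# Simple Zassenhaus groups with non-abelian regular 2-subgroup have Suzuki order
-/

set_option autoImplicit false
set_option linter.style.haveILetI false

noncomputable section

namespace CfsgLib.Zass29

open MulAction CfsgLib.PermSmall

variable {G Ω : Type*} [Group G] [Finite G] [MulAction G Ω] [Fintype Ω] [IsSimpleGroup G]

theorem isSuzuki_of_translations (hZ : Cfsg.IsZassenhausGroup G Ω) {a b : Ω} (hab : a ≠ b)
    (hodd : Odd (Nat.card (Zassenhaus.pairStab G a b)))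
    (H : Subgroup G) (hHa : H ≤ stabilizer G a) (hHcard : Nat.card H + 1 = Fintype.card Ω)
    (hHfix : ∀ u ∈ H, u ≠ 1 → ∀ c : Ω, u • c = c → c = a)
    (h2 : IsPGroup 2 H) (hna : ∃ u v : H, u * v ≠ v * u) : Cfsg.IsSuzuki G := by
  haveI := Fintype.ofFinite G
  obtain ⟨T, S⟩ := exists_szSetting hZ hab hodd H hHa hHcard hHfix h2 hna
  exact S.isSuzuki hZ

end CfsgLib.Zass29
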