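import Cfsg.Agent.Lib.Zass29.FeitCoherent
import Cfsg.Agent.Lib.PermGroup.SharpTwoKernel
import Cfsg.Agent.S0878

/-!
# Feit's inequality for Zassenhaus groups with two-point stabilisers of odd order
-/

set_option autoImplicit false
set_option linter.style.haveILetI false
set_option linter.unusedSectionVars false

noncomputable section

namespace CfsgLib.Zass29.FeitThm

open MulAction CfsgLib.PermSmall
open CfsgLib.PermSmall.Zassenhaus (pairStab)
open CfsgLib.PermSmall.FeitFrame (Frame)
open scoped Classical commutatorElement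

universe u

variable {G : Type u} {Ω : Type*} [Group G] [MulAction G Ω]

/-- The translations are the identity and the elements fixing only `a`. -/
theorem mem_iff_fixOnly [Finite G] [Fintype Ω] (hZ : Cfsg.IsZassenhausGroup G Ω) {a b : Ω}
    (hab : a ≠ b) {H : Subgroup G} (hHa : H ≤ stabilizer G a)
    (hHcard : Nat.card H + 1 = Fintype.card Ω)
    (hHfix : ∀ u ∈ H, u ≠ 1 → ∀ c : Ω, u • c = c → c = a) (g : G) :
    g ∈ H ↔ g = 1 ∨ Zassenhaus.fixOnly a g := by
  have h1 : (1 : G) ∉ {g : G | Zassenhaus.fixOnly a g} := fun h =>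
    hab ((h b).mp (one_smul G b)).symm
  have heq : (H : Set G) = insert 1 {g : G | Zassenhaus.fixOnly a g} := by
    refine Set.eq_of_subset_of_ncard_le ?_ ?_ (Set.toFinite _)
    · intro g hg
      by_cases hg1 : g = 1
      · exact Set.mem_insert_iff.mpr (Or.inl hg1)
      · exact Set.mem_insert_of_mem _ fun x => ⟨hHfix g hg hg1 x, fun e => e ▸ hHa hg⟩
    · rw [Set.ncard_insert_of_notMem h1 (Set.toFinite _)]
      have := Zassenhaus.ncard_fixOnly hZ a
      have : (H : Set G).ncard = Nat.card H := rfl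
      omega
  rw [← SetLike.mem_coe, heq]
  exact Set.mem_insert_iff

/-- The frame of a Zassenhaus group without normal complements for the primes dividing the odd
order of a two-point stabiliser. -/
theorem exists_frame [Finite G] [Fintype Ω] (hZ : Cfsg.IsZassenhausGroup G Ω) {a b : Ω}
    (hab : a ≠ b) (hodd : Odd (Nat.card (pairStab G a b)))
    (hnil : ∀ q : ℕ, q.Prime → q ∣ Nat.card (pairStab G a b) →
      ¬ ∃ N : Subgroup G, N.Normal ∧ N.index = q ^ (Nat.card G).factorization q)
    (H : Subgroup G) (hHa : H ≤ stabilizer G a) (hHcard : Nat.card H + 1 = Fintype.card Ω)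
    (hHfix : ∀ u ∈ H, u ≠ 1 → ∀ c : Ω, u • c = c → c = a) :
    ∃ T : Frame G a b, T.F = H := by
  obtain ⟨hcyc, -, hinv⟩ := OddStab.cyclic_inverted hZ hab hodd hnil
  haveI := hcyc
  have hfree : ∀ u ∈ H, ∀ y, y ≠ a → u • y = y → u = 1 := fun u hu y hy e =>
    by_contra fun h1 => hy (hHfix u hu h1 y e)
  have hreg : ∀ y z : Ω, y ≠ a → z ≠ a → ∃! u : H, (u : G) • y = z := by
    intro y z hy hz
    let f : H → {x : Ω // ¬ x = a} := fun u => ⟨(u : G) • y, fun e =>
      hy (smul_left_cancel (u : G) (e.trans (hHa u.2).symm))⟩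
    have hf : Function.Bijective f := by
      refine (Nat.bijective_iff_injective_and_card _).mpr ⟨?_, ?_⟩
      · intro u v e
        have e' : (u : G) • y = (v : G) • y := congrArg Subtype.val e
        apply Subtype.ext
        exact (inv_mul_eq_one.mp (hfree _ (mul_mem (inv_mem v.2) u.2) y hy
          (by rw [mul_smul, e', inv_smul_smul]))).symm
      · rw [Nat.card_eq_fintype_card (α := {x : Ω // ¬ x = a}), Fintype.card_subtype_compl,
          Fintype.card_subtype_eq]
        omega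
    obtain ⟨u, hu⟩ := hf.2 ⟨z, hz⟩
    exact ⟨u, congrArg Subtype.val hu, fun v hv => hf.1 (hu ▸ Subtype.ext hv)⟩
  have hnorm : ∀ g, g • a = a → ∀ u ∈ H, g * u * g⁻¹ ∈ H := by
    intro g hg u hu
    rw [mem_iff_fixOnly hZ hab hHa hHcard hHfix] at hu ⊢
    rcases hu with rfl | hu
    · left; group
    · right
      intro x
      rw [mul_smul, mul_smul, smul_eq_iff_eq_inv_smul, hu, inv_smul_eq_iff, hg]
  obtain ⟨s, hs⟩ := Zassenhaus.exists_smul_pair hZ hab (Ne.symm hab)
  exact ⟨{ ne := hab, three := hZ.2.2.1, swap := s, swap_a := hs.1, swap_b := hs.2, F := H,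
           F_le := hHa, F_norm := hnorm, regular := hreg, H_comm := IsCyclic.commutative,
           odd := hodd, inv := hinv }, rfl⟩

/-- The centraliser of a non-identity translation consists of translations. -/
theorem centralizer_le [Finite G] [Fintype Ω] (hZ : Cfsg.IsZassenhausGroup G Ω) {a b : Ω}
    (hab : a ≠ b) {H : Subgroup G} (hHa : H ≤ stabilizer G a)
    (hHcard : Nat.card H + 1 = Fintype.card Ω)
    (hHfix : ∀ u ∈ H, u ≠ 1 → ∀ c : Ω, u • c = c → c = a) :
    ∀ k ∈ H, k ≠ 1 → Subgroup.centralizer ({k} : Set G) ≤ H := by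
  intro k hk hk1 g hg
  rw [Subgroup.mem_centralizer_singleton_iff] at hg
  have hga : g • a = a := hHfix k hk hk1 _ (by
    rw [← mul_smul, ← hg, mul_smul, (show k • a = a from hHa hk)])
  rw [mem_iff_fixOnly hZ hab hHa hHcard hHfix]
  by_cases hg1 : g = 1
  · exact Or.inl hg1
  refine Or.inr fun x => ⟨fun hx => ?_, fun e => e ▸ hga⟩
  by_contra hxa
  have h1 : k • x ≠ a := fun e =>
    hxa (smul_left_cancel k (e.trans (show k • a = a from hHa hk).symm))
  have h2 : k • x ≠ x := fun e => hxa (hHfix k hk hk1 x e)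
  exact hg1 (Zassenhaus.eq_one hZ (Ne.symm hxa) (Ne.symm h2) (Ne.symm h1) hga hx
    (by rw [← mul_smul, hg, mul_smul, hx]))

theorem commutator_index_eq {X : Type*} [Group X] (K : Subgroup X) :
    (commutator K).index = (⁅K, K⁆.subgroupOf K).index := by
  congr 1
  symm
  apply Subgroup.map_injective K.subtype_injective
  rw [Subgroup.subgroupOf_map_subtype, Subgroup.map_subtype_commutator,
    inf_eq_left.mpr (Subgroup.commutator_le_self K)]

/-- Feit's inequality, without normal complements. -/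
theorem feit_of_nil [Fintype G] [Fintype Ω] (hZ : Cfsg.IsZassenhausGroup G Ω) {a b : Ω}
    (hab : a ≠ b) (hodd : Odd (Nat.card (pairStab G a b)))
    (hnil : ∀ q : ℕ, q.Prime → q ∣ Nat.card (pairStab G a b) →
      ¬ ∃ N : Subgroup G, N.Normal ∧ N.index = q ^ (Nat.card G).factorization q)
    (H : Subgroup G) (hHa : H ≤ stabilizer G a) (hHcard : Nat.card H + 1 = Fintype.card Ω)
    (hHfix : ∀ u ∈ H, u ≠ 1 → ∀ c : Ω, u • c = c → c = a) :
    Fintype.card Ω - 2 ≤ 2 * Nat.card (pairStab G a b) ∨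
      (IsPGroup 2 H ∧ (∃ u v : H, u * v ≠ v * u) ∧
        (commutator H).index ≤ 4 * Nat.card (pairStab G a b) ^ 2 + 1) := by
  obtain ⟨T, rfl⟩ := exists_frame hZ hab hodd hnil H hHa hHcard hHfix
  have hd : 1 < Nat.card T.H := Zassenhaus.one_lt_card_pairStab hZ hab
  by_cases hab' : IsMulCommutative T.F
  · exact Or.inl (T.card_le hab' hd)
  obtain ⟨hTI, hN⟩ := Cfsg.Agent.S0878.result hZ a T.F hHa hHcard hHfix
  have hTI' : ∀ g : G, g ∉ Subgroup.normalizer (T.F : Set G) → ∀ k ∈ T.F, g * k * g⁻¹ ∈ T.F → k = 1 :=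
    fun g hg => hTI g (fun h => hg (hN.symm ▸ h))
  have hC := centralizer_le hZ hab hHa hHcard hHfix
  have hlt : T.F < Subgroup.normalizer (T.F : Set G) := by
    refine lt_of_le_of_ne Subgroup.le_normalizer fun e => ?_
    have h1 := T.card_M
    rw [show Nat.card T.M = Nat.card T.F by
      rw [show (T.M : Subgroup G) = T.F from hN.symm.trans e.symm]] at h1
    have h3 : Nat.card T.F * 2 ≤ Nat.card T.F * Nat.card T.H := Nat.mul_le_mul_left _ hd
    have h4 : 0 < Nat.card T.F := Nat.card_pos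
    omega
  have hF1 : T.F ≠ ⊥ := fun e => by
    rw [e, Subgroup.card_bot] at hHcard
    have := Zassenhaus.three_le_card hZ hab
    omega
  haveI : Fintype ↥(Subgroup.normalizer (T.F : Set G)) := Fintype.ofFinite _
  have hidx : (T.F.subgroupOf (Subgroup.normalizer (T.F : Set G))).index = Nat.card T.H := by
    have h := (T.F.subgroupOf (Subgroup.normalizer (T.F : Set G))).card_mul_index
    rw [Nat.card_congr (Subgroup.subgroupOfEquivOfLe Subgroup.le_normalizer).toEquiv, hN] at h
    rw [hN]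
    exact Nat.eq_of_mul_eq_mul_left Nat.card_pos (h.trans T.card_M)
  rcases CfsgLib.OddChar.feit_sibley T.F hF1 hTI' hlt hC with ⟨-, he, -⟩ | ⟨h2, hx⟩ | hcoh
  · left
    rw [hidx] at he
    show Fintype.card Ω - 2 ≤ 2 * Nat.card T.H
    omega
  · refine Or.inr ⟨IsPGroup.of_card h2, ?_, ?_⟩
    · by_contra h
      push Not at h
      exact hab' ⟨⟨h⟩⟩
    · rw [hidx] at hx
      rw [commutator_index_eq]
      exact hx.le.trans (Nat.le_succ _)
  · exact Or.inl (FeitCoh.le_of_coherent T hN hTI' hC hd hab' hcoh)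

/-- A doubly transitive normal subgroup of a Zassenhaus group has no regular normal subgroup. -/
theorem false_of_regular [Finite G] [Fintype Ω] (hZ : Cfsg.IsZassenhausGroup G Ω) {a b : Ω}
    (hab : a ≠ b) (N : Subgroup G) [hNn : N.Normal] (h2 : IsMultiplyPretransitive N Ω 2)
    (R : Subgroup N) [R.Normal] [IsPretransitive R Ω] (hreg : ∀ x : Ω, stabilizer R x = ⊥) :
    False := by
  haveI := hZ.1
  haveI : Nonempty Ω := ⟨a⟩
  have hR1 : R ≠ ⊥ := by
    intro e
    obtain ⟨r, hr⟩ := exists_smul_eq R a b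
    have : (r : N) = 1 := Subgroup.mem_bot.mp (e ▸ r.2)
    exact hab (by rw [← hr]; show a = ((r : N) : G) • a; rw [this]; exact (one_smul G a).symm)
  obtain ⟨hRc, -⟩ := CfsgLib.PermGroup.regular_normal_elementary h2 R hR1 hreg
  set R' : Subgroup G := R.map N.subtype with hR'
  have hfree : ∀ x ∈ R', ∀ p : Ω, x • p = p → x = 1 := by
    rintro _ ⟨x, hx, rfl⟩ p hp
    have := CfsgLib.PermGroup.semiregular_eq_one' hreg hx (x := p) hp
    rw [this]; rfl
  have htrans : ∀ p q : Ω, ∃ x ∈ R', x • p = q := by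
    intro p q
    obtain ⟨r, hr⟩ := exists_smul_eq R p q
    exact ⟨_, ⟨_, r.2, rfl⟩, hr⟩
  have hle : R' ≤ N := Subgroup.map_subtype_le R
  have hnormN : ∀ m ∈ N, ∀ x ∈ R', m * x * m⁻¹ ∈ R' := by
    rintro m hm _ ⟨x, hx, rfl⟩
    exact ⟨_, (inferInstance : R.Normal).conj_mem x hx ⟨m, hm⟩, rfl⟩
  have hcomm : ∀ x ∈ R', ∀ y ∈ R', x * y = y * x := by
    rintro _ ⟨x, hx, rfl⟩ _ ⟨y, hy, rfl⟩
    exact congrArg (fun z : R => ((z : N) : G)) (hRc.is_comm.comm ⟨x, hx⟩ ⟨y, hy⟩)
  -- it is normalised by the whole group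
  have hconj : ∀ g : G, ∀ x ∈ R', g * x * g⁻¹ ∈ R' := by
    intro g
    by_cases hint : ∃ x ∈ R', x ≠ 1 ∧ g * x * g⁻¹ ∈ R'
    · obtain ⟨x, hx, hx1, hgx⟩ := hint
      intro y hy
      by_cases hy1 : y = 1
      · rw [hy1, mul_one, mul_inv_cancel]; exact one_mem _
      have hxa : a ≠ x • a := fun e => hx1 (hfree x hx a e.symm)
      have hya : a ≠ y • a := fun e => hy1 (hfree y hy a e.symm)
      obtain ⟨m, hma, hmx⟩ := is_two_pretransitive_iff.mp h2 hxa hya
      have hma' : (m : G) • a = a := hma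
      have hmx' : (m : G) • x • a = y • a := hmx
      have hy' : (m : G) * x * (m : G)⁻¹ = y := by
        have hmem := hnormN m m.2 x hx
        refine (inv_mul_eq_one.mp (hfree _ (mul_mem (inv_mem hy) hmem) a ?_)).symm
        rw [mul_smul, mul_smul, mul_smul, show (m : G)⁻¹ • a = a by rw [inv_smul_eq_iff, hma'],
          hmx', inv_smul_smul]
      rw [← hy', show g * ((m : G) * x * (m : G)⁻¹) * g⁻¹ =
        (g * m * g⁻¹) * (g * x * g⁻¹) * (g * m * g⁻¹)⁻¹ by group]
      exact hnormN _ (hNn.conj_mem _ m.2 g) _ hgx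
    · -- otherwise the conjugate commutes with it, so lies in it
      push Not at hint
      intro x hx
      have hcx : ∀ y ∈ R', (g * x * g⁻¹) * y = y * (g * x * g⁻¹) := by
        intro y hy
        have hyN := hle hy
        have h1 : (g * x * g⁻¹) * y * (g * x * g⁻¹)⁻¹ * y⁻¹ ∈ R' :=
          mul_mem (hnormN _ (hNn.conj_mem _ (hle hx) g) y hy) (inv_mem hy)
        have h2' : x * (g⁻¹ * y * g * x⁻¹ * (g⁻¹ * y * g)⁻¹) ∈ R' :=
          mul_mem hx (hnormN _ (by simpa using hNn.conj_mem _ hyN g⁻¹) _ (inv_mem hx))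
        have h3 : g * (x * (g⁻¹ * y * g * x⁻¹ * (g⁻¹ * y * g)⁻¹)) * g⁻¹ =
            (g * x * g⁻¹) * y * (g * x * g⁻¹)⁻¹ * y⁻¹ := by group
        have h4 : x * (g⁻¹ * y * g * x⁻¹ * (g⁻¹ * y * g)⁻¹) = 1 :=
          by_contra fun hne => hint _ h2' hne (h3 ▸ h1)
        rw [h4, mul_one, mul_inv_cancel] at h3
        have h5 := mul_inv_eq_one.mp h3.symm
        exact mul_inv_eq_iff_eq_mul.mp h5
      obtain ⟨r, hr, hra⟩ := htrans a ((g * x * g⁻¹) • a)
      have hall : ∀ q : Ω, (g * x * g⁻¹) • q = r • q := by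
        intro q
        obtain ⟨y, hy, rfl⟩ := htrans a q
        rw [← mul_smul, hcx y hy, mul_smul, ← hra, ← mul_smul, ← mul_smul, hcomm y hy r hr]
      rw [eq_of_smul_eq_smul hall]
      exact hr
  have hn : R'.Normal := ⟨fun x hx g => hconj g x hx⟩
  have htr : IsPretransitive R' Ω := ⟨fun p q => by
    obtain ⟨x, hx, e⟩ := htrans p q
    exact ⟨⟨x, hx⟩, e⟩⟩
  obtain ⟨p, hp⟩ := hZ.2.2.2.2 R' hn htr
  refine hp (eq_bot_iff.mpr fun x hx => ?_)
  exact Subgroup.mem_bot.mpr (Subtype.ext (hfree x x.2 p hx))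

/-- Feit's inequality. -/
theorem feit [Finite G] [Fintype Ω] (hZ : Cfsg.IsZassenhausGroup G Ω) {a b : Ω}
    (hab : a ≠ b) (hodd : Odd (Nat.card (pairStab G a b)))
    (H : Subgroup G) (hHa : H ≤ stabilizer G a) (hHcard : Nat.card H + 1 = Fintype.card Ω)
    (hHfix : ∀ u ∈ H, u ≠ 1 → ∀ c : Ω, u • c = c → c = a) :
    Fintype.card Ω - 2 ≤ 2 * Nat.card (pairStab G a b) ∨
      (IsPGroup 2 H ∧ (∃ u v : H, u * v ≠ v * u) ∧
        (commutator H).index ≤ 4 * Nat.card (pairStab G a b) ^ 2 + 1) := by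
  induction hn : Nat.card G using Nat.strong_induction_on generalizing G with
  | _ n ih =>
    haveI := Fintype.ofFinite G
    by_cases hnil : ∀ q : ℕ, q.Prime → q ∣ Nat.card (pairStab G a b) →
        ¬ ∃ N : Subgroup G, N.Normal ∧ N.index = q ^ (Nat.card G).factorization q
    · exact feit_of_nil hZ hab hodd hnil H hHa hHcard hHfix
    push Not at hnil
    obtain ⟨q, hq, hqd, N, hN, hidx⟩ := hnil
    haveI := hN
    haveI := hZ.1
    haveI : Fact q.Prime := ⟨hq⟩
    set k := (Nat.card G).factorization q with hk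
    have hk0 : 0 < k := hq.factorization_pos_of_dvd Nat.card_pos.ne'
      (hqd.trans (Subgroup.card_subgroup_dvd_card _))
    have h3 := Zassenhaus.three_le_card hZ hab
    have hqH : ¬ q ∣ Nat.card H := by
      intro h
      have h1 : q ∣ Fintype.card Ω - 2 := hqd.trans (Zassenhaus.card_pairStab_dvd hZ hab)
      have h2 : q ∣ Nat.card H - (Fintype.card Ω - 2) := Nat.dvd_sub h h1
      rw [show Nat.card H - (Fintype.card Ω - 2) = 1 by omega] at h2
      exact hq.not_dvd_one h2
    have hHN : H ≤ N := by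
      intro x hx
      have hcop : Nat.Coprime (Nat.card H) (q ^ k) :=
        ((hq.coprime_iff_not_dvd.mpr hqH).symm).pow_right k
      have h1 : orderOf (QuotientGroup.mk' N x) ∣ Nat.card H :=
        (orderOf_map_dvd _ x).trans (by
          rw [← Subgroup.orderOf_mk x hx]; exact orderOf_dvd_natCard _)
      have h2 : orderOf (QuotientGroup.mk' N x) ∣ q ^ k := by
        rw [← hidx, Subgroup.index_eq_card]; exact orderOf_dvd_natCard _
      exact (QuotientGroup.eq_one_iff x).mp
        (orderOf_eq_one_iff.mp (Nat.eq_one_of_dvd_coprimes hcop h1 h2))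
    have hmemH := mem_iff_fixOnly hZ hab hHa hHcard hHfix
    -- the translations are transitive on the points other than `a`
    have hHtr : ∀ y z : Ω, y ≠ a → z ≠ a → ∃ u ∈ H, u • y = z := by
      intro y z hy hz
      let f : H → {x : Ω // ¬ x = a} := fun u => ⟨(u : G) • y, fun e =>
        hy (smul_left_cancel (u : G) (e.trans (hHa u.2).symm))⟩
      have hf : Function.Bijective f := by
        refine (Nat.bijective_iff_injective_and_card _).mpr ⟨?_, ?_⟩
        · intro u v e
          have e' : (u : G) • y = (v : G) • y := congrArg Subtype.val e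
          apply Subtype.ext
          refine (inv_mul_eq_one.mp (by_contra fun h1 => hy ?_ : (v : G)⁻¹ * u = 1)).symm
          exact hHfix _ (mul_mem (inv_mem v.2) u.2) h1 y (by rw [mul_smul, e', inv_smul_smul])
        · rw [Nat.card_eq_fintype_card (α := {x : Ω // ¬ x = a}), Fintype.card_subtype_compl,
            Fintype.card_subtype_eq]
          omega
      obtain ⟨u, hu⟩ := hf.2 ⟨z, hz⟩
      exact ⟨u, u.2, congrArg Subtype.val hu⟩
    -- `N` moves `a`
    obtain ⟨c, hc, hca⟩ : ∃ c ∈ N, c • a ≠ a := by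
      by_contra hall
      push Not at hall
      haveI : Nontrivial H := Finite.one_lt_card_iff_nontrivial.mp (by omega)
      obtain ⟨⟨u, hu⟩, hu1⟩ := exists_ne (1 : H)
      apply hu1
      apply Subtype.ext
      show u = 1
      refine eq_of_smul_eq_smul (α := Ω) fun x => ?_
      rw [one_smul]
      obtain ⟨g, hg⟩ : ∃ g : G, g • a = x := by
        by_cases hx : x = a
        · exact ⟨1, by rw [hx, one_smul]⟩
        · obtain ⟨g, hga, -⟩ := Zassenhaus.exists_smul_pair hZ hab hx
          exact ⟨g, hga⟩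
      subst hg
      have := hall (g⁻¹ * u * g) (by simpa using hN.conj_mem u (hHN hu) g⁻¹)
      rwa [mul_smul, mul_smul, inv_smul_eq_iff] at this
    have hNtr : ∀ x : Ω, ∃ m ∈ N, m • a = x := by
      intro x
      by_cases hx : x = a
      · exact ⟨1, one_mem _, by rw [hx, one_smul]⟩
      · obtain ⟨u, hu, e⟩ := hHtr _ x hca hx
        exact ⟨u * c, mul_mem (hHN hu) hc, by rw [mul_smul, e]⟩
    have h2N : IsMultiplyPretransitive N Ω 2 := by
      rw [is_two_pretransitive_iff]
      intro x y x' y' hxy hxy'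
      obtain ⟨m, hm, hmx⟩ := hNtr x
      obtain ⟨m', hm', hmx'⟩ := hNtr x'
      have h1 : m⁻¹ • y ≠ a := fun e => hxy (by rw [← hmx, ← e, smul_inv_smul])
      have h2 : m'⁻¹ • y' ≠ a := fun e => hxy' (by rw [← hmx', ← e, smul_inv_smul])
      obtain ⟨u, hu, e⟩ := hHtr _ _ h1 h2
      refine ⟨⟨m' * u * m⁻¹, mul_mem (mul_mem hm' (hHN hu)) (inv_mem hm)⟩, ?_, ?_⟩
      · show (m' * u * m⁻¹) • x = x'
        rw [mul_smul, mul_smul, show m⁻¹ • x = a by rw [inv_smul_eq_iff, hmx],
          show u • a = a from hHa hu, hmx']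
      · show (m' * u * m⁻¹) • y = y'
        rw [mul_smul, mul_smul, e, smul_inv_smul]
    have hnoreg : ∀ R : Subgroup N, R.Normal → IsPretransitive R Ω →
        ∃ x : Ω, stabilizer R x ≠ ⊥ := by
      intro R hR hRt
      by_contra hall
      push Not at hall
      exact false_of_regular hZ hab N h2N R hall
    by_cases hsharp : ∀ g : N, ∀ x y : Ω, x ≠ y → g • x = x → g • y = y → g = 1
    · obtain ⟨R, hR, -, -, hRt, hRf, -⟩ := CfsgLib.PermGroup.sharpTwo_kernel h2N hsharp
        (by rw [Nat.card_eq_fintype_card]; omega)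
      obtain ⟨x, hx⟩ := hnoreg R hR hRt
      exact absurd (hRf x) hx
    push Not at hsharp
    obtain ⟨g₀, x₀, y₀, hne₀, hgx, hgy, hg₀⟩ := hsharp
    haveI : FaithfulSMul N Ω := ⟨fun {g h} e => Subtype.ext (eq_of_smul_eq_smul (α := Ω) e)⟩
    have hZN : Cfsg.IsZassenhausGroup N Ω :=
      ⟨inferInstance, h2N, fun g x y z h1 h2 h3 hx hy hz =>
        Subtype.ext (hZ.2.2.1 (g : G) x y z h1 h2 h3 hx hy hz),
        ⟨g₀, hg₀, x₀, y₀, hne₀, hgx, hgy⟩, hnoreg⟩
    have hcardN : Nat.card N < n := by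
      rw [← hn, ← N.card_mul_index, hidx]
      calc Nat.card N = Nat.card N * 1 := (mul_one _).symm
        _ < Nat.card N * q ^ k :=
          Nat.mul_lt_mul_of_pos_left (Nat.one_lt_pow hk0.ne' hq.one_lt) Nat.card_pos
    have hdvd : Nat.card (pairStab N a b) ∣ Nat.card (pairStab G a b) :=
      Subgroup.card_dvd_of_injective
        ({ toFun := fun g => ⟨((g : N) : G), g.2⟩
           map_one' := rfl
           map_mul' := fun _ _ => rfl } : pairStab N a b →* pairStab G a b)
        (fun g h e => Subtype.ext (Subtype.ext (congrArg (fun z : pairStab G a b => (z : G)) e)))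
    have hle : Nat.card (pairStab N a b) ≤ Nat.card (pairStab G a b) :=
      Nat.le_of_dvd Nat.card_pos hdvd
    let eH : H.subgroupOf N ≃* H := Subgroup.subgroupOfEquivOfLe hHN
    have hres := ih (Nat.card N) hcardN hZN (Odd.of_dvd_nat hodd hdvd) (H.subgroupOf N)
      (fun x hx => hHa (Subgroup.mem_subgroupOf.mp hx))
      (by rw [Nat.card_congr eH.toEquiv, hHcard])
      (fun x hx h1 => hHfix (x : G) (Subgroup.mem_subgroupOf.mp hx)
        (fun e => h1 (Subtype.ext e)))
      rfl
    rcases hres with h | ⟨h2g, ⟨x, y, hxy⟩, hi⟩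
    · exact Or.inl (h.trans (Nat.mul_le_mul_left 2 hle))
    · refine Or.inr ⟨h2g.of_equiv eH, ⟨eH x, eH y, fun e => hxy (eH.injective ?_)⟩, ?_⟩
      · rw [map_mul, map_mul, e]
      · have hmap : (commutator (H.subgroupOf N)).map eH.toMonoidHom = commutator H :=
          by rw [commutator_def, commutator_def, Subgroup.map_commutator,
              Subgroup.map_top_of_surjective _ eH.surjective]
        rw [← hmap, Subgroup.index_map_of_bijective eH.bijective]
        refine hi.trans ?_
        have := Nat.pow_le_pow_left hle 2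
        omega

end CfsgLib.Zass29.FeitThm
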