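import Cfsg.Agent.Lib.PermSmall.AbelianKernel
import Cfsg.Agent.Lib.PermGroup.Basic
import Cfsg.Agent.Lib.Frobenius.Theorem
import Cfsg.Agent.Lib.PermSmall.OddStab

/-!
Normal subgroups of Zassenhaus groups are Zassenhaus groups; simplicity in odd degree.
-/

set_option autoImplicit false

namespace CfsgLib.Zass29

open MulAction
open scoped Pointwise
open CfsgLib.PermSmall.Zassenhaus (pairStab mem_pairStab)

variable {G Ω : Type*} [Group G] [MulAction G Ω]

theorem finite_of_zassenhaus [Finite Ω] (hZ : Cfsg.IsZassenhausGroup G Ω) : Finite G := by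
  haveI := hZ.1
  exact Finite.of_injective (fun g : G => fun x : Ω => g • x) fun g k h =>
    eq_of_smul_eq_smul (α := Ω) fun x => congrFun h x

theorem isPretransitive (hZ : Cfsg.IsZassenhausGroup G Ω) : IsPretransitive G Ω :=
  haveI := hZ.2.1
  isPretransitive_of_is_two_pretransitive

theorem normal_isPretransitive (hZ : Cfsg.IsZassenhausGroup G Ω) (N : Subgroup G) [N.Normal]
    (hN : N ≠ ⊥) : IsPretransitive N Ω := by
  haveI := hZ.1
  haveI := isPreprimitive_of_is_two_pretransitive hZ.2.1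
  exact CfsgLib.PermGroup.isPretransitive_of_normal hN

/-- Some element of a normal subgroup other than `1` fixes two points. -/
theorem exists_fixed_pair [Finite G] [Finite Ω] (hZ : Cfsg.IsZassenhausGroup G Ω) (N : Subgroup G)
    [N.Normal] (hN : N ≠ ⊥) :
    ∃ g ∈ N, g ≠ 1 ∧ ∃ x y : Ω, x ≠ y ∧ g • x = x ∧ g • y = y := by
  haveI := hZ.1
  haveI := normal_isPretransitive hZ N hN
  by_contra hcon
  have hfree : ∀ g ∈ N, ∀ x y : Ω, x ≠ y → g • x = x → g • y = y → g = 1 := fun g hg x y hxy hx hy =>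
    by_contra fun h1 => hcon ⟨g, hg, h1, x, y, hxy, hx, hy⟩
  obtain ⟨a, ha⟩ := hZ.2.2.2.2 N ‹_› inferInstance
  have hFC : Cfsg.IsFrobeniusComplement (stabilizer N a) := by
    refine ⟨ha, ?_, fun g hg => ?_⟩
    · intro htop
      obtain ⟨g₀, -, x, y, hxy, -, -⟩ := hZ.2.2.2.1
      have hall : ∀ z : Ω, z = a := by
        intro z
        obtain ⟨n, rfl⟩ := exists_smul_eq N a z
        exact (htop ▸ Subgroup.mem_top n : n ∈ stabilizer N a)
      exact hxy ((hall x).trans (hall y).symm)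
    · rw [eq_bot_iff]
      rintro x ⟨hx1, hx2⟩
      rw [Subgroup.mem_bot]
      change x ∈ MulAut.conj g • stabilizer N a at hx2
      rw [Subgroup.mem_pointwise_smul_iff_inv_smul_mem] at hx2
      have hx2' : (g⁻¹ * x * g) • a = a := by simpa [← map_inv] using hx2
      rw [mul_smul, mul_smul, inv_smul_eq_iff] at hx2'
      exact Subtype.ext (hfree _ x.2 a (g • a) (fun e => hg e.symm) hx1 hx2')
  obtain ⟨K, hKset, -, hKc⟩ := CfsgLib.Frobenius.exists_normal_kernel hFC
  have hmem : ∀ x : N, x ∈ K ↔ x = 1 ∨ ∀ y : Ω, (x : G) • y ≠ y := by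
    intro x
    rw [← SetLike.mem_coe, hKset]
    refine or_congr_right ⟨fun h y hy => ?_, fun h g hx => ?_⟩
    · obtain ⟨n, rfl⟩ := exists_smul_eq N a y
      refine h n ?_
      rw [Subgroup.mem_pointwise_smul_iff_inv_smul_mem]
      have : (n⁻¹ * x * n) • a = a := by
        rw [mul_smul, mul_smul, inv_smul_eq_iff]; exact hy
      simpa [← map_inv] using this
    · rw [Subgroup.mem_pointwise_smul_iff_inv_smul_mem] at hx
      have : (g⁻¹ * x * g) • a = a := by simpa [← map_inv] using hx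
      rw [mul_smul, mul_smul, inv_smul_eq_iff] at this
      exact h (g • a) this
  haveI hn : (K.map N.subtype).Normal := by
    refine ⟨?_⟩
    rintro _ ⟨x, hx, rfl⟩ g
    refine ⟨⟨g * x * g⁻¹, Subgroup.Normal.conj_mem ‹_› _ x.2 g⟩, ?_, rfl⟩
    refine (hmem _).2 (((hmem x).1 hx).imp (fun h => Subtype.ext (by simp [h])) fun h y hy => ?_)
    change (g * (x : G) * g⁻¹) • y = y at hy
    rw [mul_smul, mul_smul, smul_eq_iff_eq_inv_smul] at hy
    exact h _ hy
  have htra : ∀ y : Ω, ∃ k : K.map N.subtype, k • a = y := by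
    intro y
    obtain ⟨n, rfl⟩ := exists_smul_eq N a y
    obtain ⟨⟨⟨k, hk⟩, ⟨h, hh⟩⟩, hkh, -⟩ := hKc.existsUnique n
    refine ⟨⟨(k : G), k, hk, rfl⟩, ?_⟩
    show (k : N) • a = n • a
    rw [← hkh, mul_smul, show (h : N) • a = a from hh]
  have ht : IsPretransitive (K.map N.subtype) Ω := ⟨fun y z => by
    obtain ⟨k, rfl⟩ := htra y
    obtain ⟨k', rfl⟩ := htra z
    exact ⟨k' * k⁻¹, by rw [mul_smul, inv_smul_smul]⟩⟩
  obtain ⟨b, hb⟩ := hZ.2.2.2.2 _ hn ht
  refine hb ((Subgroup.eq_bot_iff_forall _).mpr ?_)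
  rintro ⟨_, x, hx, rfl⟩ hfix
  rcases (hmem x).1 hx with h | h
  · exact Subtype.ext (by simp [h])
  · exact absurd hfix (h b)

/-- A nontrivial normal subgroup of a Zassenhaus group meets every two-point stabiliser. -/
theorem exists_mem_pairStab [Finite G] [Finite Ω] (hZ : Cfsg.IsZassenhausGroup G Ω) (N : Subgroup G)
    [hNn : N.Normal] (hN : N ≠ ⊥) {a b : Ω} (hab : a ≠ b) :
    ∃ g ∈ pairStab G a b ⊓ N, g ≠ 1 := by
  obtain ⟨g, hg, hg1, x, y, hxy, hx, hy⟩ := exists_fixed_pair hZ N hN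
  obtain ⟨k, rfl, rfl⟩ := PermSmall.Zassenhaus.exists_smul_pair hZ hxy hab
  exact ⟨k * g * k⁻¹, ⟨PermSmall.Zassenhaus.conj_mem_pairStab ⟨hx, hy⟩, hNn.conj_mem g hg k⟩,
    fun e => hg1 (conj_eq_one_iff.1 e)⟩

/-- A nontrivial normal subgroup of a Zassenhaus group is doubly transitive. -/
theorem normal_two_pretransitive [Finite G] [Finite Ω] (hZ : Cfsg.IsZassenhausGroup G Ω)
    (N : Subgroup G) [hNn : N.Normal] (hN : N ≠ ⊥) : IsMultiplyPretransitive N Ω 2 := by
  classical
  haveI := hZ.1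
  haveI := normal_isPretransitive hZ N hN
  -- it suffices that every point stabiliser in `N` is transitive on the other points
  suffices key : ∀ a y z : Ω, y ≠ a → z ≠ a → ∃ n ∈ N, n • a = a ∧ n • y = z by
    rw [is_two_pretransitive_iff]
    intro w x y z hwx hyz
    obtain ⟨m, hm⟩ := exists_smul_eq N w y
    have hne : m • x ≠ y := fun e => hwx (smul_left_cancel m (hm.trans e.symm))
    obtain ⟨n, hn, hny, hnx⟩ := key y _ z hne (Ne.symm hyz)
    refine ⟨⟨n, hn⟩ * m, ?_, ?_⟩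
    · rw [mul_smul, hm]; exact hny
    · rw [mul_smul]; exact hnx
  intro a y z hy hz
  set M : Subgroup G := stabilizer G a ⊓ N
  have horb : ∀ u, u ≠ a → (orbit M u).ncard = (orbit M y).ncard := by
    intro u hu
    obtain ⟨g, hga, hgy⟩ := PermSmall.Zassenhaus.exists_smul_pair hZ (Ne.symm hy) (Ne.symm hu)
    have hga' : g⁻¹ • a = a := inv_smul_eq_iff.2 hga.symm
    have : orbit M u = (fun v => g • v) '' orbit M y := by
      ext v
      constructor
      · rintro ⟨m, rfl⟩
        refine ⟨(g⁻¹ * m * g) • y, ⟨⟨g⁻¹ * m * g, ?_, ?_⟩, rfl⟩, ?_⟩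
        · show (g⁻¹ * (m : G) * g) • a = a
          rw [mul_smul, mul_smul, hga, show (m : G) • a = a from m.2.1, hga']
        · exact hNn.conj_mem' _ m.2.2 g
        · show g • (g⁻¹ * (m : G) * g) • y = (m : G) • u
          rw [← hgy, ← mul_smul, ← mul_smul]; congr 1; group
      · rintro ⟨_, ⟨m, rfl⟩, rfl⟩
        refine ⟨⟨g * m * g⁻¹, ?_, hNn.conj_mem _ m.2.2 g⟩, ?_⟩
        · show (g * (m : G) * g⁻¹) • a = a
          rw [mul_smul, mul_smul, hga', show (m : G) • a = a from m.2.1, hga]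
        · show (g * (m : G) * g⁻¹) • u = g • (m : G) • y
          rw [← hgy, ← mul_smul, ← mul_smul]; congr 1; group
    rw [this, Set.ncard_image_of_injective _ (fun v w h => smul_left_cancel g h)]
  by_contra hcon
  have hzy : z ∉ orbit M y := by
    rintro ⟨m, hm⟩
    exact hcon ⟨m, m.2.2, m.2.1, hm⟩
  obtain ⟨g, hg, hg1⟩ := exists_mem_pairStab hZ N hN (Ne.symm hy : a ≠ y)
  set P : Subgroup G := pairStab G a y ⊓ N
  have hP : ∀ S : Set Ω, (∀ h ∈ P, ∀ v ∈ S, h • v ∈ S) → a ∉ S → y ∉ S → Nat.card P ∣ S.ncard := by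
    intro S hS ha hb
    refine CfsgLib.PermSmall.dvd_ncard_of_stabilizer_card (G := P) (m := 1) one_pos (mul_one _).symm
      S (fun g v hv => hS g g.2 v hv) fun v hv => ?_
    rw [Subgroup.card_eq_one, Subgroup.eq_bot_iff_forall]
    intro h hh
    apply Subtype.ext
    by_contra h1
    exact PermSmall.Zassenhaus.smul_ne hZ (Ne.symm hy) h.2.1 h1 (fun e => ha (e ▸ hv))
      (fun e => hb (e ▸ hv)) hh
  have hPM : P ≤ M := fun h hh => ⟨hh.1.1, hh.2⟩
  have hinv : ∀ u : Ω, ∀ h ∈ P, ∀ v ∈ orbit M u, h • v ∈ orbit M u := by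
    rintro u h hh _ ⟨m, rfl⟩
    exact ⟨⟨h, hPM hh⟩ * m, mul_smul (⟨h, hPM hh⟩ : M) m u⟩
  have hna : ∀ u, u ≠ a → a ∉ orbit M u := by
    rintro u hu ⟨m, hm⟩
    exact hu (smul_left_cancel (m : G) (hm.trans m.2.1.symm))
  have hyz : y ∉ orbit M z := fun h => hzy (mem_orbit_symm.1 h)
  have h1 : Nat.card P ∣ (orbit M y).ncard - 1 := by
    rw [← Set.ncard_sdiff_singleton_of_mem (mem_orbit_self (M := M) y)]
    refine hP _ (fun h hh v hv => ⟨hinv y h hh v hv.1, fun e => hv.2 ?_⟩)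
      (fun h => hna y hy h.1) (fun h => h.2 rfl)
    exact smul_left_cancel h (e.trans hh.1.2.symm)
  have h2 : Nat.card P ∣ (orbit M y).ncard := by
    rw [← horb z hz]
    exact hP _ (hinv z) (hna z hz) hyz
  have h3 : 0 < (orbit M y).ncard := (Set.ncard_pos (Set.toFinite _)).2 ⟨y, mem_orbit_self y⟩
  have h4 : Nat.card P ∣ 1 := by
    have := Nat.dvd_sub h2 h1
    rwa [show (orbit M y).ncard - ((orbit M y).ncard - 1) = 1 by omega] at this
  have : P = ⊥ := Subgroup.card_eq_one.1 (Nat.dvd_one.1 h4)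
  exact hg1 (Subgroup.mem_bot.1 (this ▸ hg))

/-- A nontrivial normal subgroup of a Zassenhaus group is a Zassenhaus group. -/
theorem normal_isZassenhaus [Finite Ω] (hZ : Cfsg.IsZassenhausGroup G Ω)
    (N : Subgroup G) [N.Normal] (hN : N ≠ ⊥) : Cfsg.IsZassenhausGroup N Ω := by
  haveI := finite_of_zassenhaus hZ
  haveI := hZ.1
  obtain ⟨g, hg, hg1, x, y, hxy, hx, hy⟩ := exists_fixed_pair hZ N hN
  have h2 := normal_two_pretransitive hZ N hN
  refine ⟨⟨fun {m k} h => Subtype.ext (eq_of_smul_eq_smul (α := Ω) fun z => h z)⟩, h2,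
    fun m a b c hab hbc hac ha hb hc => Subtype.ext (hZ.2.2.1 m a b c hab hbc hac ha hb hc),
    ⟨⟨g, hg⟩, fun e => hg1 (congrArg Subtype.val e), x, y, hxy, hx, hy⟩, fun R hRn hRt => ?_⟩
  by_contra hall
  simp only [not_exists, ne_eq, not_not] at hall
  haveI := hRn
  haveI := hRt
  exact PermSmall.AbelianKernel.false_of_regular_normal hZ N h2 R hall

/-- A Zassenhaus group of odd degree is simple. -/
theorem isSimpleGroup_of_odd [Fintype Ω] (hZ : Cfsg.IsZassenhausGroup G Ω)
    (hodd : Odd (Fintype.card Ω)) : IsSimpleGroup G := by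
  haveI := finite_of_zassenhaus hZ
  haveI := hZ.1
  obtain ⟨g₀, hg₀, a, b, hab, ha, hb⟩ := hZ.2.2.2.1
  haveI : Nontrivial G := ⟨g₀, 1, hg₀⟩
  have hHodd : Odd (Nat.card (pairStab G a b)) := by
    have h3 := PermSmall.Zassenhaus.three_le_card hZ hab
    have : Odd (Fintype.card Ω - 2) := by
      obtain ⟨k, hk⟩ := hodd
      exact ⟨k - 1, by omega⟩
    exact this.of_dvd_nat (PermSmall.Zassenhaus.card_pairStab_dvd hZ hab)
  refine ⟨fun N hNn => ?_⟩
  by_cases hN : N = ⊥
  · exact Or.inl hN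
  refine Or.inr ((Subgroup.eq_top_iff' N).2 fun g => ?_)
  haveI := hNn
  have h2 := normal_two_pretransitive hZ N hN
  -- an element of `N` exchanging `a` and `b` has a power which is an involution doing the same
  obtain ⟨n, hna, hnb⟩ := is_two_pretransitive_iff.1 h2 hab (Ne.symm hab)
  set m := orderOf (((n : G)) * n)
  have hnn : (n : G) * n ∈ pairStab G a b :=
    mem_pairStab.2 ⟨by rw [mul_smul]; exact (congrArg ((n : G) • ·) hna).trans hnb,
      by rw [mul_smul]; exact (congrArg ((n : G) • ·) hnb).trans hna⟩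
  have hmodd : Odd m := hHodd.of_dvd_nat (by
    have := orderOf_dvd_natCard (⟨_, hnn⟩ : pairStab G a b)
    rwa [← Subgroup.orderOf_coe] at this)
  obtain ⟨j, hj⟩ := hmodd
  set t : G := (n : G) ^ m with ht
  have htN : t ∈ N := pow_mem n.2 m
  have htt : t * t = 1 := by
    rw [ht, ← (Commute.refl (n : G)).mul_pow]
    exact pow_orderOf_eq_one _
  have hsq : (n : G) ^ (2 * j) ∈ pairStab G a b := by
    rw [pow_mul, pow_two]; exact pow_mem hnn j
  have hta : t • a = b := by
    rw [ht, hj, pow_succ', mul_smul, (mem_pairStab.1 hsq).1]; exact hna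
  have htb : t • b = a := by
    rw [ht, hj, pow_succ', mul_smul, (mem_pairStab.1 hsq).2]; exact hnb
  have htne : t ≠ 1 := fun e => hab (by rw [← hta, e, one_smul])
  have hnorm : ∀ h ∈ pairStab G a b, t * h * t⁻¹ ∈ pairStab G a b := by
    intro h hh
    have := PermSmall.Zassenhaus.conj_mem_pairStab (g := t) hh
    rw [hta, htb] at this
    exact ⟨this.2, this.1⟩
  -- `t` centralises no element of the two-point stabiliser but `1`
  let σ : pairStab G a b →* pairStab G a b :=
    { toFun := fun h => ⟨t * h * t⁻¹, hnorm h h.2⟩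
      map_one' := Subtype.ext (by simp)
      map_mul' := fun h k => Subtype.ext (by simp) }
  have hσσ : Function.Involutive σ := fun h => Subtype.ext (by
    show t * (t * h * t⁻¹) * t⁻¹ = h
    rw [inv_eq_of_mul_eq_one_left htt]
    rw [← mul_assoc, ← mul_assoc, htt, one_mul, mul_assoc, htt, mul_one])
  have hfpf : MonoidHom.FixedPointFree σ := by
    intro h hh
    by_contra h1
    have hcomm : t * (h : G) = h * t := mul_inv_eq_iff_eq_mul.1 (congrArg Subtype.val hh)
    -- `t` fixes a point, which `h` must fix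
    have hfix := PermSmall.Zassenhaus.fixedBy_modEq (Ω := Ω) htt
    obtain ⟨c, hc⟩ : ∃ c : Ω, t • c = c := by
      by_contra hne
      simp only [not_exists] at hne
      have : (fixedBy Ω t) = ∅ := Set.eq_empty_of_forall_notMem fun x hx => hne x hx
      simp [this, Nat.ModEq, Nat.odd_iff.1 hodd] at hfix
    have hca : c ≠ a := fun e => hab (by rw [← hta, ← e, hc])
    have hcb : c ≠ b := fun e => hab (by rw [← htb, ← e, hc])
    have hmove := PermSmall.Zassenhaus.smul_ne hZ hab h.2 (fun e => h1 (Subtype.ext e)) hca hcb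
    have hc' : t • (h : G) • c = (h : G) • c := by rw [← mul_smul, hcomm, mul_smul, hc]
    have hle := PermSmall.Zassenhaus.fixedBy_le_two hZ htne
    obtain ⟨k, hk⟩ := hodd
    have h1lt : (fixedBy Ω t).ncard = 1 := by
      rw [Nat.ModEq] at hfix
      rw [Nat.card_coe_set_eq] at hfix hle
      omega
    obtain ⟨z, hz⟩ := Set.ncard_eq_one.1 h1lt
    exact hmove ((hz ▸ hc' : (h : G) • c ∈ ({z} : Set Ω)).trans
      (hz ▸ hc : c ∈ ({z} : Set Ω)).symm)
  have hinv := hfpf.coe_eq_inv_of_involutive hσσ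
  -- hence the two-point stabiliser lies in `N`
  have hHN : ∀ h ∈ pairStab G a b, h ∈ N := by
    intro h hh
    have e : t * h * t⁻¹ = h⁻¹ := congrArg Subtype.val (congrFun hinv ⟨h, hh⟩)
    have h2mem : h⁻¹ * h⁻¹ ∈ N := by
      have h3 : t * (h * t⁻¹ * h⁻¹) ∈ N := mul_mem htN (hNn.conj_mem _ (inv_mem htN) h)
      rwa [show t * (h * t⁻¹ * h⁻¹) = (t * h * t⁻¹) * h⁻¹ by group, e] at h3
    have hh2 : h * h ∈ N := by
      have := inv_mem h2mem
      simpa using this
    obtain ⟨i, hi⟩ := hHodd.of_dvd_nat (Subgroup.orderOf_mk h hh ▸ orderOf_dvd_natCard (⟨h, hh⟩ : pairStab G a b))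
    have : h = (h * h) ^ (i + 1) := by
      rw [← pow_two, ← pow_mul, show 2 * (i + 1) = orderOf h + 1 by omega, pow_succ, pow_orderOf_eq_one,
        one_mul]
    rw [this]
    exact pow_mem hh2 _
  obtain ⟨m', hma, hmb⟩ := is_two_pretransitive_iff.1 h2 hab
    (fun e => hab (smul_left_cancel g e))
  have : (m' : G)⁻¹ * g ∈ pairStab G a b := mem_pairStab.2
    ⟨by rw [mul_smul, inv_smul_eq_iff]; exact hma.symm, by rw [mul_smul, inv_smul_eq_iff]; exact hmb.symm⟩
  have := mul_mem m'.2 (hHN _ this)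
  rwa [mul_inv_cancel_left] at this

end CfsgLib.Zass29
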