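import Cfsg.Agent.Lib.Zass29.SharpNotSimple
import Cfsg.Agent.Lib.PermSmall.OddStab

/-!
# Two-point stabilisers of simple Zassenhaus groups
-/

set_option autoImplicit false

namespace CfsgLib.Zass29.Simple

open MulAction CfsgLib.PermSmall
open CfsgLib.PermSmall.Zassenhaus (pairStab mem_pairStab)

variable {G Ω : Type*} [Group G] [MulAction G Ω] [Fintype Ω]

/-- In a simple Zassenhaus group a two-point stabiliser of even order has order `(n - 2) / 2`. -/
theorem two_mul_card_of_even [Finite G] [IsSimpleGroup G] (hZ : Cfsg.IsZassenhausGroup G Ω)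
    {a b : Ω} (hab : a ≠ b) (heven : Even (Nat.card (pairStab G a b))) :
    2 * Nat.card (pairStab G a b) = Fintype.card Ω - 2 := by
  obtain ⟨k, hk⟩ := Zassenhaus.card_pairStab_dvd hZ hab
  have hle := Zassenhaus.le_two_mul_card hZ hab heven
  have h3 := Zassenhaus.three_le_card hZ hab
  rcases Nat.lt_or_ge k 2 with h | h
  · interval_cases k
    · omega
    · have := Fintype.ofFinite G
      exact (Sharp.false_of_sharp hZ hab heven (by omega)).elim
  · have := Nat.mul_le_mul_left (Nat.card (pairStab G a b)) h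
    omega

/-- With `2 d = n - 2` some involution swapping the two points inverts the two-point stabiliser. -/
theorem exists_inverting [Finite G] (hZ : Cfsg.IsZassenhausGroup G Ω) {a b : Ω} (hab : a ≠ b)
    (heven : Even (Nat.card (pairStab G a b)))
    (hdd : 2 * Nat.card (pairStab G a b) = Fintype.card Ω - 2) :
    ∃ s : G, orderOf s = 2 ∧ s • a = b ∧ s • b = a ∧
      ∀ h ∈ pairStab G a b, s * h * s⁻¹ = h⁻¹ := by
  classical
  set H := pairStab G a b with hH
  set Z : Set G := {z : G | orderOf z = 2 ∧ (∃ x : Ω, z • x = x) ∧ z • a = b ∧ z • b = a}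
  have hm : 2 * Z.ncard = Fintype.card Ω - 2 := Zassenhaus.two_mul_swapping hZ hab heven
  have hHpos : 0 < Nat.card H := Nat.card_pos
  obtain ⟨s, hs⟩ : Z.Nonempty := by
    rw [← Set.ncard_pos (Set.toFinite _)]; omega
  obtain ⟨hs2, -, hsa, hsb⟩ := hs
  have hss := Zassenhaus.sq_eq_one_of_orderOf hs2
  have himg : (fun h : G => s * h) '' (H : Set G) = Z := by
    refine (Set.eq_of_subset_of_ncard_le ?_ ?_ (Set.toFinite _)).symm
    · rintro z ⟨-, -, hza, hzb⟩
      refine ⟨s * z, mem_pairStab.mpr ⟨?_, ?_⟩, ?_⟩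
      · rw [mul_smul, hza, hsb]
      · rw [mul_smul, hzb, hsa]
      · show s * (s * z) = z
        rw [← mul_assoc, hss, one_mul]
    · refine le_trans (Set.ncard_image_le (Set.toFinite _)) ?_
      have : (H : Set G).ncard = Nat.card H := rfl
      omega
  refine ⟨s, hs2, hsa, hsb, fun h hh => ?_⟩
  have hmem : s * h ∈ Z := by rw [← himg]; exact ⟨h, hh, rfl⟩
  have h1 := Zassenhaus.sq_eq_one_of_orderOf hmem.1
  rw [inv_eq_of_mul_eq_one_left hss, eq_inv_iff_mul_eq_one]
  rw [← mul_assoc] at h1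
  exact h1

/-- A simple Zassenhaus group has cyclic two-point stabilisers, inverted by a swapping involution. -/
theorem cyclic_inverted [Finite G] [IsSimpleGroup G] (hZ : Cfsg.IsZassenhausGroup G Ω) {a b : Ω}
    (hab : a ≠ b) :
    IsCyclic (pairStab G a b) ∧
      ∃ v : G, orderOf v = 2 ∧ v • a = b ∧ v • b = a ∧
        ∀ h ∈ pairStab G a b, v * h * v⁻¹ = h⁻¹ := by
  rcases Nat.even_or_odd (Nat.card (pairStab G a b)) with heven | hodd
  · obtain ⟨s, hs2, hsa, hsb, hinv⟩ :=
      exists_inverting hZ hab heven (two_mul_card_of_even hZ hab heven)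
    refine ⟨?_, s, hs2, hsa, hsb, hinv⟩
    have hc : IsMulCommutative (⊤ : Subgroup (pairStab G a b)) := by
      refine ⟨⟨fun g k => Subtype.ext (Subtype.ext ?_)⟩⟩
      have h1 := hinv _ (mul_mem g.1.2 k.1.2)
      rw [show s * ((g.1 : G) * k.1) * s⁻¹ = (s * g.1 * s⁻¹) * (s * k.1 * s⁻¹) by group,
        hinv _ g.1.2, hinv _ k.1.2, mul_inv_rev] at h1
      have := congrArg (·⁻¹) h1
      simpa using this.symm
    have := OddStab.isCyclic_of_commutative hZ hab ⊤ hc
    exact isCyclic_of_surjective (Subgroup.topEquiv : (⊤ : Subgroup (pairStab G a b)) ≃* _)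
      Subgroup.topEquiv.surjective
  · obtain ⟨s, hs2, hsa, hsb⟩ := Zassenhaus.exists_swapping hZ hab
    obtain ⟨hc, -, hinv⟩ := OddStab.cyclic_inverted hZ hab hodd (by
      rintro r hr hrd ⟨N, hN, hidx⟩
      have hrG : r ∣ Nat.card G := hrd.trans (Subgroup.card_subgroup_dvd_card _)
      rcases hN.eq_bot_or_eq_top with e | e
      · rw [e, Subgroup.index_bot] at hidx
        have h2 : 2 ∣ Nat.card G := hs2 ▸ orderOf_dvd_natCard s
        rw [hidx] at h2
        have h2r : 2 = r := (Nat.prime_dvd_prime_iff_eq Nat.prime_two hr).mp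
          (Nat.prime_two.dvd_of_dvd_pow h2)
        exact (Nat.not_even_iff_odd.mpr hodd) (even_iff_two_dvd.mpr (h2r ▸ hrd))
      · rw [e, Subgroup.index_top, eq_comm, Nat.pow_eq_one] at hidx
        rcases hidx with h | h
        · exact hr.ne_one h
        · exact (hr.factorization_pos_of_dvd Nat.card_pos.ne' hrG).ne' h)
    exact ⟨hc, s, hs2, hsa, hsb, hinv s hsa hsb⟩

end CfsgLib.Zass29.Simple
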