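import Cfsg.Agent.Lib.Zass29.Normal
import Cfsg.Agent.Lib.Frobenius.FPFThompson
import Mathlib.FieldTheory.Fixed
import Mathlib.GroupTheory.SpecificGroups.ZGroup

/-!
Doubly transitive groups with a regular normal subgroup in which only the identity fixes three points
and some other element fixes two: the degree is `2 ^ p` with `p` prime.
-/

set_option autoImplicit false

namespace CfsgLib.Zass29

open MulAction
open scoped Pointwise

variable {G Ω : Type*} [Group G] [MulAction G Ω]

/-- The fixed field of an automorphism of prime order `r` with fixed points `0, 1` has `2 ^ r` elements. -/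
theorem card_of_fixed_two {R : Type*} [Field R] [Finite R] (σ : R ≃+* R) {r : ℕ} (hr : r.Prime)
    (hσr : σ ^ r = 1) (hfix : ∀ x, σ x = x → x = 0 ∨ x = 1) {f : ℕ} (hf : 1 < f)
    (hcard : Nat.card R = 2 ^ f) : f.Prime := by
  classical
  haveI := Fintype.ofFinite R
  by_cases hσ : σ = 1
  · exfalso
    have hle : Nat.card R ≤ 2 := by
      have : (Finset.univ : Finset R) ⊆ {0, 1} := fun x _ => by
        simpa using hfix x (by rw [hσ]; rfl)
      have := Finset.card_le_card this
      rw [Finset.card_univ] at this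
      rw [Nat.card_eq_fintype_card]
      exact this.trans Finset.card_le_two
    have : 4 ≤ 2 ^ f := by simpa using Nat.pow_le_pow_right (show 0 < 2 by norm_num) hf
    omega
  let S : Subgroup (R ≃+* R) := Subgroup.zpowers σ
  haveI : Finite (R ≃+* R) := Finite.of_injective (fun e => (e : R → R)) DFunLike.coe_injective
  haveI := Fintype.ofFinite S
  have hS : Nat.card S = r := by
    rw [Nat.card_zpowers]
    haveI := Fact.mk hr
    exact orderOf_eq_prime hσr hσ
  have hsub : Nat.card (FixedPoints.subfield S R) = 2 := by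
    have : (FixedPoints.subfield S R : Set R) = {0, 1} := by
      ext x
      simp only [SetLike.mem_coe, Set.mem_insert_iff, Set.mem_singleton_iff]
      refine ⟨fun h => hfix x (h ⟨σ, Subgroup.mem_zpowers σ⟩), ?_⟩
      rintro (rfl | rfl)
      · exact zero_mem _
      · exact one_mem _
    show (FixedPoints.subfield S R : Set R).ncard = 2
    rw [this, Set.ncard_pair zero_ne_one]
  haveI := Fintype.ofFinite (FixedPoints.subfield S R)
  have h := Module.card_eq_pow_finrank (K := FixedPoints.subfield S R) (V := R)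
  rw [FixedPoints.finrank_eq_card S R, ← Nat.card_eq_fintype_card, ← Nat.card_eq_fintype_card,
    ← Nat.card_eq_fintype_card, hsub, hS, hcard] at h
  rwa [Nat.pow_right_injective le_rfl h]

theorem regular_normal_degree [Fintype Ω] [FaithfulSMul G Ω]
    (h2 : IsMultiplyPretransitive G Ω 2)
    (h3 : ∀ g : G, ∀ a b c : Ω, a ≠ b → b ≠ c → a ≠ c → g • a = a → g • b = b → g • c = c → g = 1)
    (hfix : ∃ g : G, g ≠ 1 ∧ ∃ a b : Ω, a ≠ b ∧ g • a = a ∧ g • b = b)
    (N : Subgroup G) [hNn : N.Normal] (hNt : IsPretransitive N Ω)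
    (hNr : ∀ a : Ω, stabilizer N a = ⊥) :
    ∃ p : ℕ, p.Prime ∧ Fintype.card Ω = 2 ^ p := by
  classical
  haveI : Finite G := Finite.of_injective (fun g : G => fun x : Ω => g • x) fun g k h =>
    eq_of_smul_eq_smul (α := Ω) fun x => congrFun h x
  obtain ⟨g, hg1, a, b, hab, hga, hgb⟩ := hfix
  haveI : Nonempty Ω := ⟨a⟩
  have hcardN : Nat.card N = Fintype.card Ω := by
    rw [PermGroup.card_eq_of_regular hNr a, Nat.card_eq_fintype_card]
  obtain ⟨c, hca, hcb⟩ : ∃ c, c ≠ a ∧ c ≠ b := by
    by_contra hall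
    simp only [not_exists, not_and, not_not] at hall
    refine hg1 (eq_of_smul_eq_smul (α := Ω) fun z => ?_)
    rw [one_smul]
    by_cases hz : z = a
    · rw [hz, hga]
    · rw [hall z hz, hgb]
  have hΩ : 3 ≤ Fintype.card Ω := by
    have := Finset.card_le_univ ({a, b, c} : Finset Ω)
    rw [show ({a, b, c} : Finset Ω).card = 3 by simp [hab, Ne.symm hca, Ne.symm hcb]] at this
    exact this
  have hNne : N ≠ ⊥ := by
    intro h
    rw [h, Subgroup.card_bot] at hcardN
    omega
  obtain ⟨hNc, p, hp, hpow⟩ := PermGroup.regular_normal_elementary h2 N hNne hNr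
  -- the exponent is two
  obtain ⟨⟨nb, hnbN⟩, hnb⟩ := exists_smul_eq N a b
  change nb • a = b at hnb
  have hcomm : g * nb * g⁻¹ = nb := by
    refine PermGroup.semiregular_inj' hNr (hNn.conj_mem nb hnbN g) hnbN (x := a) ?_
    rw [← PermGroup.smul_smul_of_fix hga, hnb, hgb]
  have hnb1 : nb ≠ 1 := fun e => hab (by rw [← hnb, e, one_smul])
  have hnb2 : nb * nb = 1 := by
    have hfix2 : g • (nb * nb) • a = (nb * nb) • a := by
      rw [PermGroup.smul_smul_of_fix hga,
        show g * (nb * nb) * g⁻¹ = (g * nb * g⁻¹) * (g * nb * g⁻¹) by group, hcomm]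
    by_contra hne
    have e1 : (nb * nb) • a ≠ a := fun e =>
      hne (PermGroup.semiregular_eq_one' hNr (mul_mem hnbN hnbN) e)
    have e2 : (nb * nb) • a ≠ b := fun e => hnb1 (by
      simpa using PermGroup.semiregular_inj' hNr (mul_mem hnbN hnbN) hnbN (e.trans hnb.symm))
    exact hg1 (h3 g a b _ hab (Ne.symm e2) (Ne.symm e1) hga hgb hfix2)
  have hp2 : p = 2 := by
    have h1 : orderOf nb ∣ p := orderOf_dvd_of_pow_eq_one (hpow nb hnbN)
    haveI := Fact.mk Nat.prime_two
    rw [orderOf_eq_prime (show nb ^ 2 = 1 by rw [pow_two]; exact hnb2) hnb1] at h1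
    exact ((Nat.prime_dvd_prime_iff_eq Nat.prime_two hp).1 h1).symm
  subst hp2
  haveI := Fact.mk Nat.prime_two
  obtain ⟨f, hf⟩ : ∃ f, Nat.card N = 2 ^ f := by
    refine IsPGroup.iff_card.1 fun n : N => ⟨1, Subtype.ext ?_⟩
    simpa using hpow n n.2
  have hf1 : 1 < f := by
    by_contra hcon
    have : f = 0 ∨ f = 1 := by omega
    rcases this with rfl | rfl <;> · rw [hf] at hcardN; simp at hcardN; omega
  refine ⟨f, ?_, hcardN ▸ hf⟩
  -- the point stabiliser is a Frobenius group on the other points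
  set H := stabilizer G a
  set D : Subgroup H := (stabilizer G b).subgroupOf H with hD
  have hDfix : ∀ (h : H), h ∈ D ↔ (h : G) • b = b := fun h => Iff.rfl
  have hDC : Cfsg.IsFrobeniusComplement D := by
    refine ⟨fun hbot => hg1 ?_, fun htop => ?_, fun h hh => ?_⟩
    · have hmem : (⟨g, hga⟩ : H) ∈ D := hgb
      rw [hbot, Subgroup.mem_bot] at hmem
      exact congrArg Subtype.val hmem
    · obtain ⟨k, hka, hkb⟩ := is_two_pretransitive_iff.1 h2 hab (Ne.symm hca)
      exact hcb (hkb.symm.trans ((htop ▸ Subgroup.mem_top _ : (⟨k, hka⟩ : H) ∈ D)))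
    · rw [eq_bot_iff]
      rintro x ⟨hx1, hx2⟩
      rw [Subgroup.mem_bot]
      change x ∈ MulAut.conj h • D at hx2
      rw [Subgroup.mem_pointwise_smul_iff_inv_smul_mem] at hx2
      have hx2' : ((h : G)⁻¹ * x * h) • b = b := by simpa [hDfix, ← map_inv] using hx2
      rw [mul_smul, mul_smul, inv_smul_eq_iff] at hx2'
      refine Subtype.ext (h3 x a b ((h : G) • b) hab (fun e => hh ?_) (fun e => hab ?_) x.2 hx1 hx2')
      · exact e.symm
      · exact smul_left_cancel (h : G) ((h.2 : (h : G) • a = a).trans e)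
  obtain ⟨K, hKset, hKn, hKc⟩ := Frobenius.exists_normal_kernel hDC
  have hKfree : ∀ k ∈ K, ∀ y : Ω, y ≠ a → (k : G) • y = y → k = 1 := by
    intro k hk y hy hky
    rw [← SetLike.mem_coe, hKset] at hk
    refine hk.resolve_right fun hall => ?_
    obtain ⟨h, hha, hhb⟩ := is_two_pretransitive_iff.1 h2 hab (Ne.symm hy)
    refine hall ⟨h, hha⟩ ?_
    rw [Subgroup.mem_pointwise_smul_iff_inv_smul_mem]
    have : (h⁻¹ * (k : G) * h) • b = b := by rw [mul_smul, mul_smul, hhb, hky, inv_smul_eq_iff, hhb]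
    simpa [hDfix, ← map_inv] using this
  have hKtr : ∀ y : Ω, y ≠ a → ∃ k ∈ K, ((k : H) : G) • b = y := by
    intro y hy
    obtain ⟨h, hha, hhb⟩ := is_two_pretransitive_iff.1 h2 hab (Ne.symm hy)
    obtain ⟨⟨⟨k, hk⟩, ⟨d, hd⟩⟩, hkd, -⟩ := hKc.existsUnique (⟨h, hha⟩ : H)
    refine ⟨k, hk, ?_⟩
    have : ((k : G) * d) = h := congrArg Subtype.val hkd
    rw [← hhb, ← this, mul_smul, (hDfix d).1 hd]
  have hKcard : Nat.card K = Fintype.card Ω - 1 := by
    rw [Nat.card_eq_of_bijective
      (fun k : K => (⟨((k : H) : G) • b, fun e => hab (smul_left_cancel ((k : H) : G)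
        (((k : H).2 : ((k : H) : G) • a = a).trans e.symm))⟩ : {y : Ω // y ≠ a})) ⟨?_, ?_⟩]
    · haveI := Fintype.ofFinite {y : Ω // y ≠ a}
      rw [Nat.card_eq_fintype_card, Fintype.card_subtype_compl,
        Fintype.card_subtype_eq]
    · intro k k' e
      have e' : ((k : H) : G) • b = ((k' : H) : G) • b := congrArg Subtype.val e
      have := hKfree ((k' : H)⁻¹ * k) (mul_mem (inv_mem k'.2) k.2) b (Ne.symm hab)
        (by rw [Subgroup.coe_mul, Subgroup.coe_inv, mul_smul, e', inv_smul_smul])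
      exact Subtype.ext (inv_mul_eq_one.1 this).symm
    · rintro ⟨y, hy⟩
      obtain ⟨k, hk, e⟩ := hKtr y hy
      exact ⟨⟨k, hk⟩, Subtype.ext e⟩
  have hKodd : Odd (Nat.card K) := by
    rw [hKcard, ← hcardN, hf]
    exact Nat.Even.sub_odd (by omega) (Nat.even_pow.2 ⟨even_two, by omega⟩) odd_one
  haveI : Nontrivial K := Finite.one_lt_card_iff_nontrivial.1 (by omega)
  -- an element of prime order in the two-point stabiliser
  haveI : Nontrivial D := (Subgroup.nontrivial_iff_ne_bot D).2 hDC.1
  obtain ⟨r, hr, hrD⟩ := Nat.exists_prime_and_dvd (Finite.one_lt_card (α := D)).ne'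
  haveI := Fact.mk hr
  obtain ⟨⟨d, hd⟩, hdr⟩ := exists_prime_orderOf_dvd_card' r hrD
  rw [← Subgroup.orderOf_coe] at hdr
  change orderOf d = r at hdr
  have hd1 : (d : G) ≠ 1 := fun e => by
    have : d = 1 := Subtype.ext e
    rw [this, orderOf_one] at hdr
    exact hr.one_lt.ne hdr
  haveI := hKn
  let α : K ≃* K := MulAut.conjNormal d
  have hαfix : ∀ k : K, α k = k → k = 1 := by
    intro k hk
    have e : (d : H) * k * d⁻¹ = k := by
      have := congrArg Subtype.val hk
      rwa [MulAut.conjNormal_apply] at this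
    have e' : (d : G) * (k : H) = (k : H) * d := congrArg Subtype.val (mul_inv_eq_iff_eq_mul.1 e)
    by_contra hk1
    have hkb : ((k : H) : G) • b ≠ b := fun h => hk1 (Subtype.ext (hKfree k k.2 b (Ne.symm hab) h))
    have hka : ((k : H) : G) • b ≠ a := fun h => hab
      (smul_left_cancel ((k : H) : G) (((k : H).2 : ((k : H) : G) • a = a).trans h.symm))
    refine hd1 (h3 (d : G) a b _ hab (Ne.symm hkb) (Ne.symm hka) d.2 hd ?_)
    rw [← mul_smul, e', mul_smul, (hDfix d).1 hd]
  have hαord : orderOf α = r := by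
    refine orderOf_eq_prime ?_ fun e => ?_
    · rw [← map_pow, ← hdr, pow_orderOf_eq_one, map_one]
    · obtain ⟨k, hk⟩ := exists_ne (1 : K)
      exact hk (hαfix k (by rw [e]; rfl))
  haveI hnil : Group.IsNilpotent K := Frobenius.Thompson.isNilpotent_of_orderOf α
    (fun k hk => hαfix k hk) hr hαord
  -- the action on the regular subgroup
  letI : CommGroup N := { (inferInstance : Group N) with mul_comm := hNc.is_comm.comm }
  letI : MulDistribMulAction H N :=
    MulDistribMulAction.compHom N ((MulAut.conjNormal (H := N)).comp H.subtype)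
  have hsmul : ∀ (h : H) (n : N), ((h • n : N) : G) = (h : G) * n * (h : G)⁻¹ := fun h n => by
    show ((MulAut.conjNormal (h : G) n : N) : G) = _
    rw [MulAut.conjNormal_apply]
  have hfixpt : ∀ (h : H) (n : N), h • n = n → (h : G) • (n : G) • a = (n : G) • a := by
    intro h n e
    rw [PermGroup.smul_smul_of_fix (h.2 : (h : G) • a = a)]
    exact congrArg (· • a) ((hsmul h n).symm.trans (congrArg Subtype.val e))
  have hKN : Frobenius.IsFPF K N := by
    intro k hk n hn
    by_contra hn1
    refine hk (Subtype.ext (hKfree k k.2 ((n : G) • a) (fun e => hn1 ?_) (hfixpt k n hn)))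
    exact Subtype.ext (PermGroup.semiregular_eq_one' hNr n.2 e)
  haveI : Nontrivial N := (Subgroup.nontrivial_iff_ne_bot N).2 hNne
  haveI hKcyc : IsCyclic K := by
    haveI : IsZGroup K := PermSmall.OddStab.isZGroup_of_abelian_cyclic hKodd fun L hL => by
      haveI := hL
      exact Frobenius.IsFPF.isCyclic_of_commutative (hKN.comp L.subtype L.subtype_injective)
    infer_instance
  -- the field
  let ρ : H →* AddMonoid.End (Additive N) :=
    { toFun := fun h =>
        { toFun := fun x => Additive.ofMul (h • x.toMul)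
          map_zero' := by simp
          map_add' := fun x y => by simp [smul_mul'] }
      map_one' := AddMonoidHom.ext fun x => congrArg Additive.ofMul (one_smul H x.toMul)
      map_mul' := fun h k => AddMonoidHom.ext fun x => congrArg Additive.ofMul (mul_smul h k x.toMul) }
  have hρ : ∀ (h : H) (x : Additive N), ρ h x = Additive.ofMul (h • x.toMul) := fun h x => rfl
  set Sg : Set (AddMonoid.End (Additive N)) := {φ | ∃ k ∈ K, φ = ρ k} with hSg
  have hScomm : ∀ x ∈ Sg, ∀ y ∈ Sg, x * y = y * x := by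
    rintro x ⟨k, hk, rfl⟩ y ⟨k', hk', rfl⟩
    letI := hKcyc.commGroup
    rw [← map_mul, ← map_mul]
    exact congrArg ρ (congrArg Subtype.val (mul_comm (⟨k, hk⟩ : K) ⟨k', hk'⟩))
  let R := Subring.closure Sg
  letI : CommRing R := Subring.closureCommRingOfComm hScomm
  have hcent : ∀ φ ∈ R, ∀ k ∈ K, φ * ρ k = ρ k * φ := by
    intro φ hφ k hk
    exact congrArg Subtype.val (mul_comm (⟨φ, hφ⟩ : R) ⟨ρ k, Subring.subset_closure ⟨k, hk, rfl⟩⟩)
  -- the orbit of the point corresponding to `b`
  set v : Additive N := Additive.ofMul ⟨nb, hnbN⟩ with hv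
  have horb : ∀ x : Additive N, x ≠ 0 → ∃ k ∈ K, ρ k v = x := by
    intro x hx
    have hxa : (x.toMul : G) • a ≠ a := fun e => hx (by
      have : x.toMul = 1 := Subtype.ext (PermGroup.semiregular_eq_one' hNr x.toMul.2 e)
      simpa using congrArg Additive.ofMul this)
    obtain ⟨k, hk, e⟩ := hKtr _ hxa
    refine ⟨k, hk, ?_⟩
    rw [hρ]
    refine congrArg Additive.ofMul (Subtype.ext
      (PermGroup.semiregular_inj' hNr (SetLike.coe_mem _) x.toMul.2 (x := a) ?_))
    refine Eq.trans ?_ e
    rw [hsmul]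
    show ((k : G) * nb * (k : G)⁻¹) • a = (k : G) • b
    rw [← PermGroup.smul_smul_of_fix (k.2 : (k : G) • a = a), hnb]
  have hinj : ∀ φ : R, (φ : AddMonoid.End (Additive N)) v = 0 → φ = 0 := by
    intro φ hφ
    refine Subtype.ext (AddMonoidHom.ext fun x => ?_)
    by_cases hx : x = 0
    · rw [hx]
      exact (map_zero _).trans (map_zero _).symm
    · obtain ⟨k, hk, rfl⟩ := horb x hx
      have h' : (φ : AddMonoid.End (Additive N)) (ρ k v) = ρ k ((φ : AddMonoid.End (Additive N)) v) :=
        congrArg (fun F : AddMonoid.End (Additive N) => F v) (hcent φ φ.2 k hk)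
      refine h'.trans ?_
      rw [hφ, map_zero]
      rfl
  have hv0 : v ≠ 0 := fun e => hnb1 (congrArg (fun w : Additive N => ((w.toMul : N) : G)) e)
  haveI : Nontrivial R := by
    refine ⟨⟨1, 0, fun e => hv0 ?_⟩⟩
    exact congrArg (fun F : R => (F : AddMonoid.End (Additive N)) v) e
  haveI : NoZeroDivisors R := ⟨fun {x y} hxy => by
    by_contra hne
    simp only [not_or] at hne
    have hy : (y : AddMonoid.End (Additive N)) v ≠ 0 := fun e => hne.2 (hinj y e)
    obtain ⟨k, hk, hkv⟩ := horb _ hy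
    refine hne.1 (hinj x ?_)
    have h0 : (x : AddMonoid.End (Additive N)) ((y : AddMonoid.End (Additive N)) v) = 0 :=
      congrArg (fun F : R => (F : AddMonoid.End (Additive N)) v) hxy
    rw [← hkv] at h0
    have : (x : AddMonoid.End (Additive N)) (ρ k v) = ρ k ((x : AddMonoid.End (Additive N)) v) :=
      congrArg (fun F : AddMonoid.End (Additive N) => F v) (hcent x x.2 k hk)
    rw [this, hρ] at h0
    have hz : k • ((x : AddMonoid.End (Additive N)) v).toMul = 1 := by
      simpa using congrArg Additive.toMul h0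
    rw [smul_eq_iff_eq_inv_smul, smul_one] at hz
    simpa using congrArg Additive.ofMul hz⟩
  haveI : IsDomain R := NoZeroDivisors.to_isDomain R
  haveI : Finite (AddMonoid.End (Additive N)) :=
    Finite.of_injective (fun φ => (φ : Additive N → Additive N)) DFunLike.coe_injective
  haveI := Fintype.ofFinite R
  letI : Field R := Fintype.fieldOfDomain R
  have hcardR : Nat.card R = 2 ^ f := by
    rw [← hf, show Nat.card N = Nat.card (Additive N) from rfl]
    refine Nat.card_eq_of_bijective (fun φ : R => (φ : AddMonoid.End (Additive N)) v) ⟨?_, fun x => ?_⟩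
    · intro φ ψ e
      rw [← sub_eq_zero]
      refine hinj _ ?_
      show (φ : AddMonoid.End (Additive N)) v - (ψ : AddMonoid.End (Additive N)) v = 0
      exact sub_eq_zero.2 e
    · by_cases hx : x = 0
      · exact ⟨0, hx.symm⟩
      · obtain ⟨k, hk, e⟩ := horb x hx
        exact ⟨⟨ρ k, Subring.subset_closure ⟨k, hk, rfl⟩⟩, e⟩
  have hmem : ∀ (h : H), ∀ φ ∈ R, ρ h * φ * ρ h⁻¹ ∈ R := by
    intro h φ hφ
    induction hφ using Subring.closure_induction with
    | mem x hx =>
      obtain ⟨k, hk, rfl⟩ := hx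
      rw [← map_mul, ← map_mul]
      exact Subring.subset_closure ⟨_, hKn.conj_mem k hk h, rfl⟩
    | zero => simp
    | one =>
      rw [mul_one, ← map_mul, mul_inv_cancel, map_one]
      exact one_mem _
    | add x y _ _ hx hy => rw [mul_add, add_mul]; exact add_mem hx hy
    | neg x _ hx =>
      rw [show ρ h * -x * ρ h⁻¹ = -(ρ h * x * ρ h⁻¹) from
        AddMonoidHom.ext fun z => map_neg (ρ h) _]
      exact neg_mem hx
    | mul x y _ _ hx hy =>
      rw [show ρ h * (x * y) * ρ h⁻¹ = (ρ h * x * ρ h⁻¹) * (ρ h * y * ρ h⁻¹) by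
        simp only [mul_assoc]
        rw [← mul_assoc (ρ h⁻¹) (ρ h), ← map_mul, inv_mul_cancel, map_one, one_mul]]
      exact mul_mem hx hy
  have hone : ρ d * ρ d⁻¹ = 1 ∧ ρ d⁻¹ * ρ d = 1 := by
    constructor <;> rw [← map_mul] <;> simp
  let σ : R ≃+* R :=
    { toFun := fun φ => ⟨ρ d * φ * ρ d⁻¹, hmem d φ φ.2⟩
      invFun := fun φ => ⟨ρ d⁻¹ * φ * ρ d, by simpa using hmem d⁻¹ φ φ.2⟩
      left_inv := fun φ => Subtype.ext (by
        show ρ d⁻¹ * (ρ d * φ * ρ d⁻¹) * ρ d = φ
        simp only [← mul_assoc, hone.2, one_mul]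
        rw [mul_assoc, hone.2, mul_one])
      right_inv := fun φ => Subtype.ext (by
        show ρ d * (ρ d⁻¹ * φ * ρ d) * ρ d⁻¹ = φ
        simp only [← mul_assoc, hone.1, one_mul]
        rw [mul_assoc, hone.1, mul_one])
      map_mul' := fun φ ψ => Subtype.ext (by
        show ρ d * (↑φ * ↑ψ) * ρ d⁻¹ = (ρ d * φ * ρ d⁻¹) * (ρ d * ψ * ρ d⁻¹)
        simp only [mul_assoc]
        rw [← mul_assoc (ρ d⁻¹) (ρ d), hone.2, one_mul])
      map_add' := fun φ ψ => Subtype.ext (by
        show ρ d * (↑φ + ↑ψ) * ρ d⁻¹ = ρ d * φ * ρ d⁻¹ + ρ d * ψ * ρ d⁻¹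
        rw [mul_add, add_mul]) }
  have hσpow : ∀ (j : ℕ) (φ : R), ((σ ^ j) φ : AddMonoid.End (Additive N)) = ρ (d ^ j) * φ * ρ (d ^ j)⁻¹ := by
    intro j
    induction j with
    | zero => intro φ; simp
    | succ j ih =>
      intro φ
      rw [pow_succ, RingAut.mul_apply, ih]
      show ρ (d ^ j) * (ρ d * φ * ρ d⁻¹) * ρ (d ^ j)⁻¹ = _
      rw [pow_succ, mul_inv_rev, map_mul, map_mul]
      simp only [mul_assoc]
  refine card_of_fixed_two σ hr (RingEquiv.ext fun φ => Subtype.ext ?_) (fun φ hφ => ?_) hf1 hcardR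
  · rw [hσpow, ← hdr, pow_orderOf_eq_one]
    simp
  · -- a fixed element maps `v` to a fixed vector
    have hdv : ρ d v = v := by
      rw [hρ]
      refine congrArg Additive.ofMul (Subtype.ext ?_)
      rw [hsmul]
      refine PermGroup.semiregular_inj' hNr (hNn.conj_mem nb hnbN d) hnbN (x := a) ?_
      show ((d : G) * nb * (d : G)⁻¹) • a = nb • a
      rw [← PermGroup.smul_smul_of_fix (d.2 : (d : G) • a = a), hnb]
      exact hd
    have hdv' : ρ d⁻¹ v = v := by
      conv_lhs => rw [← hdv]
      show (ρ d⁻¹ * ρ d) v = v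
      rw [hone.2]; rfl
    have e := congrArg (fun F : R => (F : AddMonoid.End (Additive N)) v) hφ
    change ρ d ((φ : AddMonoid.End (Additive N)) (ρ d⁻¹ v)) = (φ : AddMonoid.End (Additive N)) v at e
    rw [hdv'] at e
    set w := (φ : AddMonoid.End (Additive N)) v with hw
    have hfx : (d : G) • ((w.toMul : N) : G) • a = ((w.toMul : N) : G) • a :=
      hfixpt d w.toMul (congrArg Additive.toMul e)
    by_cases hwa : ((w.toMul : N) : G) • a = a
    · left
      refine hinj φ ?_
      simpa using congrArg Additive.ofMul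
        (Subtype.ext (PermGroup.semiregular_eq_one' hNr w.toMul.2 hwa) : w.toMul = 1)
    · right
      have hwb : ((w.toMul : N) : G) • a = b := by
        by_contra hwb
        exact hd1 (h3 d a b _ hab (Ne.symm hwb) (Ne.symm hwa) d.2 hd hfx)
      have hwv : w = v := congrArg Additive.ofMul (Subtype.ext
        (PermGroup.semiregular_inj' hNr w.toMul.2 hnbN (hwb.trans hnb.symm)))
      rw [← sub_eq_zero]
      refine hinj _ ?_
      show (φ : AddMonoid.End (Additive N)) v - v = 0
      exact sub_eq_zero.2 hwv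

end CfsgLib.Zass29
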