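import Cfsg.Agent.Lib.PermSmall.FeitSimple
import Cfsg.Agent.Lib.Characters.TIFNChar
import Cfsg.Agent.Lib.OddChar.FeitSibley

/-!
# Coherence forces large two-point stabilisers

For a Zassenhaus group with two-point stabilisers of odd order `d` and non-abelian translations, if
the characters of a point stabiliser non-constant on the translations are coherent, then `n - 2 ≤ 2 d`.
-/

set_option autoImplicit false
set_option linter.style.haveILetI false
set_option linter.unusedSectionVars false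

noncomputable section

namespace CfsgLib.Zass29.FeitCoh

open MulAction Cfsg CfsgLib.Characters CfsgLib.Chars17 CfsgLib.PermSmall CfsgLib.FrobKernelChar
open CfsgLib.PermSmall.FeitFrame (Frame)
open CfsgLib.PermSmall.FeitDual (fn)
open scoped ComplexConjugate
open scoped Classical commutatorElement

universe u

/-- A group all of whose irreducible characters are linear is commutative. -/
theorem comm_of_linear {X : Type u} [Group X] [Fintype X]
    (h : ∀ θ : IrrCharacter X, (θ : X → ℂ) 1 = 1) : IsMulCommutative X := by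
  refine ⟨⟨fun x y => ?_⟩⟩
  by_contra hne
  have hg : x * y * (y * x)⁻¹ ≠ 1 := fun e => hne (mul_inv_eq_one.mp e)
  have hs := sum_degree_mul_irr (G := X) (x * y * (y * x)⁻¹)
  rw [if_neg hg, Finset.sum_congr rfl (g := fun _ => (1 : ℂ)) fun θ _ => ?_] at hs
  · simp only [Finset.sum_const, nsmul_eq_mul, mul_one, Nat.cast_eq_zero] at hs
    exact Finset.card_ne_zero.mpr ⟨principalIrr X, Finset.mem_univ _⟩ hs
  · set f := CfsgLib.CharIto.linearHom (irr_isCharacter θ) (h θ)
    rw [h θ, one_mul]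
    show (f (x * y * (y * x)⁻¹) : ℂ) = 1
    rw [map_mul, map_inv, map_mul, map_mul, mul_comm (f y), mul_inv_cancel, Units.val_one]

variable {G : Type u} {Ω : Type*} [Group G] [Fintype G] [MulAction G Ω] [Fintype Ω]
variable {a b : Ω} (T : Frame G a b)

set_option maxHeartbeats 4000000 in
/-- The main inequality in the coherent case. -/
theorem le_of_coherent (hN : Subgroup.normalizer (T.F : Set G) = T.M)
    (hTI : ∀ g : G, g ∉ Subgroup.normalizer (T.F : Set G) → ∀ k ∈ T.F, g * k * g⁻¹ ∈ T.F → k = 1)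
    (hC : ∀ k ∈ T.F, k ≠ 1 → Subgroup.centralizer ({k} : Set G) ≤ T.F)
    (hd : 1 < Nat.card T.H) (hna : ¬ IsMulCommutative T.F)
    [Fintype ↥(Subgroup.normalizer (T.F : Set G))]
    (hcoh : Cfsg.IsCoherent {χ : ↥(Subgroup.normalizer (T.F : Set G)) → ℂ |
        Cfsg.IsIrrCharacter ↥(Subgroup.normalizer (T.F : Set G)) χ ∧
          ∃ k : ↥(Subgroup.normalizer (T.F : Set G)), (k : G) ∈ T.F ∧ χ k ≠ χ 1} {1}ᶜ
      (fun α => Cfsg.indFun (Subgroup.normalizer (T.F : Set G)) α)) :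
    Fintype.card Ω - 2 ≤ 2 * Nat.card T.H := by
  by_contra hcon
  obtain ⟨-, star, hstar, hext⟩ := hcoh
  set K : Subgroup ↥(Subgroup.normalizer (T.F : Set G)) :=
    T.F.subgroupOf (Subgroup.normalizer (T.F : Set G)) with hK
  haveI : K.Normal := Subgroup.normal_in_normalizer
  have hfree := CfsgLib.TIFNChar.free hC
  have hKN : T.F ≤ Subgroup.normalizer (T.F : Set G) := Subgroup.le_normalizer
  let eK : K ≃* T.F := Subgroup.subgroupOfEquivOfLe hKN
  have hKcard : Nat.card K = Nat.card T.F := Nat.card_congr eK.toEquiv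
  set d := Nat.card T.H with hd'
  set n := Nat.card T.F with hn
  have hM : Nat.card ↥(Subgroup.normalizer (T.F : Set G)) = n * d := by rw [hN, T.card_M]
  have hn0 : 0 < n := Nat.card_pos
  have hidx : K.index = d := by
    have h := K.card_mul_index
    rw [hKcard, hM] at h
    exact Nat.eq_of_mul_eq_mul_left hn0 h
  have hCK : ∀ k ∈ K, k ≠ 1 → Subgroup.centralizer ({k} : Set _) ≤ K :=
    CfsgLib.OddChar.kernel_of_le_normalizer hC
  -- the relevant characters
  set R := relSet K with hR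
  have hRset : CfsgLib.OddChar.indAboveFinset K ⊥ =
      R.image (fun χ : IrrCharacter _ => (χ : ↥(Subgroup.normalizer (T.F : Set G)) → ℂ)) := by
    apply Finset.coe_injective
    rw [CfsgLib.OddChar.indAbove_bot_eq hCK, Finset.coe_image]
    ext φ
    simp only [Set.mem_ofPred_eq, Set.mem_image, Finset.mem_coe]
    exact ⟨fun ⟨h, hr⟩ => ⟨⟨φ, h⟩, mem_relSet.mpr hr, rfl⟩,
      fun ⟨χ, hχ, e⟩ => e ▸ ⟨χ.2, mem_relSet.mp hχ⟩⟩
  -- degrees are multiples of the index
  have hf : ∀ χ ∈ R, ∃ f : ℕ, charDegree ((χ : IrrCharacter _) :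
      ↥(Subgroup.normalizer (T.F : Set G)) → ℂ) = d * f ∧ 0 < f := by
    intro χ hχ
    have hmem : (χ : ↥(Subgroup.normalizer (T.F : Set G)) → ℂ) ∈ CfsgLib.OddChar.indAboveFinset K ⊥ :=
      hRset ▸ Finset.mem_image_of_mem _ hχ
    obtain ⟨θ, -, hθ⟩ := Finset.mem_image.mp hmem
    obtain ⟨k, hk0, hk⟩ := irr_exists_degree θ.2
    refine ⟨k, ?_, hk0⟩
    have h1 := cast_irrDegree χ
    rw [← hθ, CfsgLib.Induction.indFun_one_apply, hidx, hk] at h1
    rw [← hθ]
    exact_mod_cast h1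
  choose! f hf hf0 using hf
  have hfdeg : ∀ χ ∈ R, (χ : ↥(Subgroup.normalizer (T.F : Set G)) → ℂ) 1 = (d : ℂ) * f χ :=
    fun χ hχ => by rw [← cast_irrDegree, hf χ hχ]; push_cast; rfl
  have hd0 : 0 < d := by omega
  have hrel_sq : d * ∑ χ ∈ R, f χ ^ 2 = n - 1 := by
    have h := CfsgLib.OddChar.sum_sq_indAbove hCK (⊥ : Subgroup ↥(Subgroup.normalizer (T.F : Set G)))
    rw [hRset, Finset.sum_image (fun x _ y _ e => Subtype.ext e), hidx, Subgroup.relIndex_bot_left,
      hKcard, Finset.sum_congr rfl (g := fun χ => d * (d * f χ ^ 2)) (fun χ hχ => by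
        have h1 := CfsgLib.OddChar.natDeg_spec (irr_isCharacter χ)
        rw [hfdeg χ hχ] at h1
        have h2 : CfsgLib.OddChar.natDeg ((χ : IrrCharacter _) :
            ↥(Subgroup.normalizer (T.F : Set G)) → ℂ) = d * f χ := by exact_mod_cast h1.symm
        rw [h2]; ring), ← Finset.mul_sum, ← Finset.mul_sum] at h
    exact Nat.eq_of_mul_eq_mul_left hd0 h
  set r := ∑ χ ∈ R, f χ ^ 2 with hr'
  have hnr : r * d + 1 = n := by rw [mul_comm r d, hrel_sq]; omega
  have hΩ : Fintype.card Ω = n + 1 := by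
    have := T.two_le_card; rw [hn, T.card_F]; omega
  have hΩ3 : 3 ≤ Fintype.card Ω := by omega
  have hr : 3 ≤ r := by
    by_contra hlt
    have : r * d ≤ 2 * d := Nat.mul_le_mul_right d (by omega)
    omega
  -- a linear and a non-linear member
  have hKtop : K ≠ ⊤ := fun e => by
    have := hidx
    rw [e, Subgroup.index_top] at this
    omega
  haveI := CfsgLib.OddChar.kernel_isNilpotent hCK hKtop
  have hKbot : K ≠ ⊥ := fun e => by
    rw [e, Subgroup.card_bot] at hKcard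
    omega
  obtain ⟨χ₁, hχ₁, hf₁⟩ : ∃ χ ∈ R, f χ = 1 := by
    haveI : Nontrivial K := (Subgroup.nontrivial_iff_ne_bot _).mpr hKbot
    have hlt : commutator K < ⊤ := Group.IsSolvable.commutator_lt_top_of_nontrivial K
    have hcard := CfsgLib.OddChar.card_indAbove_linear hCK (A := ⁅K, K⁆) le_rfl
    have hrel : (⁅K, K⁆.subgroupOf K) = commutator K := by
      apply Subgroup.map_injective K.subtype_injective
      rw [Subgroup.subgroupOf_map_subtype, Subgroup.map_subtype_commutator,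
        inf_eq_left.mpr (Subgroup.commutator_le_self K)]
    have h2 : 1 < ⁅K, K⁆.relIndex K := by
      rw [Subgroup.relIndex, hrel]
      refine Nat.one_lt_iff_ne_zero_and_ne_one.mpr ⟨Subgroup.index_ne_zero_of_finite, fun h => ?_⟩
      exact hlt.ne (Subgroup.index_eq_one.mp h)
    obtain ⟨φ, hφ⟩ : (CfsgLib.OddChar.indAboveFinset K ⁅K, K⁆).Nonempty := by
      rw [← Finset.card_pos]
      by_contra h0
      rw [Nat.eq_zero_of_not_pos h0, zero_mul] at hcard
      omega
    have hφ' := CfsgLib.OddChar.indAboveFinset_mono (B := ⊥) bot_le hφ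
    rw [hRset] at hφ'
    obtain ⟨χ, hχ, rfl⟩ := Finset.mem_image.mp hφ'
    refine ⟨χ, hχ, ?_⟩
    have h := CfsgLib.OddChar.natDeg_indAbove_linear le_rfl hφ
    rw [hidx] at h
    have h1 := CfsgLib.OddChar.natDeg_spec (irr_isCharacter χ)
    rw [hfdeg χ hχ, h] at h1
    have h2 : d * f χ = d * 1 := by rw [mul_one]; exact_mod_cast h1
    exact Nat.eq_of_mul_eq_mul_left hd0 h2
  obtain ⟨χ₂, hχ₂, hf₂⟩ : ∃ χ ∈ R, 2 ≤ f χ := by
    by_contra hall
    push Not at hall
    have hlin : ∀ θ : IrrCharacter K, (θ : K → ℂ) 1 = 1 := by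
      intro θ
      by_cases hθ : (θ : K → ℂ) = fun _ => 1
      · rw [hθ]
      have hmem : Cfsg.indFun K (θ : K → ℂ) ∈ CfsgLib.OddChar.indAboveFinset K ⊥ :=
        Finset.mem_image.mpr ⟨θ, CfsgLib.OddChar.mem_thetaAbove.mpr ⟨hθ, fun x hx => by
          rw [Subgroup.mem_bot] at hx
          rw [show x = 1 from Subtype.ext hx]⟩, rfl⟩
      rw [hRset] at hmem
      obtain ⟨χ, hχ, e⟩ := Finset.mem_image.mp hmem
      obtain ⟨k, hk0, hk⟩ := irr_exists_degree θ.2
      have h1 := congrFun e 1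
      rw [CfsgLib.Induction.indFun_one_apply, hidx, hk, hfdeg χ hχ] at h1
      have h2 : d * f χ = d * k := by exact_mod_cast h1
      have h3 := Nat.eq_of_mul_eq_mul_left hd0 h2
      have := hall χ hχ
      have := hf0 χ hχ
      rw [hk, show k = 1 by omega, Nat.cast_one]
    have hcK := comm_of_linear hlin
    refine hna ⟨⟨fun x y => eK.symm.injective ?_⟩⟩
    rw [map_mul, map_mul]
    exact hcK.is_comm.comm _ _
  have hne12 : χ₁ ≠ χ₂ := fun e => by rw [← e, hf₁] at hf₂; omega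
  -- the constant on the kernel
  obtain ⟨m, hm⟩ := CfsgLib.TIFNChar.restriction_constant hTI hC star hstar hext
    (χ₀ := χ₁) (mem_relSet.mp hχ₁)
  haveI : Nonempty (IrrCharacter G) := ⟨principalIrr G⟩
  have hμ : ∀ χ ∈ R, ∃ (μ : IrrCharacter G) (s : ℤ), (s = 1 ∨ s = -1) ∧
      star (χ : IrrCharacter _) = (s : ℂ) • (μ : G → ℂ) := by
    intro χ hχ
    have hmem := CfsgLib.TIFNChar.mem_span (mem_relSet.mp hχ)
    obtain ⟨μ, e | e⟩ := eq_irr_or_neg_of_classInner_self_eq_one (hstar.2.2.2 _ hmem)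
      (by rw [hstar.2.2.1 _ hmem _ hmem, classInner_irr_self χ.2])
    · exact ⟨μ, 1, Or.inl rfl, by rw [e, Int.cast_one, one_smul]⟩
    · exact ⟨μ, -1, Or.inr rfl, by rw [e, Int.cast_neg, Int.cast_one, neg_one_smul]⟩
  choose! μ s hs hμ using hμ
  have hssq : ∀ χ ∈ R, (s χ : ℂ) * s χ = 1 := fun χ hχ => by
    rcases hs χ hχ with e | e <;> simp [e]
  have hμinj : ∀ χ ∈ R, ∀ ξ ∈ R, μ χ = μ ξ → χ = ξ := by
    intro χ hχ ξ hξ e
    by_contra hne
    have h := CfsgLib.TIFNChar.star_orth star hstar (mem_relSet.mp hχ) (mem_relSet.mp hξ) hne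
    rw [hμ χ hχ, hμ ξ hξ, e, classInner_smul_left, classInner_smul_right, classInner_irr_self (μ ξ).2,
      map_intCast, mul_one] at h
    rcases hs χ hχ with e1 | e1 <;> rcases hs ξ hξ with e2 | e2 <;> simp [e1, e2] at h
  have hμval : ∀ χ ∈ R, ∀ k ∈ K, k ≠ 1 → (s χ : ℂ) * (μ χ : G → ℂ) (k : ↥(Subgroup.normalizer (T.F : Set G))) =
      (χ : ↥(Subgroup.normalizer (T.F : Set G)) → ℂ) k + (m : ℂ) * f χ := by
    intro χ hχ k hk hk1
    have h := hm χ (mem_relSet.mp hχ) k hk hk1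
    rw [hμ χ hχ, hfdeg χ hχ, hidx, Pi.smul_apply, smul_eq_mul, sub_eq_iff_eq_add'] at h
    rw [h]
    have hdne : (d : ℂ) ≠ 0 := Nat.cast_ne_zero.mpr hd0.ne'
    field_simp
  have hnotcat : ∀ χ ∈ R, μ χ ∉ T.cat := by
    intro χ hχ hcat
    obtain ⟨c, hc⟩ := T.const_of_mem_cat hcat
    obtain ⟨ξ, hξ, hne⟩ : ∃ ξ ∈ R, χ ≠ ξ := by
      by_cases e : χ = χ₁
      · exact ⟨χ₂, hχ₂, e ▸ hne12⟩
      · exact ⟨χ₁, hχ₁, e⟩
    obtain ⟨x, hx, y, hy, hx1, hy1, hxy⟩ :=
      exists_ne_of_two hfree (mem_relSet.mp hχ) (mem_relSet.mp hξ) hne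
    apply hxy
    have h1 := hμval χ hχ x hx hx1
    have h2 := hμval χ hχ y hy hy1
    have h1' : (μ χ : G → ℂ) (x : G) = c :=
      hc ⟨(x : G), hx⟩ (fun e => hx1 (Subtype.ext (congrArg (fun u : T.F => (u : G)) e)))
    have h2' : (μ χ : G → ℂ) (y : G) = c :=
      hc ⟨(y : G), hy⟩ (fun e => hy1 (Subtype.ext (congrArg (fun u : T.F => (u : G)) e)))
    rw [h1'] at h1
    rw [h2'] at h2
    exact add_right_cancel (h1.symm.trans h2)
  have hsumF : ∀ χ : IrrCharacter G, χ ∉ T.cat → ∑ k : K, (χ : G → ℂ) (k : ↥(Subgroup.normalizer (T.F : Set G))) = 0 := by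
    intro χ hχ
    have h1 := T.mult_one_of_notMem hχ
    simp only [FeitFrame.Frame.mult, classInner, fn, MonoidHom.one_apply, Units.val_one, map_one,
      mul_one, mul_eq_zero, inv_eq_zero, Nat.cast_eq_zero] at h1
    rw [← h1.resolve_left Nat.card_pos.ne']
    exact Fintype.sum_equiv eK.toEquiv _ _ fun k => rfl
  have herase : ((Finset.univ.erase (1 : K)).card : ℂ) = (r : ℂ) * d := by
    rw [Finset.card_erase_of_mem (Finset.mem_univ _), Finset.card_univ, ← Nat.card_eq_fintype_card,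
      hKcard, show n - 1 = r * d by omega]
    push_cast
    rfl
  have hμdeg : ∀ χ ∈ R, (s χ : ℤ) * (charDegree (μ χ : G → ℂ) : ℤ) =
      (d : ℤ) * f χ * (1 - r * m) := by
    intro χ hχ
    have h0 := hsumF (μ χ) (hnotcat χ hχ)
    have h1 := sum_eq_zero χ.2 (mem_relSet.mp hχ)
    rw [← Finset.add_sum_erase _ _ (Finset.mem_univ (1 : K)), OneMemClass.coe_one] at h0 h1
    have h2 := congrArg (fun z => (s χ : ℂ) * z) h0
    simp only [mul_add, mul_zero, Finset.mul_sum, OneMemClass.coe_one] at h2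
    rw [Finset.sum_congr rfl fun (k : K) hk => hμval χ hχ k k.2 (fun e => Finset.ne_of_mem_erase hk
      (Subtype.ext e)), Finset.sum_add_distrib, Finset.sum_const, nsmul_eq_mul, herase,
      eq_neg_of_add_eq_zero_right h1, hfdeg χ hχ, ← cast_irrDegree] at h2
    have h3 : (s χ : ℂ) * (charDegree (μ χ : G → ℂ) : ℂ) =
        (d : ℂ) * f χ * (1 - r * m) := by linear_combination h2
    exact_mod_cast h3
  obtain ⟨ε, c, hε, hμd⟩ : ∃ ε c : ℤ, (ε = 1 ∨ ε = -1) ∧
      (c = -(ε * m) ∧ ∀ χ ∈ R, (charDegree (μ χ : G → ℂ) : ℤ) = (d : ℤ) * f χ * (r * c + ε)) := by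
    have hpos : ∀ χ ∈ R, (0 : ℤ) < charDegree (μ χ : G → ℂ) := fun χ _ => by
      exact_mod_cast irrDegree_pos _
    have hdf : ∀ χ ∈ R, (0 : ℤ) < (d : ℤ) * f χ := fun χ hχ =>
      mul_pos (by exact_mod_cast hd0) (by exact_mod_cast hf0 χ hχ)
    by_cases hsgn : (0 : ℤ) ≤ 1 - r * m
    · refine ⟨1, -(1 * m), Or.inl rfl, rfl, fun χ hχ => ?_⟩
      have h := hμdeg χ hχ
      rcases hs χ hχ with e | e <;> rw [e] at h
      · linear_combination h
      · exfalso
        have := mul_nonneg (hdf χ hχ).le hsgn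
        linarith [hpos χ hχ]
    · refine ⟨-1, -(-1 * m), Or.inr rfl, rfl, fun χ hχ => ?_⟩
      have h := hμdeg χ hχ
      rcases hs χ hχ with e | e <;> rw [e] at h
      · exfalso
        have := mul_neg_of_pos_of_neg (hdf χ hχ) (not_le.mp hsgn)
        linarith [hpos χ hχ]
      · linear_combination -h
  obtain ⟨hcm, hμd⟩ := hμd
  set E := R.image μ with hE
  have hdisj : Disjoint T.cat E := Finset.disjoint_left.mpr fun χ hχ hχE => by
    obtain ⟨ξ, hξ, rfl⟩ := Finset.mem_image.mp hχE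
    exact hnotcat ξ hξ hχ
  set C : Finset (IrrCharacter G) := (T.cat ∪ E)ᶜ with hC'
  have hCm : ∀ χ ∈ C, ∃ m : ℕ, (charDegree (χ : G → ℂ) : ℤ) = (d : ℤ) * r * m := by
    intro χ hχ
    rw [hC', Finset.mem_compl, Finset.mem_union, not_or] at hχ
    obtain ⟨C₀, hC₀⟩ := CfsgLib.TIFNChar.values hTI hC star hstar hext (irr_isClassFunction χ)
      (χ₀ := χ₁) (mem_relSet.mp hχ₁)
    have hconst : ∀ k ∈ K, k ≠ 1 → (χ : G → ℂ) (k : ↥(Subgroup.normalizer (T.F : Set G))) = C₀ := by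
      intro k hk hk1
      rw [hC₀ k hk hk1, Finset.sum_eq_zero fun ξ hξ => ?_, add_zero]
      rw [hμ ξ hξ, classInner_smul_right, classInner_irr_ne χ.2 (μ ξ).2
        (fun e => hχ.2 (Subtype.ext e ▸ Finset.mem_image_of_mem μ hξ)), mul_zero, zero_mul]
    have h0 := hsumF χ hχ.1
    rw [← Finset.add_sum_erase _ _ (Finset.mem_univ (1 : K)), OneMemClass.coe_one,
      Finset.sum_congr rfl fun (k : K) hk => hconst k k.2 (fun e => Finset.ne_of_mem_erase hk (Subtype.ext e)),
      Finset.sum_const, nsmul_eq_mul, herase, OneMemClass.coe_one, ← cast_irrDegree] at h0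
    obtain ⟨k₀, hk₀, hk₀1⟩ := mem_relSet.mp hχ₁
    have hk₀' : k₀ ≠ 1 := fun e => hk₀1 (e ▸ rfl)
    have hint : IsIntegral ℤ C₀ := hconst k₀ hk₀ hk₀' ▸
      isIntegral_of_isCharacter (irr_isCharacter χ) _
    have hrd : ((r : ℂ) * d) ≠ 0 := mul_ne_zero (Nat.cast_ne_zero.mpr (by omega))
      (Nat.cast_ne_zero.mpr (by omega))
    have hq : C₀ = ((-(charDegree (χ : G → ℂ) : ℚ) / (r * d) : ℚ) : ℂ) := by
      push_cast
      rw [eq_div_iff hrd]
      linear_combination h0
    rw [hq] at hint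
    obtain ⟨z, hz⟩ := exists_int_of_isIntegral_rat hint
    have hz' : (charDegree (χ : G → ℂ) : ℤ) = -z * ((r : ℤ) * d) := by
      rw [eq_div_iff (by exact_mod_cast (Nat.mul_pos (show 0 < r by omega) hd0).ne')] at hz
      have : ((charDegree (χ : G → ℂ) : ℤ) : ℚ) = ((-z * ((r : ℤ) * d) : ℤ) : ℚ) := by
        push_cast
        linarith
      exact_mod_cast this
    have hz0 : 0 ≤ -z := by
      by_contra hneg
      have h1 : (0 : ℤ) < (charDegree (χ : G → ℂ) : ℤ) := by exact_mod_cast irrDegree_pos _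
      have h2 : (0 : ℤ) ≤ (r : ℤ) * d := by positivity
      nlinarith
    refine ⟨(-z).toNat, ?_⟩
    rw [Int.toNat_of_nonneg hz0, hz']
    ring
  choose! mC hmC using hCm
  set D : ℕ := T.thSet.card with hD
  have hdD : 2 * D + 1 = d := T.two_mul_card_thSet
  have hsplit : ∀ g : IrrCharacter G → ℤ, ∑ χ, g χ = g (principalIrr G) + g T.stIrr
      + ∑ χ ∈ T.thSet, g χ + ∑ χ ∈ R, g (μ χ) + ∑ χ ∈ C, g χ := by
    intro g
    rw [← Finset.sum_add_sum_compl (T.cat ∪ E), Finset.sum_union hdisj, T.sum_cat hΩ3, hE,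
      Finset.sum_image hμinj]
  have hpr : charDegree (principalIrr G : G → ℂ) = 1 := Indicator.charDegree_one'
  -- squares of degrees
  have hsq : (Nat.card G : ℤ) = ∑ χ : IrrCharacter G, (charDegree (χ : G → ℂ) : ℤ) ^ 2 := by
    rw [← natSum_sq_degrees]; push_cast; rfl
  have hG : (Nat.card G : ℤ) = (n * d : ℕ) + n * (n * d : ℕ) := by
    rw [T.card_G, T.card_M]; push_cast; rfl
  have hs1 : ∑ χ ∈ T.thSet, (charDegree (χ : G → ℂ) : ℤ) ^ 2 = (D : ℤ) * ((n : ℤ) + 1) ^ 2 := by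
    rw [Finset.sum_congr rfl (g := fun _ => ((n : ℤ) + 1) ^ 2)
      (fun χ hχ => by rw [T.charDegree_thSet hχ, hΩ]; push_cast; rfl), Finset.sum_const, nsmul_eq_mul]
  have hs2 : ∑ χ ∈ R, (charDegree (μ χ : G → ℂ) : ℤ) ^ 2 = (r : ℤ) * ((d : ℤ) * (r * c + ε)) ^ 2 := by
    rw [Finset.sum_congr rfl (g := fun χ => ((f χ ^ 2 : ℕ) : ℤ) * ((d : ℤ) * (r * c + ε)) ^ 2)
      (fun χ hχ => by rw [hμd χ hχ]; push_cast; ring), ← Finset.sum_mul, ← Nat.cast_sum, ← hr']
  have hs3 : ∑ χ ∈ C, (charDegree (χ : G → ℂ) : ℤ) ^ 2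
      = (d : ℤ) ^ 2 * (r : ℤ) ^ 2 * ∑ χ ∈ C, (mC χ : ℤ) ^ 2 := by
    rw [Finset.mul_sum]
    exact Finset.sum_congr rfl fun χ hχ => by rw [hmC χ hχ, mul_pow, mul_pow]
  rw [hsplit, hpr, T.charDegree_st, hs1, hs2, hs3, hG] at hsq
  -- involutions
  obtain ⟨e, he, hcount⟩ := Indicator.involution_count (G := G) _ rfl
  have hle1 : ∀ χ, e χ ≤ 1 := fun χ => by
    rcases (he χ).2 with ⟨h, -⟩ | ⟨h, -⟩ <;> omega
  have hterm : ∀ χ, e χ * (charDegree (χ : G → ℂ) : ℤ) ≤ charDegree (χ : G → ℂ) := fun χ => by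
    nlinarith [hle1 χ, Int.natCast_nonneg (charDegree (χ : G → ℂ))]
  have hpos : 0 < (r : ℤ) * c + ε := by
    have h1 := hμd χ₁ hχ₁
    have h2 : (0 : ℤ) < charDegree (μ χ₁ : G → ℂ) := by exact_mod_cast irrDegree_pos _
    rw [h1] at h2
    exact pos_of_mul_pos_right h2 (by positivity)
  have hr0 : (3 : ℤ) ≤ r := by exact_mod_cast hr
  have hc0 : 0 ≤ c := by
    by_contra h
    rcases hε with rfl | rfl <;> nlinarith
  set R' : ℕ := ∑ χ ∈ R, f χ with hR'
  have hR2 : R' + 2 ≤ r := by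
    have hle : ∀ χ ∈ R.erase χ₂, f χ ≤ f χ ^ 2 := fun χ _ => Nat.le_self_pow two_ne_zero _
    have h2 : f χ₂ + 2 ≤ f χ₂ ^ 2 := by
      rw [sq]
      have := Nat.mul_le_mul_right (f χ₂) hf₂
      omega
    have := Finset.sum_le_sum hle
    rw [hR', hr', ← Finset.add_sum_erase _ _ hχ₂, ← Finset.add_sum_erase _ (fun χ => f χ ^ 2) hχ₂]
    omega
  have hEsum : ∑ χ ∈ R, e (μ χ) * (charDegree (μ χ : G → ℂ) : ℤ) ≤ (R' : ℤ) * ((d : ℤ) * (r * c + ε)) := by
    rw [hR', Nat.cast_sum, Finset.sum_mul]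
    exact Finset.sum_le_sum fun χ hχ => (hterm _).trans_eq (by rw [hμd χ hχ]; ring)
  have hCsum : ∑ χ ∈ C, e χ * (charDegree (χ : G → ℂ) : ℤ) ≤ (d : ℤ) * r * ∑ χ ∈ C, (mC χ : ℤ) := by
    rw [Finset.mul_sum]
    exact Finset.sum_le_sum fun χ hχ => (hterm χ).trans_eq (hmC χ hχ)
  have hThsum : ∑ χ ∈ T.thSet, e χ * (charDegree (χ : G → ℂ) : ℤ) ≤ (D : ℤ) * ((n : ℤ) + 1) := by
    refine (Finset.sum_le_sum fun χ _ => hterm χ).trans_eq ?_
    rw [Finset.sum_congr rfl (fun χ hχ => by rw [T.charDegree_thSet hχ, hΩ]), Finset.sum_const,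
      nsmul_eq_mul]
    push_cast; rfl
  have ht : ((n * d : ℕ) : ℤ) ≤ (Nat.card {x : G // orderOf x = 2} : ℤ) := by
    exact_mod_cast T.le_involutions
  have hprterm := hterm (principalIrr G)
  have hstterm := hterm T.stIrr
  rw [hpr] at hprterm
  rw [T.charDegree_st] at hstterm
  rw [hsplit, hpr, T.charDegree_st] at hcount
  push_cast at hcount hprterm ht hsq
  have hB : ((n : ℤ) * d) - n - (D : ℤ) * ((n : ℤ) + 1)
      ≤ (R' : ℤ) * ((d : ℤ) * (r * c + ε)) + (d : ℤ) * r * ∑ χ ∈ C, (mC χ : ℤ) := by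
    linarith only [hcount, hprterm, hstterm, hThsum, hEsum, hCsum, ht]
  set S : ℤ := ∑ χ ∈ C, (mC χ : ℤ)
  set S2 : ℤ := ∑ χ ∈ C, (mC χ : ℤ) ^ 2
  have hn' : (n : ℤ) = r * d + 1 := by exact_mod_cast hnr.symm
  have hdZ : (d : ℤ) = 2 * D + 1 := by exact_mod_cast hdD.symm
  have hd0' : (0 : ℤ) < d := by exact_mod_cast hd0
  have hεsq : ε ^ 2 = 1 := by rcases hε with rfl | rfl <;> norm_num
  have hA : 2 * ε * c + r * c ^ 2 + S2 = D := by
    refine mul_left_cancel₀ (a := (r : ℤ) ^ 2 * (d : ℤ) ^ 2) (by positivity) ?_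
    rw [hn'] at hsq
    rw [hdZ] at hsq ⊢
    linear_combination (-1 : ℤ) * hsq - ((r : ℤ) * (2 * D + 1) ^ 2) * hεsq
  have hB' : (r : ℤ) * D ≤ (R' : ℤ) * (r * c + ε) + r * S := by
    have e1 : ((n : ℤ) * d) - n - (D : ℤ) * ((n : ℤ) + 1) = d * (r * D) := by rw [hn', hdZ]; ring
    rw [e1] at hB
    refine le_of_mul_le_mul_left ?_ hd0'
    linarith
  have hS : S ≤ S2 := Finset.sum_le_sum fun χ _ => by
    rcases Nat.eq_zero_or_pos (mC χ) with h | h
    · simp [h]
    · have : (1 : ℤ) ≤ mC χ := by exact_mod_cast h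
      nlinarith
  obtain ⟨rfl, rfl⟩ := FeitFrame.Frame.arith hr0 hε hc0 hpos (by exact_mod_cast hR2) hS hA hB'
  -- the character of degree `d`
  have hm0 : m = 0 := by omega
  set ν := μ χ₁ with hν
  have hν1 : (ν : G → ℂ) 1 = (d : ℂ) := by
    have h := hμd χ₁ hχ₁
    rw [hf₁, Nat.cast_one, mul_one, mul_zero, zero_add, mul_one] at h
    rw [← cast_irrDegree]
    exact_mod_cast h
  have hs1' : s χ₁ = 1 := by
    have h := hμdeg χ₁ hχ₁
    have h2 : (charDegree (μ χ₁ : G → ℂ) : ℤ) = (d : ℤ) := by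
      have := hμd χ₁ hχ₁
      rw [hf₁, Nat.cast_one, mul_one, mul_zero, zero_add, mul_one] at this
      exact this
    rw [h2, hf₁, hm0, Nat.cast_one, mul_one, mul_zero, sub_zero, mul_one] at h
    exact mul_right_cancel₀ hd0'.ne' (h.trans (one_mul _).symm)
  have hνK : ∀ k : K, (ν : G → ℂ) (k : ↥(Subgroup.normalizer (T.F : Set G))) =
      (χ₁ : ↥(Subgroup.normalizer (T.F : Set G)) → ℂ) k := by
    intro k
    by_cases hk : k = 1
    · subst hk
      rw [OneMemClass.coe_one, OneMemClass.coe_one, hν1, hfdeg χ₁ hχ₁, hf₁, Nat.cast_one, mul_one]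
    · have h := hμval χ₁ hχ₁ k k.2 (fun e => hk (Subtype.ext e))
      rwa [hs1', hm0, Int.cast_one, one_mul, Int.cast_zero, zero_mul, add_zero] at h
  -- it vanishes off the kernel
  have hoff : ∀ x : ↥(Subgroup.normalizer (T.F : Set G)), x ∉ K → (ν : G → ℂ) x = 0 := by
    intro x hx
    set φ : ↥(Subgroup.normalizer (T.F : Set G)) → ℂ := fun y => (ν : G → ℂ) y with hφ
    have hφc : IsCharacter _ φ := NormalRes.isCharacter_res _ (irr_isCharacter ν)
    have hexp := classFunction_eq_sum (isClassFunction_of_isCharacter hφc)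
    choose w hw using fun η : IrrCharacter _ => classInner_char_nat hφc (irr_isCharacter η)
    have hsum0 : ∑ k : K, φ k = 0 := hsumF ν (hnotcat χ₁ hχ₁)
    have hall : ∑ η : IrrCharacter ↥(Subgroup.normalizer (T.F : Set G)), (w η : ℂ) *
        (if Relevant K (η : ↥(Subgroup.normalizer (T.F : Set G)) → ℂ) then 0
          else (Nat.card K : ℂ) * (η : ↥(Subgroup.normalizer (T.F : Set G)) → ℂ) 1) = 0 := by
      refine Eq.trans ?_ hsum0
      simp only [fun k : K => congrFun hexp (k : ↥(Subgroup.normalizer (T.F : Set G))),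
        Finset.sum_apply, Pi.smul_apply, smul_eq_mul, hw]
      rw [Finset.sum_comm]
      refine Finset.sum_congr rfl fun η _ => ?_
      rw [← Finset.mul_sum]
      congr 1
      split_ifs with hrel
      · exact (sum_eq_zero η.2 hrel).symm
      · rw [Finset.sum_congr rfl (g := fun _ => (η : ↥(Subgroup.normalizer (T.F : Set G)) → ℂ) 1)
          (fun k _ => eq_of_not_relevant hrel k.2), Finset.sum_const, Finset.card_univ,
          nsmul_eq_mul, Nat.card_eq_fintype_card]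
    have hall' : ∑ η : IrrCharacter ↥(Subgroup.normalizer (T.F : Set G)), w η *
        (if Relevant K (η : ↥(Subgroup.normalizer (T.F : Set G)) → ℂ) then 0
          else Nat.card K * charDegree (η : ↥(Subgroup.normalizer (T.F : Set G)) → ℂ)) = 0 := by
      simp only [← cast_irrDegree] at hall
      exact_mod_cast hall
    show φ x = 0
    rw [hexp, Finset.sum_apply]
    refine Finset.sum_eq_zero fun η _ => ?_
    rw [Pi.smul_apply, smul_eq_mul, hw]
    by_cases hrel : Relevant K (η : ↥(Subgroup.normalizer (T.F : Set G)) → ℂ)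
    · rw [vanish_off hfree η.2 hrel hx, mul_zero]
    · have h := Finset.sum_eq_zero_iff.mp hall' η (Finset.mem_univ _)
      rw [if_neg hrel, mul_eq_zero, mul_eq_zero] at h
      rcases h with h | h | h
      · rw [h, Nat.cast_zero, zero_mul]
      · exact absurd h Nat.card_pos.ne'
      · exact absurd h (irrDegree_pos η).ne'
  -- the norm of the restriction
  have hnorm : ∑ u : T.F, (ν : G → ℂ) u * conj ((ν : G → ℂ) u) = (n : ℂ) * d := by
    rw [← Fintype.sum_equiv eK.toEquiv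
      (fun k : K => (χ₁ : ↥(Subgroup.normalizer (T.F : Set G)) → ℂ) k *
        conj ((χ₁ : ↥(Subgroup.normalizer (T.F : Set G)) → ℂ) k))
      _ (fun k => by rw [← hνK]; rfl)]
    have h := classInner_irr_self χ₁.2
    rw [classInner, inv_mul_eq_one₀ (Nat.cast_ne_zero.mpr Nat.card_pos.ne'), hM] at h
    push_cast at h
    rw [h, ← Finset.sum_subset (s₁ := (Finset.univ : Finset K).map (Function.Embedding.subtype _))
      (Finset.subset_univ _) ?_, Finset.sum_map]
    · rfl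
    · intro x _ hx
      rw [vanish_off hfree χ₁.2 (mem_relSet.mp hχ₁)
        (fun h => hx (Finset.mem_map.2 ⟨⟨x, h⟩, Finset.mem_univ _, rfl⟩)), zero_mul]
  set ψ : G → ℂ := fun g => (ν : G → ℂ) g * conj ((ν : G → ℂ) g) with hψ
  have hψc : IsCharacter G ψ :=
    isCharacter_mul (irr_isCharacter ν) (isCharacter_conj (irr_isCharacter ν))
  choose w hw using fun χ : IrrCharacter G => classInner_char_nat hψc (irr_isCharacter χ)
  have hone : ∀ l : T.H →* ℂˣ, classInner ψ (T.θ l) = 1 := by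
    intro l
    rw [FeitFrame.Frame.θ, Induction.classInner_indFun_right _ _ (isClassFunction_of_isCharacter hψc),
      classInner]
    rw [← Finset.sum_subset (s₁ := (Finset.univ : Finset T.F).map
        ⟨fun u : T.F => (⟨(u : G), T.F_le u.2⟩ : T.M), by intro u v e; exact Subtype.ext (congrArg (fun x : T.M => (x : G)) e)⟩)
      (Finset.subset_univ _) ?_, Finset.sum_map]
    · have e : ∀ u : T.F, ψ u * conj (T.lift l ⟨u, T.F_le u.2⟩)
          = (ν : G → ℂ) u * conj ((ν : G → ℂ) u) := by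
        intro u
        rw [FeitFrame.Frame.lift, T.proj_F (m := ⟨u, T.F_le u.2⟩) u.2]
        simp [hψ]
      refine Eq.trans (congrArg _ (Finset.sum_congr rfl fun u _ => e u)) ?_
      rw [hnorm, T.card_M]
      have hn1 : (n : ℂ) ≠ 0 := Nat.cast_ne_zero.mpr hn0.ne'
      have hd1 : (d : ℂ) ≠ 0 := Nat.cast_ne_zero.mpr hd0.ne'
      push_cast
      field_simp
      rfl
    · intro x _ hx
      have hxF : (x : G) ∉ T.F := fun h => hx (Finset.mem_map.mpr ⟨⟨x, h⟩, Finset.mem_univ _, rfl⟩)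
      rw [hψ]
      simp only
      rw [hoff ⟨x, hN.ge x.2⟩ (fun h => hxF (Subgroup.mem_subgroupOf.mp h)), zero_mul, zero_mul]
  -- compare degrees
  have hd2 : d ^ 2 = ∑ χ : IrrCharacter G, w χ * charDegree (χ : G → ℂ) := by
    have h := congrFun (classFunction_eq_sum (isClassFunction_of_isCharacter hψc)) 1
    simp only [Finset.sum_apply, Pi.smul_apply, smul_eq_mul, hw, ← cast_irrDegree] at h
    rw [hψ] at h
    simp only [hν1, map_natCast] at h
    rw [pow_two]
    exact_mod_cast h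
  have hwth : ∀ χ ∈ T.thSet, w χ = 1 := by
    intro χ hχ
    obtain ⟨l, -, rfl⟩ := Finset.mem_image.mp hχ
    have := (hw (T.θIrr l)).symm.trans (hone l.1)
    exact_mod_cast this
  have hwpr : w (principalIrr G) = 1 := by
    have h1 := hw (principalIrr G)
    have h : classInner ψ ((principalIrr G : IrrCharacter G) : G → ℂ) = 1 := by
      rw [← classInner_irr_self ν.2]
      simp only [classInner, hψ, principalIrr, map_one, mul_one]
    rw [h] at h1
    exact_mod_cast h1.symm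
  have hnot : principalIrr G ∉ T.thSet := fun h => by
    have := T.charDegree_thSet h
    rw [Indicator.charDegree_one'] at this
    omega
  have hle : ∑ χ ∈ insert (principalIrr G) T.thSet, w χ * charDegree (χ : G → ℂ) ≤ d ^ 2 := by
    rw [hd2]; exact Finset.sum_le_sum_of_subset (Finset.subset_univ _)
  rw [Finset.sum_insert hnot, hwpr, Indicator.charDegree_one', one_mul,
    Finset.sum_congr rfl (fun χ hχ => by rw [hwth χ hχ, T.charDegree_thSet hχ, one_mul]),
    Finset.sum_const, smul_eq_mul, ← hD] at hle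
  have hbig : 2 * d + 3 ≤ Fintype.card Ω := by omega
  have h3 : D * (2 * d + 3) ≤ D * Fintype.card Ω := Nat.mul_le_mul_left _ hbig
  rw [← hdD] at hle h3 hd
  nlinarith

end CfsgLib.Zass29.FeitCoh
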