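import Cfsg.Agent.Lib.PermSmall.Zassenhaus
import Cfsg.Agent.Lib.PermGroup.Basic
import Cfsg.Agent.Lib.Blocks.ClassCount
import Cfsg.Agent.Lib.Characters.Values
import Cfsg.Agent.Lib.Characters.Induction
import Cfsg.Agent.Lib.Characters.Monomial
import Cfsg.Agent.Lib.Characters.Burnside
import Cfsg.Agent.Lib.Characters.Galois
import Cfsg.Agent.Lib.Characters.PermTwo

/-!
# A simple Zassenhaus group with even two-point stabilisers is not sharply triply transitive

If the two-point stabilisers have even order `d = n - 2`, where `n = q + 1` is the degree, then the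
kernel `F` of a point stabiliser is elementary abelian of order `q = p ^ f` and its non-trivial
elements form one class.  The Steinberg character is the only irreducible character of degree
divisible by `q`, and counting products of two conjugates of an involution of a two-point stabiliser
modulo `p` gives a contradiction.
-/

set_option autoImplicit false
set_option linter.unusedSectionVars false

noncomputable section

namespace CfsgLib.Zass29.Sharp

open MulAction Cfsg CfsgLib.Characters CfsgLib.PermSmall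
open CfsgLib.PermSmall.Zassenhaus (pairStab fixOnly mem_pairStab)
open scoped ComplexConjugate

universe u v

variable {G : Type u} {Ω : Type v} [Group G] [Fintype G] [MulAction G Ω] [Fintype Ω]

/-- A character value at an element of order two is an integer. -/
theorem exists_int_of_sq {t : G} (ht : orderOf t = 2) (χ : IrrCharacter G) :
    ∃ z : ℤ, (χ : G → ℂ) t = (z : ℂ) := by
  obtain ⟨n, ρ, -, hρ⟩ := χ.2
  obtain ⟨ω, hω, -, hsum⟩ := exists_eigenvalues ρ t
  rw [← hρ, hsum]
  have h : ∀ i, ∃ z : ℤ, ω i = (z : ℂ) := fun i => by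
    have := hω i
    rw [ht, sq_eq_one_iff] at this
    rcases this with h | h
    · exact ⟨1, by rw [h, Int.cast_one]⟩
    · exact ⟨-1, by rw [h, Int.cast_neg, Int.cast_one]⟩
  choose z hz using h
  exact ⟨∑ i, z i, by rw [Int.cast_sum]; exact Finset.sum_congr rfl fun i _ => hz i⟩

/-- The group order for `d = q - 1`. -/
theorem card_group (hZ : IsZassenhausGroup G Ω) {a b : Ω} (hab : a ≠ b) :
    Nat.card G =
      Fintype.card Ω * ((Fintype.card Ω - 1) * Nat.card (pairStab G a b)) := by
  have horb : orbit G a = Set.univ := Set.eq_univ_iff_forall.mpr fun x => by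
    by_cases hx : x = a
    · exact ⟨1, by simp [hx]⟩
    · obtain ⟨g, hga, -⟩ := Zassenhaus.exists_smul_pair hZ hab hx
      exact ⟨g, hga⟩
  rw [← Zassenhaus.card_stabilizer hZ hab, ← Subgroup.index_mul_card (stabilizer G a),
    index_stabilizer, horb, Set.ncard_univ, Nat.card_eq_fintype_card]

theorem smul_eq_of_fixOnly {a : Ω} {u g : G} (hu : fixOnly a u) (h : g * u = u * g) :
    g • a = a :=
  (hu (g • a)).mp (by rw [← mul_smul, ← h, mul_smul, (hu a).mpr rfl])

/-- With `d = n - 2` a two-point stabiliser is transitive on the remaining points. -/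
theorem exists_pairStab_smul (hZ : IsZassenhausGroup G Ω) {a b : Ω} (hab : a ≠ b)
    (hd : Nat.card (pairStab G a b) = Fintype.card Ω - 2) {c c' : Ω} (hca : c ≠ a) (hcb : c ≠ b)
    (hc'a : c' ≠ a) (hc'b : c' ≠ b) : ∃ h ∈ pairStab G a b, h • c = c' := by
  classical
  have hinj : Set.InjOn (fun h : G => h • c) (pairStab G a b : Set G) := fun g hg h hh e =>
    (inv_mul_eq_one.mp (by
      by_contra h1
      refine Zassenhaus.smul_ne hZ hab (mul_mem (inv_mem hh) hg) h1 hca hcb ?_
      have e' : g • c = h • c := e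
      rw [mul_smul, e', inv_smul_smul] : h⁻¹ * g = 1)).symm
  have himg : (fun h : G => h • c) '' (pairStab G a b : Set G) = ({a, b} : Set Ω)ᶜ := by
    refine Set.eq_of_subset_of_ncard_le ?_ ?_ (Set.toFinite _)
    · rintro _ ⟨h, hh, rfl⟩
      simp only [Set.mem_compl_iff, Set.mem_insert_iff, Set.mem_singleton_iff, not_or]
      exact ⟨fun e => hca (smul_left_cancel h (e.trans hh.1.symm)),
        fun e => hcb (smul_left_cancel h (e.trans hh.2.symm))⟩
    · rw [hinj.ncard_image, Set.ncard_compl, Set.ncard_pair hab, Nat.card_eq_fintype_card,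
        ← hd, ← Nat.card_coe_set_eq]
      exact le_rfl
  have hc' : c' ∈ ({a, b} : Set Ω)ᶜ := by simp [hc'a, hc'b]
  rw [← himg] at hc'
  obtain ⟨h, hh, e⟩ := hc'
  exact ⟨h, hh, e⟩

/-- An involution with a fixed point fixes exactly two points. -/
theorem exists_two_fixed (hZ : IsZassenhausGroup G Ω) {a b : Ω} (hab : a ≠ b)
    (heven : Even (Nat.card (pairStab G a b))) {w : G} (hw : orderOf w = 2) {x : Ω}
    (hx : w • x = x) : ∃ y, x ≠ y ∧ w • y = y := by
  have hpos : 0 < Nat.card (fixedBy Ω w) := by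
    rw [Nat.card_coe_set_eq, Set.ncard_pos (Set.toFinite _)]; exact ⟨x, hx⟩
  have hmod := Zassenhaus.fixedBy_modEq (Ω := Ω) (Zassenhaus.sq_eq_one_of_orderOf hw)
  have hpar := Nat.even_iff.mp (Zassenhaus.even_card_of_even hZ hab heven)
  unfold Nat.ModEq at hmod
  have h2 : 1 < (fixedBy Ω w).ncard := by
    rw [← Nat.card_coe_set_eq]; omega
  obtain ⟨y, hy, hne⟩ := Set.exists_ne_of_one_lt_ncard h2 x
  exact ⟨y, Ne.symm hne, hy⟩

/-- Conjugates of an involution of a two-point stabiliser. -/
theorem isConj_iff_fixed (hZ : IsZassenhausGroup G Ω) {a b : Ω} (hab : a ≠ b)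
    (heven : Even (Nat.card (pairStab G a b))) {z : G} (hz : z ∈ pairStab G a b)
    (hz2 : orderOf z = 2) (w : G) : IsConj z w ↔ orderOf w = 2 ∧ ∃ x : Ω, w • x = x := by
  constructor
  · intro h
    obtain ⟨g, rfl⟩ := isConj_iff.mp h
    refine ⟨?_, g • a, ?_⟩
    · rw [← hz2]; exact (MulAut.conj g).orderOf_eq z
    · exact (Zassenhaus.conj_mem_pairStab hz).1
  · rintro ⟨hw, x, hx⟩
    obtain ⟨y, hxy, hy⟩ := exists_two_fixed hZ hab heven hw hx
    obtain ⟨g, rfl, rfl⟩ := Zassenhaus.exists_smul_pair hZ hab hxy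
    refine isConj_iff.mpr ⟨g, ?_⟩
    exact Zassenhaus.involution_unique hZ hxy (Zassenhaus.conj_mem_pairStab hz)
      ((MulAut.conj g).orderOf_eq z |>.trans hz2) ⟨hx, hy⟩ hw

/-- The centraliser of the involution of a two-point stabiliser is twice as big. -/
theorem card_centralizer_involution (hZ : IsZassenhausGroup G Ω) {a b : Ω} (hab : a ≠ b)
    {z : G} (hz : z ∈ pairStab G a b) (hz2 : orderOf z = 2) :
    Nat.card (Subgroup.centralizer ({z} : Set G)) = 2 * Nat.card (pairStab G a b) := by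
  classical
  obtain ⟨s, -, hsa, hsb⟩ := Zassenhaus.exists_swapping hZ hab
  set D := pairStab G a b with hD
  have hzne := Zassenhaus.ne_one_of_orderOf hz2
  have hfix : ∀ x : Ω, z • x = x → x = a ∨ x = b := fun x hx =>
    Zassenhaus.eq_one_of_fix_three hZ hzne hab hz.1 hz.2 hx
  have hcomm : ∀ g : G, g * z * g⁻¹ = z ↔ g * z = z * g := fun g => mul_inv_eq_iff_eq_mul
  have hC : (Subgroup.centralizer ({z} : Set G) : Set G) =
      (D : Set G) ∪ (fun h => s * h) '' (D : Set G) := by
    ext g
    rw [SetLike.mem_coe, Subgroup.mem_centralizer_singleton_iff]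
    constructor
    · intro hg
      have hga : g • a = a ∨ g • a = b := hfix _ (by rw [← mul_smul, ← hg, mul_smul, hz.1])
      have hgb : g • b = a ∨ g • b = b := hfix _ (by rw [← mul_smul, ← hg, mul_smul, hz.2])
      rcases hga with e1 | e1 <;> rcases hgb with e2 | e2
      · exact absurd (smul_left_cancel g (e1.trans e2.symm)) hab
      · exact Or.inl ⟨e1, e2⟩
      · refine Or.inr ⟨s⁻¹ * g, ⟨?_, ?_⟩, mul_inv_cancel_left s g⟩
        · show (s⁻¹ * g) • a = a
          rw [mul_smul, e1, inv_smul_eq_iff, hsa]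
        · show (s⁻¹ * g) • b = b
          rw [mul_smul, e2, inv_smul_eq_iff, hsb]
      · exact absurd (smul_left_cancel g (e1.trans e2.symm)) hab
    · rintro (hg | ⟨h, hh, rfl⟩)
      · rw [← hcomm]
        have := Zassenhaus.conj_mem_pairStab (g := g) hz
        rw [(show g • a = a from hg.1), (show g • b = b from hg.2)] at this
        exact Zassenhaus.involution_unique hZ hab this ((MulAut.conj g).orderOf_eq z |>.trans hz2)
          hz hz2
      · show s * h * z = z * (s * h)
        rw [← hcomm]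
        have := Zassenhaus.conj_mem_pairStab (g := s * h) hz
        rw [mul_smul, mul_smul, (show h • a = a from hh.1), (show h • b = b from hh.2), hsa, hsb]
          at this
        exact Zassenhaus.involution_unique hZ hab ⟨this.2, this.1⟩
          ((MulAut.conj (s * h)).orderOf_eq z |>.trans hz2) hz hz2
  have hdisj : Disjoint (D : Set G) ((fun h => s * h) '' (D : Set G)) := by
    rw [Set.disjoint_left]
    rintro g hg ⟨h, hh, rfl⟩
    exact hab (((show (s * h) • a = a from hg.1).symm).trans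
      (by rw [mul_smul, (show h • a = a from hh.1), hsa]))
  show (Subgroup.centralizer ({z} : Set G) : Set G).ncard = 2 * (D : Set G).ncard
  rw [hC, Set.ncard_union_eq hdisj (Set.toFinite _) (Set.toFinite _),
    Set.ncard_image_of_injective _ (mul_right_injective s), two_mul]

/-- The number of pairs of conjugates of `z` with product `z` is `0` or half of `d`. -/
theorem pairs_cases (hZ : IsZassenhausGroup G Ω) {a b : Ω} (hab : a ≠ b)
    (heven : Even (Nat.card (pairStab G a b)))
    (hd : Nat.card (pairStab G a b) = Fintype.card Ω - 2) {z : G} (hz : z ∈ pairStab G a b)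
    (hz2 : orderOf z = 2) :
    (ClassCount.pairs z z {z}).card = 0 ∨
      2 * (ClassCount.pairs z z {z}).card = Nat.card (pairStab G a b) := by
  classical
  set Z : Set G := {w : G | orderOf w = 2 ∧ (∃ x : Ω, w • x = x) ∧ w • a = b ∧ w • b = a}
    with hZdef
  have hm : 2 * Z.ncard = Fintype.card Ω - 2 := Zassenhaus.two_mul_swapping hZ hab heven
  have hconj : ∀ w, IsConj z w ↔ orderOf w = 2 ∧ ∃ x : Ω, w • x = x :=
    isConj_iff_fixed hZ hab heven hz hz2
  have hzz := Zassenhaus.sq_eq_one_of_orderOf hz2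
  have hzne := Zassenhaus.ne_one_of_orderOf hz2
  have hxy : ∀ x y : G, (x, y) ∈ ClassCount.pairs z z {z} ↔ x ∈ Z ∧ y = x * z ∧ x * z ∈ Z := by
    intro x y
    simp only [ClassCount.pairs, Finset.mem_filter, Finset.mem_product, ClassCount.mem_cls,
      Finset.mem_singleton, hconj]
    constructor
    · rintro ⟨⟨⟨hx2, hxf⟩, hy2, hyf⟩, he⟩
      have hxx := Zassenhaus.sq_eq_one_of_orderOf hx2
      have hy : y = x * z := by rw [← he, ← mul_assoc, hxx, one_mul]
      subst hy
      have hyy := Zassenhaus.sq_eq_one_of_orderOf hy2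
      have hc : x * z = z * x := by
        calc x * z = (x * z)⁻¹ := (inv_eq_of_mul_eq_one_left hyy).symm
          _ = z⁻¹ * x⁻¹ := mul_inv_rev _ _
          _ = z * x := by rw [inv_eq_of_mul_eq_one_left hzz, inv_eq_of_mul_eq_one_left hxx]
      have hfix : ∀ w : Ω, z • w = w → w = a ∨ w = b := fun w hw =>
        Zassenhaus.eq_one_of_fix_three hZ hzne hab hz.1 hz.2 hw
      have hza : z • a = a := hz.1
      have hzb : z • b = b := hz.2
      have hxa : x • a = b := by
        rcases hfix (x • a) (by rw [← mul_smul, ← hc, mul_smul, hza]) with e | e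
        · exfalso
          have hxb : x • b = b := by
            rcases hfix (x • b) (by rw [← mul_smul, ← hc, mul_smul, hzb]) with e' | e'
            · exact absurd (smul_left_cancel x (e.trans e'.symm)) hab
            · exact e'
          have := Zassenhaus.involution_unique hZ hab (⟨e, hxb⟩ : x ∈ pairStab G a b) hx2 hz hz2
          rw [this, hzz, orderOf_one] at hy2
          omega
        · exact e
      have hxb : x • b = a := by rw [← hxa, ← mul_smul, hxx, one_smul]
      exact ⟨⟨hx2, hxf, hxa, hxb⟩, rfl, hy2, hyf, by rw [mul_smul, hza, hxa],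
        by rw [mul_smul, hzb, hxb]⟩
    · rintro ⟨⟨hx2, hxf, -, -⟩, rfl, hy2, hyf, -, -⟩
      exact ⟨⟨⟨hx2, hxf⟩, hy2, hyf⟩, by
        rw [← mul_assoc, Zassenhaus.sq_eq_one_of_orderOf hx2, one_mul]⟩
  by_cases hex : ∃ x₀ ∈ Z, x₀ * z ∈ Z
  · right
    obtain ⟨x₀, hx₀, hx₀z⟩ := hex
    -- the two-point stabiliser is transitive on `Z`
    have hall : ∀ x ∈ Z, x * z ∈ Z := by
      rintro x ⟨hx2, ⟨c', hc'⟩, hxa, hxb⟩
      obtain ⟨h02, ⟨c, hc⟩, h0a, h0b⟩ := hx₀
      have hca : c ≠ a := fun e => hab (by rw [← h0a, ← e, hc])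
      have hcb : c ≠ b := fun e => hab (by rw [← h0b, ← e, hc])
      have hc'a : c' ≠ a := fun e => hab (by rw [← hxa, ← e, hc'])
      have hc'b : c' ≠ b := fun e => hab (by rw [← hxb, ← e, hc'])
      obtain ⟨h, hh, hhc⟩ := exists_pairStab_smul hZ hab hd hca hcb hc'a hc'b
      have hha : h • a = a := hh.1
      have hhb : h • b = b := hh.2
      have hia : h⁻¹ • a = a := by rw [inv_smul_eq_iff, hha]
      have hib : h⁻¹ • b = b := by rw [inv_smul_eq_iff, hhb]
      have hic : h⁻¹ • c' = c := by rw [inv_smul_eq_iff, hhc]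
      have hx : x = h * x₀ * h⁻¹ := by
        refine inv_mul_eq_one.mp (Zassenhaus.eq_one hZ hab (Ne.symm hc'b) (Ne.symm hc'a) ?_ ?_ ?_)
        · rw [mul_smul, mul_smul, mul_smul, hia, h0a, hhb, inv_smul_eq_iff, hxa]
        · rw [mul_smul, mul_smul, mul_smul, hib, h0b, hha, inv_smul_eq_iff, hxb]
        · rw [mul_smul, mul_smul, mul_smul, hic, hc, hhc, inv_smul_eq_iff, hc']
      have hhz : h * z = z * h := mul_inv_eq_iff_eq_mul.mp <| by
        have := Zassenhaus.conj_mem_pairStab (g := h) hz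
        rw [hha, hhb] at this
        exact Zassenhaus.involution_unique hZ hab this ((MulAut.conj h).orderOf_eq z |>.trans hz2)
          hz hz2
      have hxz : x * z = h * (x₀ * z) * h⁻¹ := by
        have : h⁻¹ * z = z * h⁻¹ := by
          rw [inv_mul_eq_iff_eq_mul, ← mul_assoc, hhz, mul_inv_cancel_right]
        rw [hx, mul_assoc (h * x₀), this]
        group
      obtain ⟨h12, ⟨w, hw⟩, h1a, h1b⟩ := hx₀z
      rw [hxz]
      refine ⟨(MulAut.conj h).orderOf_eq (x₀ * z) |>.trans h12, ⟨h • w, ?_⟩, ?_, ?_⟩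
      · rw [mul_smul, mul_smul, inv_smul_smul, hw]
      · rw [mul_smul, mul_smul, hia, h1a, hhb]
      · rw [mul_smul, mul_smul, hib, h1b, hha]
    have : (ClassCount.pairs z z {z} : Set (G × G)) = (fun x => (x, x * z)) '' Z := by
      ext ⟨x, y⟩
      rw [Finset.mem_coe, hxy]
      constructor
      · rintro ⟨h1, rfl, -⟩; exact ⟨x, h1, rfl⟩
      · rintro ⟨x', hx', e⟩
        obtain ⟨rfl, rfl⟩ := Prod.mk.inj e
        exact ⟨hx', rfl, hall _ hx'⟩
    rw [← Set.ncard_coe_finset, this,
      Set.ncard_image_of_injective _ (fun x y e => (Prod.mk.inj e).1), hm, hd]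
  · left
    rw [Finset.card_eq_zero, Finset.eq_empty_iff_forall_notMem]
    rintro ⟨x, y⟩ h
    obtain ⟨h1, -, h3⟩ := (hxy x y).mp h
    exact hex ⟨x, h1, h3⟩

/-- The kernel of a point stabiliser. -/
structure Kernel (G : Type u) {Ω : Type v} [Group G] [MulAction G Ω] [Fintype Ω] (a b : Ω) where
  F : Subgroup G
  comm : IsMulCommutative F
  mem_iff : ∀ g : G, g ∈ F ↔ g = 1 ∨ fixOnly a g
  le : F ≤ stabilizer G a
  normal : (F.subgroupOf (stabilizer G a)).Normal
  card : Nat.card F = Fintype.card Ω - 1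

theorem exists_kernel' (hZ : IsZassenhausGroup G Ω) {a b : Ω} (hab : a ≠ b)
    (heven : Even (Nat.card (pairStab G a b))) : Nonempty (Kernel G a b) := by
  classical
  obtain ⟨F, hFc, hFmem⟩ := Zassenhaus.exists_kernel hZ hab heven
  have hFle : F ≤ stabilizer G a := fun g hg => by
    rcases (hFmem g).mp hg with rfl | h
    · exact one_mem _
    · exact (h a).mpr rfl
  have hFn : (F.subgroupOf (stabilizer G a)).Normal := by
    refine ⟨fun u hu g => ?_⟩
    rw [Subgroup.mem_subgroupOf] at hu ⊢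
    rw [hFmem] at hu ⊢
    rcases hu with hu | hu
    · left; simp [hu]
    · right
      intro x
      simp only [Subgroup.coe_mul, Subgroup.coe_inv, mul_smul]
      rw [smul_eq_iff_eq_inv_smul, hu, inv_smul_eq_iff, g.2]
  have hcardF : Nat.card F = Fintype.card Ω - 1 := by
    have hset : (F : Set G) = insert 1 {g : G | fixOnly a g} := by
      ext g; exact hFmem g
    have h1 : (1 : G) ∉ {g : G | fixOnly a g} := fun h =>
      hab ((h b).mp (one_smul G b)).symm
    show (F : Set G).ncard = _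
    rw [hset, Set.ncard_insert_of_notMem h1 (Set.toFinite _)]
    have := Zassenhaus.ncard_fixOnly hZ a
    omega
  exact ⟨⟨F, hFc, hFmem, hFle, hFn, hcardF⟩⟩

namespace Kernel

variable {a b : Ω} (K : Kernel G a b)

include K

theorem fixOnly_of_ne {u : G} (hu : u ∈ K.F) (h1 : u ≠ 1) : fixOnly a u :=
  ((K.mem_iff u).mp hu).resolve_left h1

/-- A point stabiliser is the product of the kernel and a two-point stabiliser. -/
theorem exists_smul (hab : a ≠ b) {x : Ω} (hx : x ≠ a) : ∃ v ∈ K.F, v • b = x := by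
  classical
  have hinj : Set.InjOn (fun u : G => u • b) (K.F : Set G) := fun u hu v hv e =>
    (inv_mul_eq_one.mp (by
      by_contra h1
      have hf := K.fixOnly_of_ne (mul_mem (inv_mem hv) hu) h1
      have e' : u • b = v • b := e
      exact hab ((hf b).mp (by rw [mul_smul, e', inv_smul_smul])).symm : v⁻¹ * u = 1)).symm
  have himg : (fun u : G => u • b) '' (K.F : Set G) = ({a} : Set Ω)ᶜ := by
    refine Set.eq_of_subset_of_ncard_le ?_ ?_ (Set.toFinite _)
    · rintro _ ⟨u, hu, rfl⟩ e
      exact hab (smul_left_cancel u ((K.le hu).trans (Set.mem_singleton_iff.mp e).symm))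
    · rw [hinj.ncard_image, Set.ncard_compl, Set.ncard_singleton, Nat.card_eq_fintype_card,
        ← K.card, ← Nat.card_coe_set_eq]
      exact le_rfl
  have hx' : x ∈ ({a} : Set Ω)ᶜ := hx
  rw [← himg] at hx'
  obtain ⟨v, hv, e⟩ := hx'
  exact ⟨v, hv, e⟩

theorem centralizer_eq (hZ : IsZassenhausGroup G Ω) (hab : a ≠ b) {u : G} (hu : u ∈ K.F)
    (h1 : u ≠ 1) : Subgroup.centralizer ({u} : Set G) = K.F := by
  have := K.comm
  ext g
  rw [Subgroup.mem_centralizer_singleton_iff]
  constructor
  · intro hg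
    have hf := K.fixOnly_of_ne hu h1
    have hga : g • a = a := smul_eq_of_fixOnly hf hg
    have hgb : g • b ≠ a := fun e => hab (smul_left_cancel g (e.trans hga.symm)).symm
    obtain ⟨v, hv, hvb⟩ := K.exists_smul hab hgb
    have hvu : v * u = u * v :=
      congrArg Subtype.val (mul_comm' (⟨v, hv⟩ : K.F) ⟨u, hu⟩)
    have hh : v⁻¹ * g ∈ pairStab G a b := by
      rw [mem_pairStab, mul_smul, mul_smul, hga, inv_smul_eq_iff, (show v • a = a from K.le hv),
        ← hvb, inv_smul_smul]
      exact ⟨rfl, rfl⟩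
    have hhu : (v⁻¹ * g) * u = u * (v⁻¹ * g) := by
      have hiu : v⁻¹ * u = u * v⁻¹ := by
        rw [inv_mul_eq_iff_eq_mul, ← mul_assoc, hvu, mul_inv_cancel_right]
      rw [mul_assoc, hg, ← mul_assoc, hiu, mul_assoc]
    by_contra hgF
    have hne : v⁻¹ * g ≠ 1 := fun e => hgF (by rwa [← inv_mul_eq_one.mp e])
    have hua : u • b ≠ a := fun e => hab (smul_left_cancel u (e.trans ((hf a).mpr rfl).symm)).symm
    have hub : u • b ≠ b := fun e => hab ((hf b).mp e).symm
    refine Zassenhaus.smul_ne hZ hab hh hne hua hub ?_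
    rw [← mul_smul, hhu, mul_smul, (show (v⁻¹ * g) • b = b from hh.2)]
  · intro hg
    exact congrArg Subtype.val (mul_comm' (⟨g, hg⟩ : K.F) ⟨u, hu⟩)

theorem conj_mem {g u : G} (hg : g • a = a) (hu : u ∈ K.F) : g * u * g⁻¹ ∈ K.F := by
  have := K.normal.conj_mem ⟨u, K.le hu⟩ (Subgroup.mem_subgroupOf.mpr hu) ⟨g, hg⟩
  exact Subgroup.mem_subgroupOf.mp this

theorem isConj_of_ne (hZ : IsZassenhausGroup G Ω) (hab : a ≠ b)
    (hd : Nat.card (pairStab G a b) = Fintype.card Ω - 2) {u u' : G} (hu : u ∈ K.F) (h1 : u ≠ 1)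
    (hu' : u' ∈ K.F) (h1' : u' ≠ 1) : ∃ g : G, g • a = a ∧ g * u * g⁻¹ = u' := by
  classical
  have hinj : Set.InjOn (fun h : G => h * u * h⁻¹) (pairStab G a b : Set G) := fun g hg h hh e =>
    (inv_mul_eq_one.mp (by
      have e' : g * u * g⁻¹ = h * u * h⁻¹ := e
      have hc : (h⁻¹ * g) * u = u * (h⁻¹ * g) := by
        have e'' : h⁻¹ * (g * u * g⁻¹) * g = h⁻¹ * (h * u * h⁻¹) * g := by rw [e']
        simpa [mul_assoc] using e''
      have hm : h⁻¹ * g ∈ K.F := by
        rw [← K.centralizer_eq hZ hab hu h1]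
        exact Subgroup.mem_centralizer_singleton_iff.mpr hc
      by_contra hne
      exact hab ((K.fixOnly_of_ne hm hne b).mp
        (mul_mem (inv_mem hh) hg : h⁻¹ * g ∈ pairStab G a b).2).symm : h⁻¹ * g = 1)).symm
  have himg : (fun h : G => h * u * h⁻¹) '' (pairStab G a b : Set G) =
      (K.F : Set G) \ {1} := by
    refine Set.eq_of_subset_of_ncard_le ?_ ?_ (Set.toFinite _)
    · rintro _ ⟨h, hh, rfl⟩
      exact ⟨K.conj_mem hh.1 hu, fun e => h1 (conj_eq_one_iff.mp (Set.mem_singleton_iff.mp e))⟩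
    · rw [hinj.ncard_image, Set.ncard_sdiff (by simp) (Set.toFinite _), Set.ncard_singleton]
      show Nat.card K.F - 1 ≤ Nat.card (pairStab G a b)
      rw [K.card, hd]
      omega
  have hmem : u' ∈ (K.F : Set G) \ {1} := ⟨hu', h1'⟩
  rw [← himg] at hmem
  obtain ⟨h, hh, e⟩ := hmem
  exact ⟨h, hh.1, e⟩

end Kernel

/-- Integer values on the kernel and the multiplicity of the principal character there. -/
theorem exists_kernel_value (hZ : IsZassenhausGroup G Ω) {a b : Ω} (hab : a ≠ b)
    (hd : Nat.card (pairStab G a b) = Fintype.card Ω - 2) (K : Kernel G a b) {u₀ : G}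
    (hu₀ : u₀ ∈ K.F) (h1 : u₀ ≠ 1) (χ : IrrCharacter G) :
    ∃ (N P : ℕ) (c : ℤ), (χ : G → ℂ) 1 = N ∧ 0 < N ∧ N ∣ Nat.card G ∧ |c| ≤ N ∧
      (∀ u ∈ K.F, u ≠ 1 → (χ : G → ℂ) u = c) ∧
      (N : ℤ) + ((Nat.card K.F : ℤ) - 1) * c = (Nat.card K.F : ℤ) * P := by
  classical
  haveI : Fintype K.F := Fintype.ofFinite _
  obtain ⟨N, hN, hNpos, hNdvd⟩ := irr_degree_dvd_card χ
  obtain ⟨P, hP⟩ := ClassCount.exists_mult χ K.F
  have hconst : ∀ u ∈ K.F, u ≠ 1 → (χ : G → ℂ) u = (χ : G → ℂ) u₀ := fun u hu hu1 => by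
    obtain ⟨g, -, hg⟩ := K.isConj_of_ne hZ hab hd hu₀ h1 hu hu1
    rw [← hg]
    exact irr_isClassFunction χ u₀ g
  have hsum : (N : ℂ) + ((Nat.card K.F : ℂ) - 1) * (χ : G → ℂ) u₀ = (Nat.card K.F : ℂ) * P := by
    rw [← hP, ← Finset.add_sum_erase _ _ (Finset.mem_univ (1 : K.F)), OneMemClass.coe_one, inv_one,
      hN, add_right_inj]
    rw [Finset.sum_congr rfl fun t ht => hconst _ (inv_mem t.2) (fun e => Finset.ne_of_mem_erase ht
      (Subtype.ext (inv_eq_one.mp e))), Finset.sum_const, Finset.card_erase_of_mem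
      (Finset.mem_univ _), Finset.card_univ, nsmul_eq_mul, Nat.cast_sub Fintype.card_pos,
      Nat.card_eq_fintype_card, Nat.cast_one]
  have h2 : 1 < Nat.card K.F := by
    rw [Finite.one_lt_card_iff_nontrivial]
    exact ⟨⟨u₀, hu₀⟩, 1, fun e => h1 (congrArg Subtype.val e)⟩
  have hne : ((Nat.card K.F : ℂ) - 1) ≠ 0 := by
    rw [sub_ne_zero]; exact_mod_cast h2.ne'
  set r : ℚ := (((Nat.card K.F : ℤ) * P - N : ℤ) : ℚ) / ((Nat.card K.F : ℚ) - 1) with hr
  have hu : (χ : G → ℂ) u₀ = (r : ℂ) := by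
    rw [hr]
    push_cast
    rw [eq_div_iff hne]
    linear_combination hsum
  obtain ⟨c, hc⟩ := exists_int_of_isIntegral_rat (q := r)
    (hu ▸ isIntegral_of_isCharacter (irr_isCharacter χ) u₀)
  have hu' : (χ : G → ℂ) u₀ = (c : ℂ) := by rw [hu, ← hc]; norm_cast
  refine ⟨N, P, c, hN, hNpos, hNdvd, ?_, fun u hu hu1 => (hconst u hu hu1).trans hu', ?_⟩
  · have h := norm_le_degree_of_isCharacter (irr_isCharacter χ) u₀
    rw [hu', hN, Complex.norm_intCast, Complex.norm_natCast] at h
    exact_mod_cast h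
  · rw [hu'] at hsum
    exact_mod_cast hsum

/-- In a simple group a non-principal irreducible character takes its degree only at `1`. -/
theorem eq_principal_of_eq_degree [IsSimpleGroup G] {χ : IrrCharacter G} {u : G} (hu : u ≠ 1)
    (h : (χ : G → ℂ) u = (χ : G → ℂ) 1) : χ = principalIrr G := by
  obtain ⟨n, ρ, -, hρ⟩ := χ.2
  have hk : u ∈ ρ.ker := by
    rw [← hρ, Representation.char_one] at h
    exact (char_eq_degree_iff ρ u).mp h
  rcases ρ.normal_ker.eq_bot_or_eq_top with e | e
  · rw [e, Subgroup.mem_bot] at hk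
    exact absurd hk hu
  · refine Burnside.eq_one_of_irr_const (c := (n : ℂ)) fun g => ?_
    have hg : ρ g = 1 := MonoidHom.mem_ker.mp (e ▸ Subgroup.mem_top g)
    rw [← hρ, Representation.character, hg, LinearMap.trace_one]
    simp

/-- A non-principal character of degree `q * P` vanishing on the kernel minus `1` is induced from
the trivial character of a point stabiliser, less the principal character. -/
theorem eq_ind_sub_one (hZ : IsZassenhausGroup G Ω) {a b : Ω} (hab : a ≠ b)
    (hd : Nat.card (pairStab G a b) = Fintype.card Ω - 2) (K : Kernel G a b)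
    [Fintype (stabilizer G a)] {q P : ℕ} (hq : Nat.card K.F = q) (hq3 : 3 ≤ q) (hP : 0 < P)
    (hPq : P * P < q) (hsmall : ∀ ψ : IrrCharacter G, ψ ≠ principalIrr G →
      ∃ M : ℕ, (ψ : G → ℂ) 1 = M ∧ q - 1 ≤ M)
    {χ : IrrCharacter G} (hχ : χ ≠ principalIrr G) (hdeg : (χ : G → ℂ) 1 = (q * P : ℕ))
    (hzero : ∀ u ∈ K.F, u ≠ 1 → (χ : G → ℂ) u = 0) :
    (χ : G → ℂ) = fun g => indFun (stabilizer G a) (fun _ => (1 : ℂ)) g - 1 := by
  classical
  set B : Subgroup G := stabilizer G a with hB
  set E : Subgroup B := K.F.subgroupOf B with hE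
  haveI : E.Normal := K.normal
  haveI : Fintype E := Fintype.ofFinite _
  have hEcard : Nat.card E = q := by
    rw [← hq, Nat.card_congr (Subgroup.subgroupOfEquivOfLe K.le).toEquiv]
  set π : B → ℂ := indFun E (fun _ => (1 : ℂ)) with hπ
  have hπc : IsCharacter B π :=
    Induction.isCharacter_indFun E Induction.isCharacter_const_one
  have hψc : IsCharacter B (fun h : B => (χ : G → ℂ) h) :=
    CfsgLib.CharGalois.isCharacter_comp (irr_isCharacter χ) B.subtype
  obtain ⟨mπ, hmπ, hπsum⟩ := Clifford.exists_mult hπc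
  obtain ⟨mψ, hmψ, hψsum⟩ := Clifford.exists_mult hψc
  -- `P` is the pairing of the two characters
  have hpair : classInner π (fun h : B => (χ : G → ℂ) h) = (P : ℂ) := by
    rw [hπ, Induction.classInner_indFun E _ (isClassFunction_of_isCharacter hψc), classInner,
      ← Finset.add_sum_erase _ _ (Finset.mem_univ (1 : E)),
      Finset.sum_eq_zero (fun t ht => by
        rw [hzero _ (Subgroup.mem_subgroupOf.mp t.2) (fun e => Finset.ne_of_mem_erase ht
          (Subtype.ext (Subtype.ext e))), map_zero, mul_zero]),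
      add_zero, OneMemClass.coe_one, OneMemClass.coe_one, hdeg, Complex.conj_natCast, hEcard]
    have : (q : ℂ) ≠ 0 := Nat.cast_ne_zero.mpr (by omega)
    push_cast
    field_simp
  have hsumP : ∑ θ : IrrCharacter B, mπ θ * mψ θ = P := by
    have h := classInner_eq_sum_mul (φ := π) (ψ := fun h : B => (χ : G → ℂ) h)
      (isClassFunction_of_isCharacter hψc)
    rw [hpair] at h
    simp only [hmπ, hmψ, Complex.conj_natCast] at h
    exact_mod_cast h.symm
  obtain ⟨θ, -, hθ⟩ : ∃ θ ∈ Finset.univ, mπ θ * mψ θ ≠ 0 :=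
    Finset.exists_ne_zero_of_sum_ne_zero (by omega)
  obtain ⟨k, hk0, hk⟩ := irr_exists_degree θ.2
  -- constituents of `π` contain the kernel in their kernels
  have hmπk : mπ θ = k := by
    have hne : classInner π (θ : B → ℂ) ≠ 0 := by
      rw [hmπ, Nat.cast_ne_zero]; exact left_ne_zero_of_mul hθ
    have hval : ∀ t : E, π t = π 1 := fun t => by
      have e1 := Induction.indFun_normal_apply (H := E) (fun _ => (1 : ℂ)) t
      have e2 := Induction.indFun_normal_apply (H := E) (fun _ => (1 : ℂ)) 1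
      rw [hπ, e1, ← OneMemClass.coe_one E, e2]
    have hker : ∀ t : E, (θ : B → ℂ) t = k := fun t =>
      (CharMonomial.constituent_eq_degree hπc hne (hval t)).trans hk
    have h := hmπ θ
    rw [hπ, Induction.classInner_indFun E _ (irr_isClassFunction θ), classInner] at h
    simp only [hker, Complex.conj_natCast, one_mul, Finset.sum_const, Finset.card_univ,
      nsmul_eq_mul, ← Nat.card_eq_fintype_card] at h
    rw [inv_mul_cancel_left₀ (Nat.cast_ne_zero.mpr Nat.card_pos.ne')] at h
    exact_mod_cast h.symm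
  set m := mψ θ with hm
  have hkm : k * m ≤ P := by
    rw [← hsumP, ← hmπk]
    exact Finset.single_le_sum (fun i _ => Nat.zero_le (mπ i * mψ i)) (Finset.mem_univ θ)
  have hm0 : 0 < m := Nat.pos_of_ne_zero (right_ne_zero_of_mul hθ)
  -- the induced character
  set Φ : G → ℂ := indFun B (θ : B → ℂ) with hΦ
  have hΦc : IsCharacter G Φ := Induction.isCharacter_indFun B (irr_isCharacter θ)
  obtain ⟨mΦ, hmΦ, hΦsum⟩ := Clifford.exists_mult hΦc
  have hmχ : mΦ χ = m := by
    have h := hmΦ χ
    rw [hΦ, Induction.classInner_indFun B _ (irr_isClassFunction χ),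
      classInner_conj_symm, hmψ, Complex.conj_natCast] at h
    exact_mod_cast h.symm
  have hidx : B.index = Fintype.card Ω := by
    have h1 := B.index_mul_card
    rw [card_group hZ hab, hB, Zassenhaus.card_stabilizer hZ hab, ← hB] at h1
    have h3 := Zassenhaus.three_le_card hZ hab
    have h1d := Zassenhaus.one_lt_card_pairStab hZ hab
    exact Nat.eq_of_mul_eq_mul_right (Nat.mul_pos (by omega) (by omega)) h1
  have hdegs : ∀ ψ : IrrCharacter G, ∃ M : ℕ, (ψ : G → ℂ) 1 = M :=
    fun ψ => exists_degree (irr_isCharacter ψ)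
  choose D hD using hdegs
  have hDsum : ∑ ψ : IrrCharacter G, mΦ ψ * D ψ = (q + 1) * k := by
    have h := congrFun hΦsum 1
    rw [hΦ, Induction.indFun_one_apply, hidx, hk] at h
    simp only [Finset.sum_apply, Pi.smul_apply, smul_eq_mul, hD] at h
    have hn : Fintype.card Ω = q + 1 := by
      have := K.card; omega
    rw [hn] at h
    exact_mod_cast h.symm
  have hDχ : D χ = q * P := by
    have h := (hD χ).symm.trans hdeg
    exact_mod_cast h
  have hrest := Finset.add_sum_erase Finset.univ (fun ψ => mΦ ψ * D ψ) (Finset.mem_univ χ)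
  rw [hDsum] at hrest
  simp only [hmχ, hDχ] at hrest
  have hkk : k ≤ P := le_trans (Nat.le_mul_of_pos_right k hm0) hkm
  have hPq' : P < q - 1 := by
    rcases Nat.lt_or_ge P 2 with h | h
    · omega
    · have : 2 * P ≤ P * P := Nat.mul_le_mul_right P h
      omega
  have hle : m * (q * P) ≤ (q + 1) * k := hrest ▸ Nat.le_add_right _ _
  have hm1 : m = 1 := by
    by_contra hne
    have h1 : 2 * (q * P) ≤ m * (q * P) := Nat.mul_le_mul_right _ (by omega)
    have h2 : (q + 1) * k ≤ (q + 1) * P := Nat.mul_le_mul_left _ hkk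
    have h3 : 2 * P ≤ q * P := Nat.mul_le_mul_right P (by omega)
    simp only [add_mul, one_mul] at h2 hle
    omega
  rw [hm1, one_mul] at hle hrest
  have hkP : k = P := by
    by_contra hne
    have h1 : q * (k + 1) ≤ q * P := Nat.mul_le_mul_left q (by omega)
    rw [mul_add, mul_one] at h1
    rw [add_mul, one_mul] at hle
    omega
  rw [hkP, add_mul, one_mul, add_right_inj] at hrest
  have hoth : ∀ ψ : IrrCharacter G, ψ ≠ χ → ψ ≠ principalIrr G → mΦ ψ = 0 := by
    intro ψ h1 h2
    obtain ⟨M, hM, hMq⟩ := hsmall ψ h2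
    have hDM : D ψ = M := by
      have h := (hD ψ).symm.trans hM
      exact_mod_cast h
    have := Finset.single_le_sum (f := fun ψ => mΦ ψ * D ψ) (fun i _ => Nat.zero_le _)
      (Finset.mem_erase.mpr ⟨h1, Finset.mem_univ ψ⟩)
    rw [hrest, hDM] at this
    by_contra h0
    have : M ≤ mΦ ψ * M := Nat.le_mul_of_pos_left M (Nat.pos_of_ne_zero h0)
    omega
  have hm1' : mΦ (principalIrr G) = k := by
    have hD1 : D (principalIrr G) = 1 := by
      have h := hD (principalIrr G)
      rw [principalIrr_apply] at h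
      exact_mod_cast h.symm
    rw [Finset.sum_eq_single (principalIrr G)
      (fun ψ hψ h2 => by rw [hoth ψ (Finset.ne_of_mem_erase hψ) h2, zero_mul])
      (fun h => absurd (Finset.mem_erase.mpr ⟨Ne.symm hχ, Finset.mem_univ _⟩) h), hD1, mul_one]
      at hrest
    omega
  have hθ1 : θ = principalIrr B := by
    have h := hmΦ (principalIrr G)
    rw [hΦ, Induction.classInner_indFun B _ (irr_isClassFunction _)] at h
    by_contra hne
    have hz := classInner_irr θ (principalIrr B)
    rw [if_neg hne] at hz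
    have h' : classInner (θ : B → ℂ) (principalIrr B : B → ℂ) = (mΦ (principalIrr G) : ℂ) := h
    rw [hz, hm1'] at h'
    exact hk0.ne' (by exact_mod_cast h'.symm)
  have hk1 : k = 1 := by
    rw [hθ1, principalIrr_apply] at hk
    exact_mod_cast hk.symm
  funext g
  have h := congrFun hΦsum g
  rw [hΦ, hθ1] at h
  simp only [Finset.sum_apply, Pi.smul_apply, smul_eq_mul] at h
  rw [Finset.sum_eq_add χ (principalIrr G) hχ
    (fun ψ _ hψ => by rw [hoth ψ hψ.1 hψ.2, Nat.cast_zero, zero_mul])
    (fun h => absurd (Finset.mem_univ _) h) (fun h => absurd (Finset.mem_univ _) h),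
    hmχ, hm1, hm1', hk1, principalIrr_apply] at h
  have h' : indFun B (fun _ => (1 : ℂ)) g = (χ : G → ℂ) g + 1 := by
    rw [Nat.cast_one, one_mul, one_mul] at h
    exact h
  rw [h', add_sub_cancel_right]

/-- No simple Zassenhaus group has even two-point stabilisers of order `n - 2`. -/
theorem false_of_sharp [IsSimpleGroup G] (hZ : IsZassenhausGroup G Ω) {a b : Ω} (hab : a ≠ b)
    (heven : Even (Nat.card (pairStab G a b)))
    (hd : Nat.card (pairStab G a b) = Fintype.card Ω - 2) : False := by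
  classical
  obtain ⟨K⟩ := exists_kernel' hZ hab heven
  set q := Nat.card K.F with hq
  have h1d := Zassenhaus.one_lt_card_pairStab hZ hab
  have hqn : q + 1 = Fintype.card Ω := by rw [hq, K.card]; omega
  have hdq : Nat.card (pairStab G a b) + 1 = q := by omega
  have hq3 : 3 ≤ q := by omega
  have hG : Nat.card G = (q + 1) * q * (q - 1) := by
    rw [card_group hZ hab, ← hqn, show Nat.card (pairStab G a b) = q - 1 by omega, Nat.add_sub_cancel,
      mul_assoc]
  haveI : Nontrivial K.F := Finite.one_lt_card_iff_nontrivial.mp (by omega)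
  obtain ⟨⟨u₀, hu₀⟩, hu₀ne⟩ := exists_ne (1 : K.F)
  have hu₀1 : u₀ ≠ 1 := fun e => hu₀ne (Subtype.ext e)
  -- `q` is a prime power
  obtain ⟨-, p, hp, hexp⟩ := CfsgLib.PermGroup.elementary_abelian_of_conj K.F
    (fun x hx y hy hx1 hy1 => by
      obtain ⟨g, hga, hg⟩ := K.isConj_of_ne hZ hab hd hx hx1 hy hy1
      refine ⟨g, Subgroup.mem_normalizer_iff.mpr fun w => ⟨K.conj_mem hga, fun hw => ?_⟩, hg⟩
      have := K.conj_mem (g := g⁻¹) (by rw [inv_smul_eq_iff, hga]) hw
      simpa [mul_assoc] using this)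
    ((Subgroup.nontrivial_iff_ne_bot _).mp inferInstance)
  haveI : Fact p.Prime := ⟨hp⟩
  obtain ⟨f, hf⟩ := IsPGroup.iff_card.mp (fun x : K.F => ⟨1, by
    rw [pow_one]; exact Subtype.ext (hexp x x.2)⟩ : IsPGroup p K.F)
  rw [← hq] at hf
  have hpq : p ∣ q := by
    rw [hf]
    refine dvd_pow_self p ?_
    rintro rfl
    rw [pow_zero] at hf
    omega
  choose N P c hN hNpos hNdvd hcN hcval hrel using
    fun χ => exists_kernel_value hZ hab hd K hu₀ hu₀1 χ
  simp only [← hq] at hrel
  have hqZ : (3 : ℤ) ≤ q := by exact_mod_cast hq3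
  -- non-principal degrees
  have hclt : ∀ χ, χ ≠ principalIrr G → c χ < N χ := by
    intro χ hχ
    refine lt_of_le_of_ne ((le_abs_self _).trans (hcN χ)) fun e => hχ ?_
    refine eq_principal_of_eq_degree hu₀1 ?_
    rw [hcval χ u₀ hu₀ hu₀1, hN χ, e, Int.cast_natCast]
  have hsmall : ∀ χ, χ ≠ principalIrr G → q - 1 ≤ N χ := by
    intro χ hχ
    have h1 := hrel χ
    have h2 := hclt χ hχ
    have h3 : (N χ : ℤ) - P χ = ((q : ℤ) - 1) * (P χ - c χ) := by linear_combination h1
    have hj : c χ < P χ := by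
      by_contra h
      have : ((q : ℤ) - 1) * (P χ - c χ) ≤ 0 :=
        mul_nonpos_of_nonneg_of_nonpos (by omega) (by omega)
      omega
    have : ((q : ℤ) - 1) * 1 ≤ ((q : ℤ) - 1) * (P χ - c χ) :=
      mul_le_mul_of_nonneg_left (by omega) (by omega)
    omega
  -- degrees squared
  have hsumsq : ∑ χ : IrrCharacter G, (N χ) ^ 2 = Nat.card G := by
    have h := sum_sq_degrees (G := G)
    simp only [hN] at h
    exact_mod_cast h
  -- column orthogonality at an element of the kernel
  have hcolZ : ∑ χ : IrrCharacter G, c χ ^ 2 = (q : ℤ) := by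
    have h := column_orth u₀ u₀
    rw [if_pos (IsConj.refl u₀), K.centralizer_eq hZ hab hu₀ hu₀1, ← hq] at h
    simp only [fun χ => hcval χ u₀ hu₀ hu₀1, map_intCast, ← sq] at h
    exact_mod_cast h
  have hcls : Nat.card {x : G // IsConj u₀ x} = (q + 1) * (q - 1) := by
    have h := card_isConj_mul_card_centralizer u₀
    rw [K.centralizer_eq hZ hab hu₀ hu₀1, ← hq, hG] at h
    refine Nat.eq_of_mul_eq_mul_right (show 0 < q by omega) (h.trans ?_)
    rw [mul_right_comm]
  -- the characters of degree divisible by `q`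
  have hdvd : ∀ χ, χ ≠ principalIrr G → q ∣ N χ →
      (χ : G → ℂ) = fun g => indFun (stabilizer G a) (fun _ => (1 : ℂ)) g - 1 := by
    intro χ hχ hqN
    obtain ⟨k, hk⟩ := hqN
    have hint : IsIntegral ℤ ((((((q : ℤ) ^ 2 - 1) * c χ : ℤ) : ℚ) / q : ℚ) : ℂ) := by
      obtain ⟨n, ρ, hρi, hρ⟩ := χ.2
      haveI := hρi
      have h := isIntegral_class_mul_char_div ρ u₀
      rw [hcls, hρ, hcval χ u₀ hu₀ hu₀1] at h
      have hn : (Module.finrank ℂ (Fin n → ℂ) : ℂ) = N χ := by
        rw [← hN χ, ← hρ, Representation.char_one]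
      rw [hn, hk] at h
      have h2 := (isIntegral_algebraMap (R := ℤ) (A := ℂ) (x := (k : ℤ))).mul h
      have hk0 : (k : ℂ) ≠ 0 := by
        have := hNpos χ
        rw [hk] at this
        exact_mod_cast (Nat.pos_of_mul_pos_left this).ne'
      have hq0 : (q : ℂ) ≠ 0 := by exact_mod_cast (show q ≠ 0 by omega)
      have e : ((((((q : ℤ) ^ 2 - 1) * c χ : ℤ) : ℚ) / q : ℚ) : ℂ) =
          algebraMap ℤ ℂ (k : ℤ) * ((((q + 1) * (q - 1) : ℕ) : ℂ) * (c χ : ℂ) / ((q * k : ℕ) : ℂ)) := by
        simp only [algebraMap_int_eq, eq_intCast]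
        push_cast [Nat.cast_sub (show 1 ≤ q by omega)]
        field_simp
        ring
      rw [e]
      exact h2
    obtain ⟨z, hz⟩ := exists_int_of_isIntegral_rat (q := ((((q : ℤ) ^ 2 - 1) * c χ : ℤ) : ℚ) / q)
      hint
    rw [eq_div_iff (by exact_mod_cast (show q ≠ 0 by omega))] at hz
    have hz' : z * (q : ℤ) = ((q : ℤ) ^ 2 - 1) * c χ := by exact_mod_cast hz
    have hcq : c χ = (q : ℤ) * ((q : ℤ) * c χ - z) := by linear_combination hz'
    have hc0 : c χ = 0 := by
      by_contra hne
      have hc1 : c χ ^ 2 + 1 ≤ (q : ℤ) := by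
        have hp1 : c (principalIrr G) = 1 := by
          have h := hcval (principalIrr G) u₀ hu₀ hu₀1
          rw [principalIrr_apply] at h
          exact_mod_cast h.symm
        rw [← hcolZ]
        have h := Finset.add_le_sum (f := fun χ => c χ ^ 2) (fun i _ => sq_nonneg (c i))
          (Finset.mem_univ χ) (Finset.mem_univ (principalIrr G)) hχ
        rw [hp1, one_pow] at h
        exact h
      have he : (q : ℤ) * c χ - z ≠ 0 := fun e => hne (by rw [hcq, e, mul_zero])
      have : (1 : ℤ) ≤ ((q : ℤ) * c χ - z) ^ 2 := by nlinarith [Int.one_le_abs he, sq_abs ((q : ℤ) * c χ - z)]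
      rw [hcq] at hc1
      nlinarith
    have hNP : N χ = q * P χ := by
      have h := hrel χ
      rw [hc0, mul_zero, add_zero] at h
      exact_mod_cast h
    have hPpos : 0 < P χ := by
      have := hNpos χ
      rw [hNP] at this
      exact Nat.pos_of_mul_pos_left this
    have hPq : P χ * P χ < q := by
      have h := Finset.single_le_sum (f := fun χ => (N χ) ^ 2) (fun i _ => Nat.zero_le _)
        (Finset.mem_univ χ)
      rw [hsumsq, hG, hNP] at h
      have h' : (q : ℤ) * q * (P χ * P χ) ≤ ((q : ℤ) + 1) * q * (q - 1) := by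
        have : ((q * P χ) ^ 2 : ℤ) ≤ (((q + 1) * q * (q - 1) : ℕ) : ℤ) := by exact_mod_cast h
        push_cast [Nat.cast_sub (show 1 ≤ q by omega)] at this
        linarith
      by_contra hge
      have : (q : ℤ) ≤ P χ * P χ := by exact_mod_cast Nat.le_of_not_lt hge
      nlinarith
    exact eq_ind_sub_one hZ hab hd K hq.symm hq3 hPpos hPq
      (fun ψ hψ => ⟨N ψ, hN ψ, hsmall ψ hψ⟩) hχ (by rw [hN χ, hNP])
      (fun u hu hu1 => by rw [hcval χ u hu hu1, hc0, Int.cast_zero])
  -- the Steinberg character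
  haveI : IsPretransitive G Ω := PermGroup.isPretransitive_of_two_le hZ.2.1 (by omega)
    (by rw [Nat.card_eq_fintype_card]; omega)
  have hX : 2 ≤ Nat.card Ω := by rw [Nat.card_eq_fintype_card]; omega
  obtain ⟨St, hSt⟩ : ∃ St : IrrCharacter G,
      (St : G → ℂ) = fun g => (Nat.card (fixedBy Ω g) : ℂ) - 1 :=
    ⟨⟨_, (PermTwo.isIrrCharacter_fix_sub_one_iff hX).mpr hZ.2.1⟩, rfl⟩
  have hStN : N St = q := by
    have h := hN St
    rw [hSt] at h
    have h1 : Nat.card (fixedBy Ω (1 : G)) = q + 1 := by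
      rw [Nat.card_coe_set_eq, show fixedBy Ω (1 : G) = Set.univ from
        Set.eq_univ_of_forall fun x => one_smul G x, Set.ncard_univ, Nat.card_eq_fintype_card, hqn]
    simp only [h1, Nat.cast_add, Nat.cast_one, add_sub_cancel_right] at h
    exact_mod_cast h.symm
  have hN1 : N (principalIrr G) = 1 := by
    have h := hN (principalIrr G)
    rw [principalIrr_apply] at h
    exact_mod_cast h.symm
  have hSt1 : St ≠ principalIrr G := fun e => by
    rw [e, hN1] at hStN
    omega
  have huniq : ∀ χ, χ ≠ St → p ∣ ClassCount.cofDegree χ := by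
    intro χ hχ
    have hcd : N χ * ClassCount.cofDegree χ = Nat.card G := by
      have : charDegree (χ : G → ℂ) = N χ := by
        have h := (ClassCount.degree_eq χ).1.symm.trans (hN χ)
        exact_mod_cast h
      rw [← this]
      exact ClassCount.degree_mul_cofDegree χ
    have hqG : q ∣ Nat.card G := hG ▸ (dvd_mul_left q _).mul_right _
    by_cases hχ1 : χ = principalIrr G
    · rw [hχ1] at hcd ⊢
      rw [hN1, one_mul] at hcd
      rw [hcd]
      exact hpq.trans hqG
    by_contra hcop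
    have hqN : q ∣ N χ := by
      rw [← hcd, hf] at hqG
      rw [hf]
      exact (((hp.coprime_iff_not_dvd.mpr hcop).pow_left f)).dvd_of_dvd_mul_right hqG
    apply hχ
    apply Subtype.ext
    rw [hdvd χ hχ1 hqN, hdvd St hSt1 (hStN ▸ dvd_rfl)]
  -- the involution
  obtain ⟨z, hz, hz2⟩ := Zassenhaus.exists_involution_mem heven
  have hzne := Zassenhaus.ne_one_of_orderOf hz2
  have hStz : (St : G → ℂ) z = 1 := by
    rw [hSt]
    simp only
    rw [Zassenhaus.fixed_pair_eq hZ hzne hab hz.1 hz.2, Nat.card_coe_set_eq, Set.ncard_pair hab]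
    norm_num
  have hcofSt : ClassCount.cofDegree St = (q + 1) * (q - 1) := by
    have h := ClassCount.degree_mul_cofDegree St
    have : charDegree (St : G → ℂ) = q := by
      have h := (ClassCount.degree_eq St).1.symm.trans (hN St)
      rw [hStN] at h
      exact_mod_cast h
    rw [this, hG, mul_comm (q + 1) q, mul_assoc] at h
    exact Nat.eq_of_mul_eq_mul_left (by omega) h
  choose v hv using fun χ => exists_int_of_sq hz2 χ
  have hvSt : v St = 1 := by
    have h := (hv St).symm.trans hStz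
    exact_mod_cast h
  have hcount := ClassCount.card_pairs_mul_centralizers z z {z}
  set A := (ClassCount.pairs z z {z}).card with hA
  simp only [Finset.sum_singleton, inv_eq_of_mul_eq_one_left (Zassenhaus.sq_eq_one_of_orderOf hz2),
    card_centralizer_involution hZ hab hz hz2, hv] at hcount
  have hcountZ : (A : ℤ) * (2 * (Nat.card (pairStab G a b) : ℤ)) *
      (2 * (Nat.card (pairStab G a b) : ℤ)) =
      ∑ χ : IrrCharacter G, (ClassCount.cofDegree χ : ℤ) * (v χ * v χ * v χ) := by
    exact_mod_cast hcount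
  have hmod : (p : ℤ) ∣ (A : ℤ) * (4 * ((q : ℤ) - 1) ^ 2) - ((q : ℤ) ^ 2 - 1) := by
    have he := Finset.add_sum_erase Finset.univ
      (fun χ => (ClassCount.cofDegree χ : ℤ) * (v χ * v χ * v χ)) (Finset.mem_univ St)
    simp only [hvSt, hcofSt] at he
    have hdd : (Nat.card (pairStab G a b) : ℤ) = (q : ℤ) - 1 := by omega
    rw [hdd] at hcountZ
    have : (A : ℤ) * (4 * ((q : ℤ) - 1) ^ 2) - ((q : ℤ) ^ 2 - 1) =
        ∑ χ ∈ Finset.univ.erase St, (ClassCount.cofDegree χ : ℤ) * (v χ * v χ * v χ) := by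
      push_cast [Nat.cast_sub (show 1 ≤ q by omega)] at he
      linear_combination hcountZ - he
    rw [this]
    exact Finset.dvd_sum fun χ hχ => dvd_mul_of_dvd_left
      (Int.natCast_dvd_natCast.mpr (huniq χ (Finset.ne_of_mem_erase hχ))) _
  have hpZ : (p : ℤ) ∣ (q : ℤ) := Int.natCast_dvd_natCast.mpr hpq
  have hA1 : (p : ℤ) ∣ 4 * (A : ℤ) + 1 := by
    have h := dvd_sub hmod (hpZ.mul_right (4 * (A : ℤ) * ((q : ℤ) - 2) - q))
    have e : (A : ℤ) * (4 * ((q : ℤ) - 1) ^ 2) - ((q : ℤ) ^ 2 - 1) -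
        (q : ℤ) * (4 * (A : ℤ) * ((q : ℤ) - 2) - q) = 4 * (A : ℤ) + 1 := by ring
    rwa [e] at h
  have hp1 : ¬ (p : ℤ) ∣ 1 := fun h => hp.one_lt.ne'
    (Nat.dvd_one.mp (by exact_mod_cast h))
  rcases pairs_cases hZ hab heven hd hz hz2 with h | h
  · rw [← hA] at h
    rw [h] at hA1
    simp only [Nat.cast_zero, mul_zero, zero_add] at hA1
    exact hp1 hA1
  · rw [← hA] at h
    have h' : 2 * (A : ℤ) = (q : ℤ) - 1 := by omega
    have h4 : (p : ℤ) ∣ 4 * (A : ℤ) + 2 := by
      rw [show 4 * (A : ℤ) + 2 = 2 * (q : ℤ) by linarith]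
      exact hpZ.mul_left 2
    have := dvd_sub h4 hA1
    rw [show 4 * (A : ℤ) + 2 - (4 * (A : ℤ) + 1) = 1 by ring] at this
    exact hp1 this

end CfsgLib.Zass29.Sharp
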