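import Mathlib

/-!
# The exponent of the field of a simple Zassenhaus group of Suzuki type is odd
-/

set_option autoImplicit false

namespace CfsgLib.Zass29.SzArith

/-- Positive solutions of `x² + y² - 4x - 4y + 8 = k x y` need `k ≤ 2`. -/
theorem no_solution {k : ℤ} (hk : 3 ≤ k) :
    ∀ (s : ℕ) (x y : ℤ), x + y ≤ s → 0 < x → 0 < y →
      x ^ 2 + y ^ 2 - 4 * x - 4 * y + 8 = k * x * y → False := by
  intro s
  induction s using Nat.strong_induction_on with
  | _ s ih =>
    intro x y hs hx hy he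
    wlog hxy : y ≤ x generalizing x y with H
    · exact H y x (by omega) hy hx (by linear_combination he) (le_of_not_ge hxy)
    rcases eq_or_lt_of_le hxy with rfl | hlt
    · have h1 : y * ((k - 2) * y + 8) = 8 := by linear_combination -he
      have h2 : 9 ≤ (k - 2) * y + 8 := by nlinarith
      nlinarith
    by_cases hy1 : y = 1
    · subst hy1
      have hd : x ∣ 5 := ⟨k + 4 - x, by linear_combination he⟩
      have hx5 : x ≤ 5 := Int.le_of_dvd (by norm_num) hd
      interval_cases x <;> omega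
    set x' := k * y + 4 - x with hx'
    have hprod : x * x' = y ^ 2 - 4 * y + 8 := by rw [hx']; linear_combination -he
    have hx'0 : 0 < x' := pos_of_mul_pos_right (a := x) (by rw [hprod]; nlinarith) hx.le
    have hx'y : x' < y := by
      by_contra h
      have h1 : x * y ≤ x * x' := mul_le_mul_of_nonneg_left (not_lt.mp h) hx.le
      nlinarith
    refine ih (s - 1) (by omega) x' y (by omega) hx'0 hy ?_
    rw [hx']
    linear_combination he

/-- One torus is impossible. -/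
theorem false_of_one {n a e : ℕ} (hn : 2 ≤ n) (he : e = 1 ∨ e = 2) (hdvd : a ∣ (2 ^ n) ^ 2 + 1)
    (hsum : e * (a - 1) = 2 * 2 ^ n) : False := by
  have h4 : 4 ≤ 2 ^ n := Nat.pow_le_pow_right two_pos hn
  set q := 2 ^ n
  rcases he with rfl | rfl
  · obtain ⟨m, hm⟩ := hdvd
    have ha : a = 2 * q + 1 := by omega
    subst ha
    have hd : (2 * (q : ℤ) + 1) ∣ 5 := ⟨4 * m - (2 * q - 1), by
      have : ((q : ℤ)) ^ 2 + 1 = (2 * q + 1) * m := by exact_mod_cast hm
      linear_combination 4 * this⟩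
    have := Int.le_of_dvd (by norm_num) hd
    omega
  · obtain ⟨m, hm⟩ := hdvd
    have ha : a = q + 1 := by omega
    subst ha
    have hd : ((q : ℤ) + 1) ∣ 2 := ⟨m - (q - 1), by
      have : ((q : ℤ)) ^ 2 + 1 = (q + 1) * m := by exact_mod_cast hm
      linear_combination this⟩
    have := Int.le_of_dvd (by norm_num) hd
    omega

/-- Two tori force an odd exponent. -/
theorem odd_of_two {n a b : ℕ} (ha : 0 < a) (hb : 0 < b)
    (hsum : a + b = 2 * 2 ^ n + 2) (hdvd : a * b ∣ (2 ^ n) ^ 2 + 1) : Odd n := by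
  obtain ⟨m, hm⟩ := hdvd
  have hm0 : 0 < m := Nat.pos_of_ne_zero fun h => by simp [h] at hm
  have e1 : ((a : ℤ)) + b = 2 * (2 : ℤ) ^ n + 2 := by exact_mod_cast hsum
  have e2 : ((2 : ℤ) ^ n) ^ 2 + 1 = (a : ℤ) * b * m := by exact_mod_cast hm
  have hsol : (a : ℤ) ^ 2 + (b : ℤ) ^ 2 - 4 * a - 4 * b + 8 = (4 * (m : ℤ) - 2) * a * b := by
    linear_combination ((a : ℤ) + b + 2 * (2 : ℤ) ^ n - 2) * e1 + 4 * e2
  have hm1 : m = 1 := by
    by_contra h
    exact no_solution (k := 4 * (m : ℤ) - 2) (by omega) (a + b) a b (by push_cast; rfl)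
      (by omega) (by omega) hsol
  subst hm1
  have hsq : ((a : ℤ) - b) ^ 2 = (2 : ℤ) ^ (n + 3) := by
    rw [pow_add]
    push_cast at e2
    linear_combination ((a : ℤ) + b + 2 * (2 : ℤ) ^ n + 2) * e1 + 4 * e2
  have hnat : ((a : ℤ) - b).natAbs ^ 2 = 2 ^ (n + 3) := by
    rw [← Int.natAbs_pow, hsq, Int.natAbs_pow]
    rfl
  obtain ⟨j, -, hj⟩ := (Nat.dvd_prime_pow Nat.prime_two).mp
    (show ((a : ℤ) - b).natAbs ∣ 2 ^ (n + 3) from ⟨((a : ℤ) - b).natAbs, by rw [← hnat, sq]⟩)
  rw [hj, ← pow_mul] at hnat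
  have := Nat.pow_right_injective le_rfl hnat
  exact ⟨j - 2, by omega⟩

end CfsgLib.Zass29.SzArith
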