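import Mathlib

/-!
# Arithmetic excluding translations of order `q ^ 3`
-/

set_option autoImplicit false

namespace CfsgLib.Zass29.SzArith

/-- The multiplicity on the second kind of characters is twice that on the first. -/
theorem key {n : ℕ} (hn : 2 ≤ n) {q m u k : ℤ} (hq : q = 2 ^ n) (hm : 1 ≤ m)
    (hmD : 2 * m ^ 2 ≤ q - 2) (hu : u ^ 2 ≤ q) (hk : k = (q ^ 2 + q + 1) * m - q * u) (hk0 : 0 < k)
    (hdvd : k ∣ q ^ 3 * (q ^ 3 + 1)) : u = 2 * m := by
  have hq4 : 4 ≤ q := by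
    rw [hq]
    calc (4 : ℤ) = 2 ^ 2 := by norm_num
      _ ≤ 2 ^ n := by gcongr; norm_num
  -- split off the power of two
  obtain ⟨mn, rfl⟩ : ∃ mn : ℕ, m = mn := ⟨m.toNat, (Int.toNat_of_nonneg (by omega)).symm⟩
  obtain ⟨i, m', hm'odd, hmi⟩ := Nat.exists_eq_two_pow_mul_odd (n := mn) (by omega)
  have hm'pos : 0 < m' := hm'odd.pos
  have him : (2 : ℤ) ^ i ≤ mn := by
    have : 2 ^ i ≤ mn := by rw [hmi]; exact Nat.le_mul_of_pos_right _ hm'pos
    exact_mod_cast this
  have hmq : (mn : ℤ) < q := by nlinarith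
  have hin : i < n := by
    have h : (2 : ℤ) ^ i < 2 ^ n := by rw [← hq]; omega
    exact (pow_lt_pow_iff_right₀ (by norm_num : (1 : ℤ) < 2)).mp h
  obtain ⟨j, rfl⟩ : ∃ j, n = i + j + 1 := ⟨n - i - 1, by omega⟩
  set k' : ℤ := (q ^ 2 + q + 1) * m' - 2 ^ (j + 1) * u with hk'
  have hkk' : k = 2 ^ i * k' := by
    rw [hk, hk', hmi, hq]
    push_cast
    ring
  have hk'odd : Odd k' := by
    have h1 : Odd (q ^ 2 + q + 1) := by
      have : Even q := by rw [hq, show i + j + 1 = (i + j).succ from rfl, pow_succ]; exact even_two.mul_left _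
      simp [parity_simps, this]
    have h2 : Even ((2 : ℤ) ^ (j + 1) * u) := by
      rw [pow_succ, mul_comm ((2 : ℤ) ^ j) 2, mul_assoc]
      exact even_two.mul_right _
    exact (h1.mul (by exact_mod_cast hm'odd : Odd (m' : ℤ))).sub_even h2
  have hcop : IsCoprime k' (q ^ 3) := by
    rw [hq, ← pow_mul]
    refine IsCoprime.pow_right ?_
    obtain ⟨r, hr⟩ := hk'odd
    exact ⟨1, -r, by rw [hr]; ring⟩
  obtain ⟨p, hp⟩ : k' ∣ q ^ 3 + 1 :=
    hcop.dvd_of_dvd_mul_left ((Dvd.intro_left _ hkk'.symm).trans hdvd)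
  have hpk : p * k = 2 ^ i * (q ^ 3 + 1) := by rw [hkk', hp]; ring
  set δ : ℤ := p * mn - 2 ^ i * (q + 1) with hδ
  obtain ⟨e, he⟩ : q ∣ δ := ⟨-(p * (q + 1) * mn - p * u - 2 ^ i * (q ^ 2)) - 2 ^ i, by
    have := hpk
    rw [hk] at this
    linear_combination this + hδ⟩
  have hδk : δ * k = 2 ^ i * (q + 1) * q * (u - 2 * mn) := by
    have h1 : δ * k = mn * (p * k) - 2 ^ i * (q + 1) * k := by rw [hδ]; ring
    rw [h1, hpk, hk]
    ring
  by_cases hδ0 : δ = 0
  · rw [hδ0, zero_mul] at hδk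
    have h2 : (2 : ℤ) ^ i * (q + 1) * q ≠ 0 := by positivity
    have := (mul_eq_zero.mp hδk.symm).resolve_left h2
    omega
  exfalso
  have he0 : 1 ≤ |e| := Int.one_le_abs (by rintro rfl; exact hδ0 (by rw [he, mul_zero]))
  have hle : k ≤ mn * (q + 1) * (|u| + 2 * mn) := by
    have h1 : q * k ≤ q * (mn * (q + 1) * (|u| + 2 * mn)) := by
      calc q * k = q * 1 * k := by ring
        _ ≤ q * |e| * k := by gcongr
        _ = |δ * k| := by rw [abs_mul, he, abs_mul, abs_of_pos (show (0 : ℤ) < q by omega), abs_of_pos hk0]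
        _ = 2 ^ i * (q + 1) * q * |u - 2 * mn| := by
          rw [hδk, abs_mul, abs_of_nonneg (show (0 : ℤ) ≤ 2 ^ i * (q + 1) * q by positivity)]
        _ ≤ mn * (q + 1) * q * (|u| + 2 * mn) := by
          gcongr
          calc |u - 2 * (mn : ℤ)| ≤ |u| + |2 * (mn : ℤ)| := abs_sub _ _
            _ = |u| + 2 * mn := by rw [abs_of_nonneg (show (0 : ℤ) ≤ 2 * mn by omega)]
        _ = q * (mn * (q + 1) * (|u| + 2 * mn)) := by ring
    exact le_of_mul_le_mul_left h1 (by omega)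
  rcases lt_or_ge q 5 with h5 | h5
  · -- the case `q = 4`
    have hq4' : q = 4 := by omega
    subst hq4'
    have hm1 : (mn : ℤ) = 1 := by nlinarith
    rw [hm1] at hk hle hδk
    have hu1 : -2 ≤ u := by nlinarith
    have hu2 : u ≤ 2 := by nlinarith
    have hdk : k ∣ (4 : ℤ) ^ 3 * (4 ^ 3 + 1) := hdvd
    have hi : i = 0 := by
      by_contra hi
      have : (2 : ℤ) ^ 1 ≤ 2 ^ i := pow_le_pow_right₀ (by norm_num) (by omega)
      omega
    subst hi
    interval_cases u <;> norm_num at hk <;> subst hk <;> norm_num at hdk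
    · norm_num at hδk hle hpk
      have : p = 5 := by omega
      rw [hδ, this, hm1] at hδ0
      norm_num at hδ0
  · have hq8 : 8 ≤ q := by
      have h3 : 3 ≤ i + j + 1 := by
        by_contra h
        have : i + j + 1 = 2 := by omega
        rw [this] at hq
        omega
      rw [hq]
      calc (8 : ℤ) = 2 ^ 3 := by norm_num
        _ ≤ 2 ^ (i + j + 1) := pow_le_pow_right₀ (by norm_num) h3
    have habs : |u| ^ 2 ≤ q := by rwa [sq_abs]
    have habs0 := abs_nonneg u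
    have hk1 : (q ^ 2 + q + 1) * mn - q * |u| ≤ k := by
      rw [hk]
      have := le_abs_self u
      nlinarith
    have hmain : q ^ 2 + q + 1 ≤ (2 * q + 1) * |u| + 2 * mn * (q + 1) := by
      refine le_of_mul_le_mul_left ?_ (show (0 : ℤ) < mn by omega)
      have h2 : q * |u| ≤ mn * (q * |u|) := le_mul_of_one_le_left (by positivity) hm
      nlinarith
    rcases lt_or_ge q 16 with h16 | h16
    · have h4 : i + j + 1 < 4 := by
        have h : (2 : ℤ) ^ (i + j + 1) < 2 ^ 4 := by rw [← hq]; omega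
        exact (pow_lt_pow_iff_right₀ (by norm_num : (1 : ℤ) < 2)).mp h
      have hq8' : q = 8 := by
        have h3 : (2 : ℤ) ^ (i + j + 1) ≤ 2 ^ 3 := pow_le_pow_right₀ (by norm_num) (by omega)
        omega
      have hu3 : |u| ≤ 2 := by nlinarith
      have hm3 : (mn : ℤ) ≤ 1 := by nlinarith
      nlinarith
    · have hu4 : 4 * |u| ≤ q := by nlinarith
      have hm4 : 4 * (mn : ℤ) ≤ q := by nlinarith
      nlinarith

/-- The exceptional characters restrict with multiplicities `0` and `1`. -/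
theorem exceptional_bounds {q c ε k v : ℤ} (hq : 4 ≤ q) (hε : ε = 1 ∨ ε = -1) (hc : 0 ≤ c)
    (hA : 0 ≤ (q + 1) * c + ε) (hkv : k + v = q * ((q + 1) * c + ε)) (hk : 0 ≤ k)
    (hk2 : 2 * (q + 1) * k ^ 2 ≤ q * (q ^ 4 - (q + 1) ^ 2)) (hv : (q + 1) * v ^ 2 < q ^ 3) :
    c = 0 ∧ ε = 1 ∧ -q < v ∧ v < q := by
  have hv1 : v ^ 2 < q ^ 2 := by nlinarith
  have hv2 : -q < v ∧ v < q := ⟨by nlinarith, by nlinarith⟩
  have hk3 : 2 * k ^ 2 < q ^ 4 := by nlinarith
  have hc0 : c = 0 := by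
    by_contra hne
    have h1 : q ≤ (q + 1) * c + ε := by
      have hc1 : (q + 1) * 1 ≤ (q + 1) * c := mul_le_mul_of_nonneg_left (by omega) (by omega)
      rcases hε with rfl | rfl <;> omega
    have h2 : q * q - q + 1 ≤ k := by nlinarith
    have h3 : (q * q - q + 1) ^ 2 ≤ k ^ 2 := pow_le_pow_left₀ (by nlinarith) h2 2
    nlinarith
  subst hc0
  refine ⟨rfl, ?_, hv2⟩
  rcases hε with rfl | rfl
  · rfl
  · norm_num at hA

/-- The degree of the characters of the second kind. -/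
theorem second_kind {n f N l : ℕ} (hl : 0 < l) (hfN : N * f ^ 2 = (2 ^ n) ^ 2)
    (hlt : f * (N * l) < 2 * 2 ^ n) : f = 2 ^ n ∧ N = 1 ∧ l = 1 := by
  have hf0 : 0 < f := Nat.pos_of_ne_zero fun h => by
    rw [h, zero_pow two_ne_zero, mul_zero] at hfN
    exact (pow_ne_zero 2 (pow_ne_zero n two_ne_zero)) hfN.symm
  have hfq : f ∣ 2 ^ n := (Nat.pow_dvd_pow_iff two_ne_zero).mp ⟨N, by rw [mul_comm, hfN]⟩
  have hfle : f ≤ 2 ^ n := Nat.le_of_dvd (by positivity) hfq
  have h1 : 2 ^ n * l < 2 * f := by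
    refine Nat.lt_of_mul_lt_mul_left (a := 2 ^ n) ?_
    calc 2 ^ n * (2 ^ n * l) = f * (N * l) * f := by rw [← mul_assoc, ← sq, ← hfN]; ring
      _ < 2 * 2 ^ n * f := Nat.mul_lt_mul_of_pos_right hlt hf0
      _ = 2 ^ n * (2 * f) := by ring
  have hl1 : l = 1 := by
    by_contra hne
    have : 2 ^ n * 2 ≤ 2 ^ n * l := Nat.mul_le_mul_left _ (by omega)
    omega
  subst hl1
  obtain ⟨e, he⟩ := hfq
  have he1 : e = 1 := by
    by_contra hne
    have he0 : e ≠ 0 := by
      rintro rfl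
      simp at he
    have : f * 2 ≤ f * e := Nat.mul_le_mul_left _ (by omega)
    omega
  subst he1
  rw [mul_one] at he
  refine ⟨he.symm, ?_, rfl⟩
  rw [he] at hfN
  exact Nat.eq_of_mul_eq_mul_right (pow_pos hf0 2) (hfN.trans (one_mul _).symm)

end CfsgLib.Zass29.SzArith
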