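import Cfsg.Agent.Lib.Characters.FrobKernelChar
import Cfsg.Agent.Lib.OddChar.FeitFrobenius
import Cfsg.Agent.Lib.Characters.Generalized
import Cfsg.Agent.Lib.Characters.NormalRes

/-!
# The characters of a Frobenius group whose kernel has order `q ^ 3` over a centre of order `q`

The irreducible characters non-constant on the kernel either are trivial on the central subgroup, of
degree `d = q - 1`, or have a common degree `d * f`.
-/

set_option autoImplicit false
set_option linter.unusedSectionVars false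
set_option linter.style.haveILetI false

noncomputable section

namespace CfsgLib.Zass29.SzLocal

open Cfsg CfsgLib.Characters CfsgLib.FrobKernelChar
open scoped ComplexConjugate
open scoped Classical commutatorElement

universe u

variable {L : Type u} [Group L] [Fintype L] {K Z : Subgroup L} [K.Normal] [Z.Normal]

/-- Sums of induced functions over a normal subgroup of the inducing subgroup. -/
theorem sum_indFun_normal (hZK : Z ≤ K) (θ : K → ℂ) :
    ∑ z : Z, indFun K θ z = (K.index : ℂ) * ∑ z : Z, θ ⟨z, hZK z.2⟩ := by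
  simp only [Induction.indFun_apply, ← Finset.mul_sum]
  rw [Finset.sum_comm, Finset.sum_congr rfl (g := fun _ => ∑ z : Z, θ ⟨z, hZK z.2⟩),
    Finset.sum_const, Finset.card_univ, nsmul_eq_mul, ← mul_assoc]
  · congr 1
    rw [← Nat.card_eq_fintype_card, ← K.card_mul_index, Nat.cast_mul,
      inv_mul_cancel_left₀ (Nat.cast_ne_zero.mpr Nat.card_pos.ne')]
  · intro x _
    refine Fintype.sum_equiv (MulAut.conjNormal x⁻¹ : MulAut Z).toEquiv _ _ fun z => ?_
    have hmem : x⁻¹ * (z : L) * x ∈ K := hZK (by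
      simpa using (inferInstance : Z.Normal).conj_mem (z : L) z.2 x⁻¹)
    rw [Induction.extendByZero_mem K θ hmem]
    congr 1
    exact Subtype.ext (by simp [MulAut.conjNormal_apply])

/-- A relevant character is induced from each of its constituents on the kernel. -/
theorem eq_indFun_of_constituent (hC : ∀ k ∈ K, k ≠ 1 → Subgroup.centralizer ({k} : Set L) ≤ K)
    {χ : IrrCharacter L} (hrel : Relevant K (χ : L → ℂ)) {ν : IrrCharacter K}
    (hν : classInner (fun k : K => (χ : L → ℂ) k) (ν : K → ℂ) ≠ 0) :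
    indFun K (ν : K → ℂ) = (χ : L → ℂ) ∧ (ν : K → ℂ) ≠ fun _ => 1 := by
  have hne : (ν : K → ℂ) ≠ fun _ => 1 := by
    intro e
    apply hν
    rw [e, classInner]
    simp only [map_one, mul_one]
    rw [sum_eq_zero χ.2 hrel, mul_zero]
  refine ⟨?_, hne⟩
  by_contra h
  apply hν
  have h0 := classInner_irr_ne χ.2 (OddChar.indFun_irr_of_free inferInstance hC ν.2 hne) (Ne.symm h)
  rwa [Induction.classInner_indFun_right K _ (irr_isClassFunction χ)] at h0

/-- Every relevant character is induced. -/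
theorem exists_indFun (hC : ∀ k ∈ K, k ≠ 1 → Subgroup.centralizer ({k} : Set L) ≤ K)
    {χ : IrrCharacter L} (hrel : Relevant K (χ : L → ℂ)) :
    ∃ ν : IrrCharacter K, indFun K (ν : K → ℂ) = (χ : L → ℂ) ∧ (ν : K → ℂ) ≠ fun _ => 1 := by
  have hres : IsCharacter K (fun k : K => (χ : L → ℂ) k) :=
    NormalRes.isCharacter_res K (irr_isCharacter χ)
  by_contra h
  have h0 := congrFun (classFunction_eq_sum (isClassFunction_of_isCharacter hres)) 1
  simp only [Finset.sum_apply, Pi.smul_apply, smul_eq_mul, OneMemClass.coe_one] at h0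
  refine irr_one_ne_zero χ (h0.trans (Finset.sum_eq_zero fun ν _ => ?_))
  by_cases hν : classInner (fun k : K => (χ : L → ℂ) k) (ν : K → ℂ) = 0
  · rw [hν, zero_mul]
  · exact absurd ⟨ν, eq_indFun_of_constituent hC hrel hν⟩ h

/-- A non-negative integral degree for each relevant character. -/
theorem exists_degree_mul (hC : ∀ k ∈ K, k ≠ 1 → Subgroup.centralizer ({k} : Set L) ≤ K)
    {χ : IrrCharacter L} (hrel : Relevant K (χ : L → ℂ)) :
    ∃ f : ℕ, 0 < f ∧ (χ : L → ℂ) 1 = (K.index : ℂ) * f := by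
  obtain ⟨ν, hν, -⟩ := exists_indFun hC hrel
  obtain ⟨f, hf0, hf⟩ := irr_exists_degree ν.2
  exact ⟨f, hf0, by rw [← hν, Induction.indFun_one_apply, hf]⟩

/-- The product of an irreducible character with a linear one is irreducible. -/
theorem isIrr_mul_linear {X : Type u} [Group X] [Fintype X] (θ η : IrrCharacter X)
    (h1 : (η : X → ℂ) 1 = 1) : IsIrrCharacter X ((θ : X → ℂ) * (η : X → ℂ)) := by
  set f := CfsgLib.CharIto.linearHom (irr_isCharacter η) h1
  have hη : ∀ x, (η : X → ℂ) x * conj ((η : X → ℂ) x) = 1 := by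
    intro x
    rw [← irr_apply_inv]
    show (f x : ℂ) * (f x⁻¹ : ℂ) = 1
    rw [← Units.val_mul, ← map_mul, mul_inv_cancel, map_one, Units.val_one]
  have hmul : IsCharacter X ((θ : X → ℂ) * (η : X → ℂ)) :=
    isCharacter_mul (irr_isCharacter θ) (irr_isCharacter η)
  refine isIrrCharacter_of_generalized_norm_one (isGeneralizedCharacter_of_isCharacter hmul) ?_ ?_
  · rw [← classInner_irr_self θ.2]
    simp only [classInner, Pi.mul_apply, map_mul]
    congr 1
    refine Finset.sum_congr rfl fun x _ => ?_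
    rw [mul_mul_mul_comm, hη, mul_one]
  · obtain ⟨n, -, hn⟩ := irr_exists_degree θ.2
    simp [h1, hn]

/-- Two characters non-trivial on the central subgroup have the same degree. -/
theorem degree_eq (hC : ∀ k ∈ K, k ≠ 1 → Subgroup.centralizer ({k} : Set L) ≤ K) (hZK : Z ≤ K)
    (hcomm : ⁅K, K⁆ ≤ Z) {χ ξ : IrrCharacter L} (hχ : Relevant K (χ : L → ℂ))
    (hξ : Relevant K (ξ : L → ℂ))
    (hsum : ∑ z : Z, (ξ : L → ℂ) z * conj ((χ : L → ℂ) z) ≠ 0) :
    (χ : L → ℂ) 1 = (ξ : L → ℂ) 1 := by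
  set a : K → ℂ := fun k => (χ : L → ℂ) k with ha
  set b : K → ℂ := fun k => (ξ : L → ℂ) k with hb
  have hac : IsCharacter K a := NormalRes.isCharacter_res K (irr_isCharacter χ)
  have hbc : IsCharacter K b := NormalRes.isCharacter_res K (irr_isCharacter ξ)
  set φ : K → ℂ := fun k => b k * conj (a k) with hφ
  have hφc : IsCharacter K φ := isCharacter_mul hbc (isCharacter_conj hac)
  -- a linear constituent of the product
  obtain ⟨η, hη0, hηsum⟩ : ∃ η : IrrCharacter K, classInner φ (η : K → ℂ) ≠ 0 ∧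
      ∑ z : Z, (η : K → ℂ) ⟨z, hZK z.2⟩ ≠ 0 := by
    by_contra h
    push Not at h
    apply hsum
    have hexp := classFunction_eq_sum (isClassFunction_of_isCharacter hφc)
    calc ∑ z : Z, (ξ : L → ℂ) z * conj ((χ : L → ℂ) z) = ∑ z : Z, φ ⟨z, hZK z.2⟩ := rfl
      _ = ∑ z : Z, ∑ η : IrrCharacter K, classInner φ (η : K → ℂ) * (η : K → ℂ) ⟨z, hZK z.2⟩ := by
          refine Finset.sum_congr rfl fun z _ => ?_
          have := congrFun hexp ⟨z, hZK z.2⟩
          simpa only [Finset.sum_apply, Pi.smul_apply, smul_eq_mul] using this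
      _ = 0 := by
          rw [Finset.sum_comm]
          refine Finset.sum_eq_zero fun η _ => ?_
          rw [← Finset.mul_sum]
          by_cases hη : classInner φ (η : K → ℂ) = 0
          · rw [hη, zero_mul]
          · rw [h η hη, mul_zero]
  have hker : ∀ x : K, (x : L) ∈ Z → (η : K → ℂ) x = (η : K → ℂ) 1 := by
    intro x hx
    by_contra hne
    apply hηsum
    have h0 := sum_eq_zero (K := Z.subgroupOf K) η.2 ⟨x, hx, hne⟩
    rw [← h0]
    exact (Fintype.sum_equiv (Subgroup.subgroupOfEquivOfLe hZK).toEquiv _ _ fun z => rfl).symm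
  have hη1 : (η : K → ℂ) 1 = 1 := by
    rw [OddChar.natDeg_spec (irr_isCharacter η),
      OddChar.natDeg_eq_one_of_commutator hcomm η.2 hker, Nat.cast_one]
  -- twist a constituent
  have hin : classInner b (a * (η : K → ℂ)) ≠ 0 := by
    have e : classInner b (a * (η : K → ℂ)) = classInner φ (η : K → ℂ) := by
      simp only [classInner, hφ, Pi.mul_apply, map_mul]
      congr 1
      exact Finset.sum_congr rfl fun x _ => by ring
    rwa [e]
  obtain ⟨θ, hθ, hθη⟩ : ∃ θ : IrrCharacter K, classInner a (θ : K → ℂ) ≠ 0 ∧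
      classInner b ((θ : K → ℂ) * (η : K → ℂ)) ≠ 0 := by
    by_contra h
    push Not at h
    apply hin
    conv_lhs => rw [classFunction_eq_sum (isClassFunction_of_isCharacter hac), Finset.sum_mul,
      classInner_sum_right]
    refine Finset.sum_eq_zero fun θ _ => ?_
    rw [smul_mul_assoc, classInner_smul_right]
    by_cases hθ : classInner a (θ : K → ℂ) = 0
    · rw [hθ, map_zero, zero_mul]
    · rw [h θ hθ, mul_zero]
  have h1 := (eq_indFun_of_constituent hC hχ hθ).1
  have h2 := (eq_indFun_of_constituent hC hξ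
    (ν := ⟨_, isIrr_mul_linear θ η hη1⟩) hθη).1
  rw [← h1, ← h2, Induction.indFun_one_apply, Induction.indFun_one_apply]
  simp [hη1]

/-- The relevant characters trivial on `Z`. -/
def R1 (K Z : Subgroup L) : Finset (IrrCharacter L) :=
  (relSet K).filter fun χ => ∀ z ∈ Z, (χ : L → ℂ) z = (χ : L → ℂ) 1

/-- The relevant characters not trivial on `Z`. -/
def R2 (K Z : Subgroup L) : Finset (IrrCharacter L) :=
  (relSet K).filter fun χ => ¬ ∀ z ∈ Z, (χ : L → ℂ) z = (χ : L → ℂ) 1

theorem disjoint_R : Disjoint (R1 K Z) (R2 K Z) := Finset.disjoint_filter_filter_not _ _ _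

theorem union_R : R1 K Z ∪ R2 K Z = relSet K := Finset.filter_union_filter_not_eq _ _

theorem R1_subset : R1 K Z ⊆ relSet K := Finset.filter_subset _ _

theorem R2_subset : R2 K Z ⊆ relSet K := Finset.filter_subset _ _

theorem sum_R (g : IrrCharacter L → ℂ) :
    ∑ χ ∈ relSet K, g χ = ∑ χ ∈ R1 K Z, g χ + ∑ χ ∈ R2 K Z, g χ :=
  (Finset.sum_filter_add_sum_filter_not _ _ _).symm

/-- The characters of the two kinds. -/
theorem structure_of (hC : ∀ k ∈ K, k ≠ 1 → Subgroup.centralizer ({k} : Set L) ≤ K) (hZK : Z ≤ K)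
    (hcomm : ⁅K, K⁆ ≤ Z)
    (htrans : ∀ z ∈ Z, ∀ z' ∈ Z, z ≠ 1 → z' ≠ 1 → ∃ x : L, x * z * x⁻¹ = z')
    {d : ℕ} (hd : 0 < d) (hidx : K.index = d) (hZc : Nat.card Z = d + 1)
    (hKc : Nat.card K = (d + 1) ^ 3) :
    ∃ f : ℕ, 0 < f ∧ (R1 K Z).card = d + 2 ∧
      (∀ χ ∈ R1 K Z, (χ : L → ℂ) 1 = (d : ℂ) ∧ ∀ z ∈ Z, (χ : L → ℂ) z = (d : ℂ)) ∧
      (∀ χ ∈ R2 K Z, (χ : L → ℂ) 1 = (d : ℂ) * f ∧
        ∀ z ∈ Z, z ≠ 1 → (χ : L → ℂ) z = -(f : ℂ)) ∧
      (R2 K Z).card * f ^ 2 = (d + 1) ^ 2 := by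
  have hdC : (d : ℂ) ≠ 0 := Nat.cast_ne_zero.mpr hd.ne'
  -- the linear ones
  have himg : OddChar.indAboveFinset K Z = (R1 K Z).image fun χ : IrrCharacter L => (χ : L → ℂ) := by
    ext φ
    rw [OddChar.indAboveFinset, Finset.mem_image, Finset.mem_image]
    constructor
    · rintro ⟨θ, hθ, rfl⟩
      obtain ⟨hne, hker⟩ := OddChar.mem_thetaAbove.mp hθ
      have hirr := OddChar.indFun_irr_of_free inferInstance hC θ.2 hne
      refine ⟨⟨_, hirr⟩, Finset.mem_filter.mpr ⟨mem_relSet.mpr ?_, fun z hz => ?_⟩, rfl⟩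
      · by_contra hrel
        have hc : ∀ k : K, indFun K (θ : K → ℂ) k = indFun K (θ : K → ℂ) 1 :=
          fun k => eq_of_not_relevant hrel k.2
        have h1 := Induction.classInner_indFun_right K (θ : K → ℂ)
          (irr_isClassFunction (⟨_, hirr⟩ : IrrCharacter L))
        rw [classInner_irr_self hirr] at h1
        have h2 := classInner_irr_ne (isIrrCharacter_one (G := K)) θ.2 (Ne.symm hne)
        have h3 : classInner (fun k : K => indFun K (θ : K → ℂ) k) (θ : K → ℂ) = 0 := by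
          have e : (fun k : K => indFun K (θ : K → ℂ) k) =
              indFun K (θ : K → ℂ) 1 • (fun _ : K => (1 : ℂ)) := funext fun k => by simp [hc k]
          rw [e, classInner_smul_left, h2, mul_zero]
        exact one_ne_zero (h1.trans h3)
      · show indFun K (θ : K → ℂ) z = indFun K (θ : K → ℂ) 1
        simp only [Induction.indFun_apply]
        congr 1
        refine Finset.sum_congr rfl fun x _ => ?_
        have hmem : x⁻¹ * z * x ∈ Z := by
          simpa using (inferInstance : Z.Normal).conj_mem z hz x⁻¹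
        rw [Induction.extendByZero_mem K _ (hZK hmem),
          Induction.extendByZero_mem K _ (show x⁻¹ * 1 * x ∈ K by simp [one_mem])]
        refine (hker _ hmem).trans (congrArg _ (Subtype.ext ?_))
        simp
    · rintro ⟨χ, hχ, rfl⟩
      obtain ⟨hrel, htriv⟩ := Finset.mem_filter.mp hχ
      obtain ⟨ν, hν, hne⟩ := exists_indFun hC (mem_relSet.mp hrel)
      refine ⟨ν, OddChar.mem_thetaAbove.mpr ⟨hne, fun x hx => ?_⟩, hν⟩
      by_contra hne'
      have h0 := sum_eq_zero (K := Z.subgroupOf K) ν.2 ⟨x, hx, hne'⟩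
      have h1 : ∑ z : Z, (ν : K → ℂ) ⟨z, hZK z.2⟩ = 0 := by
        rw [← h0]
        exact (Fintype.sum_equiv (Subgroup.subgroupOfEquivOfLe hZK).toEquiv _ _ fun z => rfl).symm
      have h2 := sum_indFun_normal (K := K) hZK (ν : K → ℂ)
      rw [hν, h1, mul_zero, Finset.sum_congr rfl (fun (z : Z) _ => htriv z z.2), Finset.sum_const,
        Finset.card_univ, nsmul_eq_mul, mul_eq_zero] at h2
      rcases h2 with h2 | h2
      · exact Fintype.card_ne_zero (Nat.cast_eq_zero.mp h2)
      · exact irr_one_ne_zero χ h2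
  have hR1deg : ∀ χ ∈ R1 K Z, (χ : L → ℂ) 1 = (d : ℂ) := by
    intro χ hχ
    rw [OddChar.natDeg_spec (irr_isCharacter χ), OddChar.natDeg_indAbove_linear hcomm
      (himg ▸ Finset.mem_image_of_mem _ hχ), hidx]
  have hR1card : (R1 K Z).card = d + 2 := by
    have h := OddChar.card_indAbove_linear hC (A := Z) hcomm
    rw [himg, Finset.card_image_of_injective _ (fun x y e => Subtype.ext e), hidx] at h
    have h2 : Z.relIndex K = (d + 1) ^ 2 := by
      have h3 := (Z.subgroupOf K).card_mul_index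
      rw [Nat.card_congr (Subgroup.subgroupOfEquivOfLe hZK).toEquiv, hKc, hZc,
        pow_succ' _ 2] at h3
      exact Nat.eq_of_mul_eq_mul_left (Nat.succ_pos d) h3
    rw [h2, show (d + 1) ^ 2 - 1 = (d + 2) * d by
      have : (d + 1) ^ 2 = (d + 2) * d + 1 := by ring
      omega] at h
    exact Nat.eq_of_mul_eq_mul_right hd h
  -- values on the centre
  have hR2val : ∀ χ ∈ R2 K Z, ∀ z ∈ Z, z ≠ 1 → (χ : L → ℂ) 1 + (d : ℂ) * (χ : L → ℂ) z = 0 := by
    intro χ hχ z hz hz1
    obtain ⟨-, hnt⟩ := Finset.mem_filter.mp hχ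
    push Not at hnt
    have h0 := sum_eq_zero (K := Z) χ.2 hnt
    rw [← Finset.add_sum_erase _ _ (Finset.mem_univ (1 : Z)),
      Finset.sum_congr rfl (g := fun _ => (χ : L → ℂ) z) (fun y hy => ?_), Finset.sum_const,
      Finset.card_erase_of_mem (Finset.mem_univ _), Finset.card_univ, ← Nat.card_eq_fintype_card,
      hZc, Nat.add_sub_cancel, nsmul_eq_mul, OneMemClass.coe_one] at h0
    · exact h0
    · obtain ⟨x, hx⟩ := htrans z hz y y.2 hz1 fun e =>
        Finset.ne_of_mem_erase hy (Subtype.ext e)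
      rw [← hx, irr_isClassFunction χ]
  obtain ⟨z₀, hz₀, hz₀1⟩ : ∃ z ∈ Z, z ≠ 1 := by
    haveI : Nontrivial Z := Finite.one_lt_card_iff_nontrivial.mp (by omega)
    obtain ⟨z, hz⟩ := exists_ne (1 : Z)
    exact ⟨z, z.2, fun e => hz (Subtype.ext e)⟩
  -- squares of degrees
  have hdegsq : ∑ χ ∈ relSet K, (χ : L → ℂ) 1 * (χ : L → ℂ) 1 =
      (d : ℂ) * ((d : ℂ) + 1) ^ 3 - d := by
    have h := sum_degree_mul_irr (G := L) 1
    rw [if_pos rfl, ← Finset.sum_add_sum_compl (relSet K), sum_sq_irrelevant, hidx,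
      ← K.card_mul_index, hidx, hKc] at h
    push_cast at h
    linear_combination h
  have hne2 : (R2 K Z).Nonempty := by
    by_contra h0
    rw [Finset.not_nonempty_iff_eq_empty] at h0
    rw [sum_R (Z := Z), h0, Finset.sum_empty, add_zero,
      Finset.sum_congr rfl (g := fun _ => (d : ℂ) * d) (fun χ hχ => by rw [hR1deg χ hχ]),
      Finset.sum_const, hR1card, nsmul_eq_mul] at hdegsq
    have h1 : (d : ℂ) * (d * ((d : ℂ) + 1) ^ 2) = 0 := by push_cast at hdegsq; linear_combination -hdegsq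
    have h2 : d * (d * (d + 1) ^ 2) = 0 := by exact_mod_cast h1
    have : 0 < d * (d * (d + 1) ^ 2) := by positivity
    omega
  obtain ⟨χ₀, hχ₀⟩ := hne2
  obtain ⟨f, hf0, hf⟩ := exists_degree_mul hC (mem_relSet.mp (R2_subset hχ₀))
  rw [hidx] at hf
  have hR2deg : ∀ χ ∈ R2 K Z, (χ : L → ℂ) 1 = (d : ℂ) * f := by
    intro χ hχ
    obtain ⟨f', hf'0, hf'⟩ := exists_degree_mul hC (mem_relSet.mp (R2_subset hχ))
    rw [hidx] at hf'
    rw [← hf, eq_comm]
    refine degree_eq hC hZK hcomm (mem_relSet.mp (R2_subset hχ₀)) (mem_relSet.mp (R2_subset hχ)) ?_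
    rw [← Finset.add_sum_erase _ _ (Finset.mem_univ (1 : Z)),
      Finset.sum_congr rfl (g := fun _ => (-(f' : ℂ)) * conj (-(f : ℂ))) (fun y hy => ?_),
      Finset.sum_const, Finset.card_erase_of_mem (Finset.mem_univ _), Finset.card_univ,
      ← Nat.card_eq_fintype_card, hZc, Nat.add_sub_cancel, nsmul_eq_mul, OneMemClass.coe_one,
      hf, hf']
    · simp only [map_neg, map_natCast, map_mul]
      intro h
      have h1 : ((d * f' * (d * f) + d * (f' * f) : ℕ) : ℂ) = 0 := by
        push_cast; linear_combination h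
      have h2 : d * f' * (d * f) + d * (f' * f) = 0 := by exact_mod_cast h1
      have : 0 < d * (f' * f) := by positivity
      omega
    · have hy1 : (y : L) ≠ 1 := fun e => Finset.ne_of_mem_erase hy (Subtype.ext e)
      have h1 := hR2val χ hχ y y.2 hy1
      have h2 := hR2val χ₀ hχ₀ y y.2 hy1
      rw [hf'] at h1
      rw [hf] at h2
      rw [show (χ : L → ℂ) y = -(f' : ℂ) from mul_left_cancel₀ hdC (by linear_combination h1),
        show (χ₀ : L → ℂ) y = -(f : ℂ) from mul_left_cancel₀ hdC (by linear_combination h2)]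
  refine ⟨f, hf0, hR1card, fun χ hχ => ⟨hR1deg χ hχ, fun z hz => ?_⟩,
    fun χ hχ => ⟨hR2deg χ hχ, fun z hz hz1 => ?_⟩, ?_⟩
  · rw [(Finset.mem_filter.mp hχ).2 z hz, hR1deg χ hχ]
  · have h1 := hR2val χ hχ z hz hz1
    rw [hR2deg χ hχ] at h1
    exact mul_left_cancel₀ hdC (by linear_combination h1)
  · rw [sum_R (Z := Z),
      Finset.sum_congr rfl (g := fun _ => (d : ℂ) * d) (fun χ hχ => by rw [hR1deg χ hχ]),
      Finset.sum_congr (s₁ := R2 K Z) rfl (g := fun _ => (d : ℂ) * f * (d * f)) (fun χ hχ => by rw [hR2deg χ hχ]),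
      Finset.sum_const, Finset.sum_const, hR1card, nsmul_eq_mul, nsmul_eq_mul] at hdegsq
    have h1 : ((d * (d * ((R2 K Z).card * f ^ 2)) : ℕ) : ℂ) = ((d * (d * (d + 1) ^ 2) : ℕ) : ℂ) := by
      push_cast at hdegsq ⊢
      linear_combination hdegsq
    exact Nat.eq_of_mul_eq_mul_left hd (Nat.eq_of_mul_eq_mul_left hd (Nat.cast_injective h1))

end CfsgLib.Zass29.SzLocal
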