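import Cfsg.Agent.Lib.Zass29.SuzukiSetup
import Cfsg.Agent.Lib.Zass29.SuzukiLocal
import Cfsg.Agent.Lib.Zass29.SuzukiCubeArith
import Cfsg.Agent.Lib.Characters.TIFNChar
import Cfsg.Agent.Lib.OddChar.FeitSibley

/-!
# The translations of a simple Zassenhaus group do not have order `q ^ 3`
-/

set_option autoImplicit false
set_option linter.style.haveILetI false
set_option linter.unusedSectionVars false

noncomputable section

namespace CfsgLib.Zass29

open MulAction Cfsg CfsgLib.Characters CfsgLib.Chars17 CfsgLib.PermSmall CfsgLib.FrobKernelChar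
open CfsgLib.PermSmall.FeitFrame (Frame)
open CfsgLib.PermSmall.FeitDual (fn)
open scoped ComplexConjugate
open scoped Classical commutatorElement

universe u

variable {G : Type u} {Ω : Type*} [Group G] [Fintype G] [MulAction G Ω] [Fintype Ω] {a b : Ω}

/-- The normalizer of the translations. -/
abbrev nF (T : Frame G a b) : Subgroup G := Subgroup.normalizer (T.F : Set G)

/-- The translations inside their normalizer. -/
abbrev kF (T : Frame G a b) : Subgroup (nF T) := T.F.subgroupOf (nF T)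

/-- The centre of the translations inside their normalizer. -/
abbrev zF (T : Frame G a b) : Subgroup (nF T) :=
  ((Subgroup.center T.F).map T.F.subtype).subgroupOf (nF T)

theorem mem_zF {T : Frame G a b} {x : nF T} :
    x ∈ zF T ↔ ∃ h : (x : G) ∈ T.F, (⟨x, h⟩ : T.F) ∈ Subgroup.center T.F := by
  rw [Subgroup.mem_subgroupOf, Subgroup.mem_map]
  constructor
  · rintro ⟨z, hz, e⟩
    have hx : (x : G) ∈ T.F := e ▸ z.2
    exact ⟨hx, by rwa [show (⟨x, hx⟩ : T.F) = z from Subtype.ext e.symm]⟩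
  · rintro ⟨h, hc⟩
    exact ⟨_, hc, rfl⟩

theorem zF_normal {T : Frame G a b} (hN : nF T = T.M) : (zF T).Normal := by
  refine ⟨fun z hz x => ?_⟩
  obtain ⟨hzF, hzc⟩ := mem_zF.mp hz
  have hxa : (x : G) • a = a := hN.le x.2
  have hmem : ((x * z * x⁻¹ : nF T) : G) ∈ T.F := T.F_norm _ hxa _ hzF
  refine mem_zF.mpr ⟨hmem, Subgroup.mem_center_iff.mpr fun u => Subtype.ext ?_⟩
  have hu : (x : G)⁻¹ * u * x ∈ T.F := by
    simpa using T.F_norm _ (inv_mem (show (x : G) ∈ stabilizer G a from hxa)) _ u.2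
  have h := congrArg (fun y : T.F => (x : G) * y * (x : G)⁻¹)
    (Subgroup.mem_center_iff.mp hzc ⟨_, hu⟩)
  simp only [Subgroup.coe_mul, Subgroup.coe_inv] at h ⊢
  calc (u : G) * ((x : G) * z * (x : G)⁻¹) = (x : G) * ((x : G)⁻¹ * u * x * z) * (x : G)⁻¹ := by group
    _ = _ := h
    _ = (x : G) * z * (x : G)⁻¹ * u := by group

/-- The restriction of an irreducible character outside the catalogue only involves characters
non-constant on the kernel. -/
theorem res_eq_sum_relevant (T : Frame G a b) {ψ : IrrCharacter G} (hψ : ψ ∉ T.cat)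
    (m : IrrCharacter (nF T) → ℕ)
    (hm : ∀ η : IrrCharacter (nF T), classInner (fun x : nF T => (ψ : G → ℂ) x) (η : nF T → ℂ) = m η)
    (x : nF T) :
    (ψ : G → ℂ) x = ∑ η ∈ relSet (kF T), (m η : ℂ) * (η : nF T → ℂ) x := by
  haveI : (kF T).Normal := Subgroup.normal_in_normalizer
  set φ : nF T → ℂ := fun y => (ψ : G → ℂ) y with hφ
  have hφc : IsCharacter _ φ := NormalRes.isCharacter_res _ (irr_isCharacter ψ)
  have hexp : ∀ y, φ y = ∑ η : IrrCharacter (nF T), (m η : ℂ) * (η : nF T → ℂ) y := fun y => by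
    have h := congrFun (classFunction_eq_sum (isClassFunction_of_isCharacter hφc)) y
    simp only [Finset.sum_apply, Pi.smul_apply, smul_eq_mul] at h
    rw [h]
    exact Finset.sum_congr rfl fun η _ => by rw [show classInner φ (η : nF T → ℂ) = m η from hm η]
  let eK : kF T ≃* T.F := Subgroup.subgroupOfEquivOfLe Subgroup.le_normalizer
  have hsum : ∑ k : kF T, φ k = 0 := by
    have h1 := T.mult_one_of_notMem hψ
    simp only [FeitFrame.Frame.mult, classInner, fn, MonoidHom.one_apply, Units.val_one, map_one,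
      mul_one, mul_eq_zero, inv_eq_zero, Nat.cast_eq_zero] at h1
    rw [← h1.resolve_left Nat.card_pos.ne']
    exact Fintype.sum_equiv eK.toEquiv _ _ fun k => rfl
  have hall : ∑ η ∈ (relSet (kF T))ᶜ,
      m η * (Nat.card (kF T) * charDegree (η : nF T → ℂ)) = 0 := by
    have h : ∑ η ∈ (relSet (kF T))ᶜ,
        (m η : ℂ) * ((Nat.card (kF T) : ℂ) * (η : nF T → ℂ) 1) = 0 := by
      simp only [hexp] at hsum
      rw [Finset.sum_comm, ← Finset.sum_add_sum_compl (relSet (kF T)),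
        Finset.sum_eq_zero (fun η hη => by
          rw [← Finset.mul_sum, sum_eq_zero η.2 (mem_relSet.mp hη), mul_zero]), zero_add] at hsum
      refine (Finset.sum_congr rfl fun η hη => ?_).trans hsum
      rw [← Finset.mul_sum]
      congr 1
      rw [Finset.sum_congr rfl (g := fun _ => (η : nF T → ℂ) 1)
        (fun (k : kF T) _ => eq_on_of_notMem hη k.2), Finset.sum_const, Finset.card_univ,
        nsmul_eq_mul, ← Nat.card_eq_fintype_card]
    simp only [← cast_irrDegree] at h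
    exact_mod_cast h
  show φ x = _
  rw [hexp, ← Finset.sum_add_sum_compl (relSet (kF T)), Finset.sum_eq_zero (s := (relSet (kF T))ᶜ) ?_,
    add_zero]
  intro η hη
  have h := Finset.sum_eq_zero_iff.mp hall η hη
  rw [mul_eq_zero, mul_eq_zero] at h
  rcases h with h | h | h
  · rw [h, Nat.cast_zero, zero_mul]
  · exact absurd h Nat.card_pos.ne'
  · exact absurd h (irrDegree_pos η).ne'

/-- Characters constant on the non-identity translations do not see supported differences. -/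
theorem classInner_res_supported (T : Frame G a b) {ψ : G → ℂ} {c : ℂ}
    (hc : ∀ u : T.F, u ≠ 1 → ψ u = c) {α : nF T → ℂ} (h1 : α 1 = 0)
    (hsupp : ∀ x, x ∉ kF T → α x = 0) (h0 : classInner α (fun _ => 1) = 0) :
    classInner (fun x : nF T => ψ x) α = 0 := by
  have hsum : ∑ x : nF T, α x = 0 := by
    simpa [classInner, Nat.card_pos.ne'] using h0
  have hterm : ∀ x : nF T, ψ x * conj (α x) = c * conj (α x) := by
    intro x
    by_cases hx : x ∈ kF T
    · by_cases hx1 : x = 1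
      · simp [hx1, h1]
      · rw [show ψ x = c from hc ⟨x, hx⟩ fun e => hx1 (Subtype.ext (congrArg Subtype.val e :))]
    · simp [hsupp x hx]
  rw [classInner, Finset.sum_congr rfl (fun x _ => hterm x), ← Finset.mul_sum, ← map_sum, hsum]
  simp

set_option maxHeartbeats 8000000 in
/-- The translations do not have order `q ^ 3`. -/
theorem SzSetting.card_ne_cube [IsSimpleGroup G] {T : Frame G a b} (S : SzSetting T) :
    Nat.card T.F ≠ (Nat.card T.H + 1) ^ 3 := by
  intro hcube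
  set d := Nat.card T.H with hd'
  have hd3 : 3 ≤ d := S.three_le
  have hN : nF T = T.M := S.norm_eq
  haveI : (zF T).Normal := zF_normal hN
  haveI : (kF T).Normal := Subgroup.normal_in_normalizer
  have hfree := CfsgLib.TIFNChar.free S.cent
  have hCK := CfsgLib.OddChar.kernel_of_le_normalizer (N := nF T) S.cent
  let eK : kF T ≃* T.F := Subgroup.subgroupOfEquivOfLe Subgroup.le_normalizer
  have hKc : Nat.card (kF T) = (d + 1) ^ 3 := (Nat.card_congr eK.toEquiv).trans hcube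
  have hidx : (kF T).index = d := by
    have h := (kF T).card_mul_index
    have h2 : Nat.card (nF T) = (d + 1) ^ 3 * d := by
      rw [show Nat.card (nF T) = Nat.card T.M by rw [hN], T.card_M, hcube]
    rw [hKc, h2] at h
    exact Nat.eq_of_mul_eq_mul_left (by positivity) h
  have hZK : zF T ≤ kF T := fun x hx => Subgroup.mem_subgroupOf.mpr (mem_zF.mp hx).1
  have hZc : Nat.card (zF T) = d + 1 := by
    have hle : (Subgroup.center T.F).map T.F.subtype ≤ nF T :=
      (Subgroup.map_subtype_le _).trans Subgroup.le_normalizer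
    rw [Nat.card_congr (Subgroup.subgroupOfEquivOfLe hle).toEquiv,
      Subgroup.card_map_of_injective T.F.subtype_injective, S.card_center]
  have hcomm : ⁅kF T, kF T⁆ ≤ zF T := by
    rw [Subgroup.commutator_le]
    intro x hx y hy
    have h := S.comm_mem (⟨(x : G), hx⟩ : T.F)⁻¹ (⟨(y : G), hy⟩ : T.F)⁻¹
    rw [inv_inv, inv_inv] at h
    refine mem_zF.mpr ⟨?_, ?_⟩
    · have hx' := Subgroup.mem_subgroupOf.mp hx
      have hy' := Subgroup.mem_subgroupOf.mp hy
      simpa [commutatorElement_def] using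
        mul_mem (mul_mem (mul_mem hx' hy') (inv_mem hx')) (inv_mem hy')
    · convert h using 1
      exact Subtype.ext (by simp [commutatorElement_def])
  have htrans : ∀ z ∈ zF T, ∀ z' ∈ zF T, z ≠ 1 → z' ≠ 1 → ∃ x : nF T, x * z * x⁻¹ = z' := by
    intro z hz z' hz' h1 h1'
    obtain ⟨hzF, hzc⟩ := mem_zF.mp hz
    obtain ⟨hz'F, hz'c⟩ := mem_zF.mp hz'
    obtain ⟨k, hk⟩ := S.trans ⟨z, hzF⟩ ⟨z', hz'F⟩ hzc
      (fun e => h1 (Subtype.ext (congrArg Subtype.val e :))) hz'c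
      (fun e => h1' (Subtype.ext (congrArg Subtype.val e :)))
    exact ⟨⟨k, hN.ge k.2.1⟩, Subtype.ext (congrArg Subtype.val hk :)⟩
  obtain ⟨f, hf0, hR1card, hR1, hR2, hR2card⟩ := SzLocal.structure_of hCK hZK hcomm htrans
    (by omega) hidx hZc hKc
  set R1 := SzLocal.R1 (kF T) (zF T) with hR1def
  set R2 := SzLocal.R2 (kF T) (zF T) with hR2def
  obtain ⟨z₀, hz₀c, hz₀1⟩ := S.exists_center_ne
  set w : nF T := ⟨(z₀ : G), Subgroup.le_normalizer z₀.2⟩ with hwdef
  have hwZ : w ∈ zF T := mem_zF.mpr ⟨z₀.2, hz₀c⟩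
  have hw1 : w ≠ 1 := fun e => hz₀1 (Subtype.ext (congrArg Subtype.val e :))
  have hwG : (w : G) ≠ 1 := fun e => hw1 (Subtype.ext e)
  -- supported differences
  have hrelR : ∀ χ ∈ relSet (kF T), Relevant (kF T) (χ : nF T → ℂ) := fun χ hχ => mem_relSet.mp hχ
  have hdiff : ∀ χ ξ : IrrCharacter (nF T), χ ∈ relSet (kF T) → ξ ∈ relSet (kF T) →
      (χ : nF T → ℂ) 1 = (ξ : nF T → ℂ) 1 →
      IsClassFunction (nF T) ((χ : nF T → ℂ) - (ξ : nF T → ℂ)) ∧
      (∀ x, x ∉ kF T → ((χ : nF T → ℂ) - (ξ : nF T → ℂ)) x = 0) ∧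
      ((χ : nF T → ℂ) - (ξ : nF T → ℂ)) 1 = 0 := by
    intro χ ξ hχ hξ he
    refine ⟨isClassFunction_sub (irr_isClassFunction χ) (irr_isClassFunction ξ), fun x hx => ?_, ?_⟩
    · rw [Pi.sub_apply, vanish_off hfree χ.2 (hrelR χ hχ) hx, vanish_off hfree ξ.2 (hrelR ξ hξ) hx,
        sub_self]
    · rw [Pi.sub_apply, he, sub_self]
  have hR1ne : R1.Nonempty := Finset.card_pos.mp (by omega)
  obtain ⟨χ₀, hχ₀⟩ := hR1ne
  have hR1sub : ∀ χ ∈ R1, χ ∈ relSet (kF T) := fun χ h => SzLocal.R1_subset h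
  have hR2sub : ∀ χ ∈ R2, χ ∈ relSet (kF T) := fun χ h => SzLocal.R2_subset h
  let i₀ : R1 := ⟨χ₀, hχ₀⟩
  let α : R1 → nF T → ℂ := fun i => (i.1 : nF T → ℂ) - (χ₀ : nF T → ℂ)
  have hα : ∀ i : R1, IsClassFunction (nF T) (α i) ∧ (∀ x, x ∉ kF T → α i x = 0) ∧ α i 1 = 0 :=
    fun i => hdiff _ _ (hR1sub _ i.2) (hR1sub _ hχ₀) (by rw [(hR1 _ i.2).1, (hR1 _ hχ₀).1])
  let τ : R1 → G → ℂ := fun i => indFun (nF T) (α i)
  have hinn : ∀ i j : R1, classInner (τ i) (τ j) =
      (if i = j then 1 else 0) - (if i₀ = j then 1 else 0) -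
        ((if i = i₀ then 1 else 0) - (1 : ℂ)) := by
    intro i j
    rw [CfsgLib.TIFNChar.isometry S.ti S.cent (hα j).1 (hα j).2.1 (hα j).2.2]
    simp only [α, classInner_sub_left, classInner_sub_right, classInner_irr, Subtype.ext_iff, i₀,
      if_true]
  obtain ⟨εc, hεc, μ, hμinj, hμ⟩ := CfsgLib.CharExceptional.exceptional_family i₀ τ
    (by simp only [τ, α, i₀, sub_self]; exact map_zero (Induction.indLinear (nF T)))
    (fun i => CfsgLib.CharArtin.isGeneralizedCharacter_indFun _ (isGeneralizedCharacter_sub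
      (isGeneralizedCharacter_irr _) (isGeneralizedCharacter_irr _)))
    (fun i => by simp only [τ]; rw [Induction.indFun_one_apply, (hα i).2.2, mul_zero])
    (fun i hi => by rw [hinn, if_pos rfl, if_neg (Ne.symm hi), if_neg hi]; norm_num)
    (fun i j hi hj hij => by rw [hinn, if_neg hij, if_neg (Ne.symm hj), if_neg hi]; norm_num)
  obtain ⟨ε, hε, rfl⟩ : ∃ ε : ℤ, (ε = 1 ∨ ε = -1) ∧ (ε : ℂ) = εc := by
    rcases hεc with h | h
    · exact ⟨1, Or.inl rfl, by simp [h]⟩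
    · exact ⟨-1, Or.inr rfl, by simp [h]⟩
  have hε0 : ε ≠ 0 := by rcases hε with rfl | rfl <;> decide
  -- multiplicities
  choose m hm using fun (ψ : IrrCharacter G) (η : IrrCharacter (nF T)) =>
    classInner_char_nat (NormalRes.isCharacter_res (nF T) (irr_isCharacter ψ)) (irr_isCharacter η)
  have hrecip : ∀ (ψ : IrrCharacter G) (i : R1), (m ψ i : ℤ) - m ψ χ₀ =
      ε * ((if ψ = μ i then 1 else 0) - (if ψ = μ i₀ then 1 else 0)) := by
    intro ψ i
    have h : classInner (ψ : G → ℂ) (τ i) = (m ψ i : ℂ) - m ψ χ₀ := by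
      simp only [τ]
      rw [Induction.classInner_indFun_right _ _ (irr_isClassFunction ψ)]
      simp only [α, classInner_sub_right, hm]
    rw [hμ i, classInner_smul_right, classInner_sub_right, classInner_irr, classInner_irr,
      map_intCast] at h
    have h' : (((m ψ i : ℤ) - m ψ χ₀ : ℤ) : ℂ) =
        ((ε * ((if ψ = μ i then 1 else 0) - (if ψ = μ i₀ then 1 else 0)) : ℤ) : ℂ) := by
      push_cast
      exact h.symm
    exact_mod_cast h'
  -- another member
  obtain ⟨i₁, hi₁⟩ : ∃ i : R1, i ≠ i₀ := by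
    haveI : Nontrivial R1 := Fintype.one_lt_card_iff_nontrivial.mp (by rw [Fintype.card_coe]; omega)
    exact exists_ne i₀
  have hμcat : ∀ i, μ i ∉ T.cat := by
    intro i hcat
    obtain ⟨c, hc⟩ := T.const_of_mem_cat hcat
    have hzero : ∀ j : R1, (m (μ i) j : ℤ) = m (μ i) χ₀ := by
      intro j
      have h : classInner (fun x : nF T => (μ i : G → ℂ) x) (α j) = 0 := by
        refine classInner_res_supported T hc (hα j).2.2 (hα j).2.1 ?_
        have hp : ∀ χ ∈ relSet (kF T), classInner (χ : nF T → ℂ) (fun _ => 1) = 0 := fun χ hχ =>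
          classInner_irr_ne χ.2 isIrrCharacter_one (fun e => by
            obtain ⟨k, -, hk⟩ := hrelR χ hχ
            exact hk (by rw [e]))
        simp only [α, classInner_sub_left, hp _ (hR1sub _ j.2), hp _ (hR1sub _ hχ₀), sub_self]
      simp only [α, classInner_sub_right, hm, sub_eq_zero, Nat.cast_inj] at h
      exact_mod_cast h
    by_cases hi : i = i₀
    · have h := hrecip (μ i) i₁
      rw [hzero, sub_self, hi, if_neg (fun e => hi₁ (hμinj e).symm), if_pos rfl] at h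
      omega
    · have h := hrecip (μ i) i
      rw [hzero, sub_self, if_pos rfl, if_neg (fun e => hi (hμinj e))] at h
      omega
  -- the totals of the multiplicities on the two kinds
  set A : IrrCharacter G → ℤ := fun ψ => ∑ χ ∈ R1, (m ψ χ : ℤ) with hAdef
  set B : IrrCharacter G → ℤ := fun ψ => ∑ χ ∈ R2, (m ψ χ : ℤ) with hBdef
  set kk : IrrCharacter G → ℤ := fun ψ => A ψ + f * B ψ with hkdef
  set vv : IrrCharacter G → ℤ := fun ψ => d * A ψ - f * B ψ with hvdef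
  have hval : ∀ ψ : IrrCharacter G, ψ ∉ T.cat →
      (ψ : G → ℂ) 1 = ((d * kk ψ : ℤ) : ℂ) ∧ (ψ : G → ℂ) w = ((vv ψ : ℤ) : ℂ) := by
    intro ψ hψ
    have h1 := res_eq_sum_relevant T hψ (m ψ) (hm ψ) 1
    have h2 := res_eq_sum_relevant T hψ (m ψ) (hm ψ) w
    rw [OneMemClass.coe_one, SzLocal.sum_R (Z := zF T)] at h1
    rw [SzLocal.sum_R (Z := zF T)] at h2
    rw [h1, h2, ← hR1def, ← hR2def,
      Finset.sum_congr (s₁ := R1) rfl (fun χ hχ => by rw [(hR1 χ hχ).1]),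
      Finset.sum_congr (s₁ := R2) rfl (fun χ hχ => by rw [(hR2 χ hχ).1]),
      Finset.sum_congr (s₁ := R1) rfl (f := fun χ => (m ψ χ : ℂ) * (χ : nF T → ℂ) w)
        (fun χ hχ => by rw [(hR1 χ hχ).2 w hwZ]),
      Finset.sum_congr (s₁ := R2) rfl (f := fun χ => (m ψ χ : ℂ) * (χ : nF T → ℂ) w)
        (fun χ hχ => by rw [(hR2 χ hχ).2 w hwZ hw1])]
    simp only [hkdef, hvdef, hAdef, hBdef, ← Finset.sum_mul]
    push_cast
    constructor <;> ring
  have hdpos : (0 : ℤ) < d := by omega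
  have hA0 : ∀ ψ, 0 ≤ A ψ := fun ψ => Finset.sum_nonneg fun _ _ => Int.natCast_nonneg _
  have hB0 : ∀ ψ, 0 ≤ B ψ := fun ψ => Finset.sum_nonneg fun _ _ => Int.natCast_nonneg _
  have hk0 : ∀ ψ, ψ ∉ T.cat → 0 < kk ψ := by
    intro ψ hψ
    have h := (hval ψ hψ).1
    rw [← cast_irrDegree] at h
    have h' : (charDegree (ψ : G → ℂ) : ℤ) = d * kk ψ := by exact_mod_cast h
    have := irrDegree_pos ψ
    exact pos_of_mul_pos_right (by omega : (0 : ℤ) < d * kk ψ) hdpos.le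
  have hdvd : ∀ ψ, ψ ∉ T.cat → (d : ℤ) * kk ψ ∣ (Nat.card G : ℤ) := by
    intro ψ hψ
    have h := (hval ψ hψ).1
    rw [← cast_irrDegree] at h
    have h' : (charDegree (ψ : G → ℂ) : ℤ) = d * kk ψ := by exact_mod_cast h
    rw [← h']
    exact_mod_cast Chars17.irrDegree_dvd_card ψ
  -- the column sums
  set D : ℕ := T.thSet.card with hD
  have hdD : 2 * D + 1 = d := T.two_mul_card_thSet
  set q : ℤ := (d : ℤ) + 1 with hqdef
  have hΩ : (Fintype.card Ω : ℤ) = q ^ 3 + 1 := by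
    rw [S.card_omega, hcube, hqdef]; push_cast; rfl
  have hG : (Nat.card G : ℤ) = (q ^ 3 + 1) * (q ^ 3 * d) := by
    rw [S.card_G_eq, hcube, hqdef, ← hd']; push_cast; ring
  have hΩ3 : 3 ≤ Fintype.card Ω := by
    have := Nat.le_self_pow (show 3 ≠ 0 by omega) (d + 1)
    rw [S.card_omega, hcube]; omega
  set C₀ : Finset (IrrCharacter G) := T.catᶜ with hC₀
  have hmemC : ∀ {ψ}, ψ ∈ C₀ → ψ ∉ T.cat := fun h => Finset.mem_compl.mp h
  have hsplit : ∀ g : IrrCharacter G → ℤ, ∑ χ, g χ = g (principalIrr G) + g T.stIrr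
      + ∑ χ ∈ T.thSet, g χ + ∑ χ ∈ C₀, g χ := fun g => by
    rw [← Finset.sum_add_sum_compl T.cat, T.sum_cat hΩ3]
  have hwth : ∀ χ ∈ T.thSet, (χ : G → ℂ) w = 1 := by
    intro χ hχ
    obtain ⟨l, -, rfl⟩ := Finset.mem_image.mp hχ
    exact T.θ_apply_F l.1 z₀.2 hwG
  have hwst : (T.stIrr : G → ℂ) w = 0 := by
    show T.θ 1 w - 1 = 0
    rw [T.θ_apply_F 1 z₀.2 hwG, sub_self]
  choose deg hdeg using fun ψ : IrrCharacter G => (⟨charDegree (ψ : G → ℂ), (cast_irrDegree ψ).symm⟩ :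
    ∃ e : ℕ, (ψ : G → ℂ) 1 = e)
  have hwint : ∀ ψ : IrrCharacter G, ∃ z : ℤ, (ψ : G → ℂ) w = z ∧
      (ψ ∈ C₀ → z = vv ψ) ∧ (ψ ∈ T.thSet → z = 1) ∧ (ψ = T.stIrr → z = 0) ∧
      (ψ = principalIrr G → z = 1) := by
    intro ψ
    have hinj : ∀ {x y : ℤ}, (ψ : G → ℂ) w = x → (ψ : G → ℂ) w = y → x = y := fun h h' => by
      exact_mod_cast h.symm.trans h'
    obtain ⟨z, hz⟩ : ∃ z : ℤ, (ψ : G → ℂ) w = z := by
      by_cases hψ : ψ ∈ T.cat
      · simp only [FeitFrame.Frame.cat, Finset.mem_insert] at hψ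
        rcases hψ with rfl | rfl | h
        · exact ⟨1, by simp [principalIrr]⟩
        · exact ⟨0, by rw [hwst]; simp⟩
        · exact ⟨1, by rw [hwth ψ h]; simp⟩
      · exact ⟨_, (hval ψ hψ).2⟩
    refine ⟨z, hz, fun h => hinj hz (hval ψ (hmemC h)).2, fun h => hinj hz (by rw [hwth ψ h]; simp),
      fun h => hinj hz (by rw [h, hwst]; simp), fun h => hinj hz (by simp [h, principalIrr])⟩
  choose W hW hWC hWth hWst hWpr using hwint
  have hdegC : ∀ ψ ∈ C₀, (deg ψ : ℤ) = d * kk ψ := fun ψ hψ => by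
    exact_mod_cast (hdeg ψ).symm.trans (hval ψ (hmemC hψ)).1
  have hdegth : ∀ ψ ∈ T.thSet, (deg ψ : ℤ) = q ^ 3 + 1 := fun ψ hψ => by
    have h : deg ψ = Fintype.card Ω := by
      rw [← T.charDegree_thSet hψ]
      exact_mod_cast (hdeg ψ).symm.trans (cast_irrDegree ψ).symm
    rw [h, hΩ]
  have hdegst : (deg T.stIrr : ℤ) = q ^ 3 := by
    have h : deg T.stIrr = Nat.card T.F := by exact_mod_cast (hdeg T.stIrr).symm.trans T.st_one
    rw [h, hcube, hqdef]; push_cast; rfl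
  have hdegpr : (deg (principalIrr G) : ℤ) = 1 := by
    have h : deg (principalIrr G) = 1 := by
      have h2 : ((deg (principalIrr G) : ℕ) : ℂ) = 1 := (hdeg (principalIrr G)).symm.trans rfl
      exact_mod_cast h2
    rw [h]; rfl
  -- first column
  have E1 : (q ^ 3 + 1) * (q ^ 3 * d) =
      1 + (q ^ 3) ^ 2 + D * (q ^ 3 + 1) ^ 2 + (d : ℤ) ^ 2 * ∑ ψ ∈ C₀, kk ψ ^ 2 := by
    have h := sum_degree_mul_irr (G := G) 1
    rw [if_pos rfl] at h
    simp only [hdeg] at h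
    have h' : ∑ ψ : IrrCharacter G, (deg ψ : ℤ) * deg ψ = Nat.card G := by exact_mod_cast h
    rw [hsplit, hdegpr, hdegst, Finset.sum_congr rfl (fun ψ hψ => by rw [hdegth ψ hψ]),
      Finset.sum_congr (s₁ := C₀) rfl (g := fun ψ => (d : ℤ) ^ 2 * kk ψ ^ 2)
        (fun ψ hψ => by rw [hdegC ψ hψ]; ring), Finset.sum_const, nsmul_eq_mul, ← Finset.mul_sum,
      hG] at h'
    linear_combination -h'
  -- product of the two columns
  have E2 : (0 : ℤ) = 1 + D * (q ^ 3 + 1) + d * ∑ ψ ∈ C₀, kk ψ * vv ψ := by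
    have h := sum_degree_mul_irr (G := G) (w : G)
    rw [if_neg hwG] at h
    simp only [hdeg, hW] at h
    have h' : ∑ ψ : IrrCharacter G, (deg ψ : ℤ) * W ψ = 0 := by exact_mod_cast h
    rw [hsplit, hdegpr, hdegst, hWpr _ rfl, hWst _ rfl,
      Finset.sum_congr rfl (fun ψ hψ => by rw [hdegth ψ hψ, hWth ψ hψ]),
      Finset.sum_congr (s₁ := C₀) rfl (g := fun ψ => (d : ℤ) * (kk ψ * vv ψ))
        (fun ψ hψ => by rw [hdegC ψ hψ, hWC ψ hψ]; ring), Finset.sum_const, nsmul_eq_mul,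
      ← Finset.mul_sum] at h'
    linear_combination -h'
  -- second column
  have E3 : q ^ 3 = 1 + D + ∑ ψ ∈ C₀, vv ψ ^ 2 := by
    have h := column_orth (G := G) (w : G) (w : G)
    rw [if_pos (IsConj.refl _), show (w : G) = (z₀ : G) from rfl,
      S.centralizer_eq hz₀c hz₀1, hcube] at h
    simp only [show ((z₀ : G)) = (w : G) from rfl, hW, map_intCast] at h
    have h' : ∑ ψ : IrrCharacter G, W ψ * W ψ = (((d + 1) ^ 3 : ℕ) : ℤ) := by exact_mod_cast h
    rw [hsplit, hWpr _ rfl, hWst _ rfl,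
      Finset.sum_congr rfl (fun ψ hψ => by rw [hWth ψ hψ]),
      Finset.sum_congr (s₁ := C₀) rfl (g := fun ψ => vv ψ ^ 2)
        (fun ψ hψ => by rw [hWC ψ hψ]; ring), Finset.sum_const, nsmul_eq_mul] at h'
    push_cast at h'
    rw [hqdef]
    linear_combination -h'
  -- the exceptional characters
  set E : Finset (IrrCharacter G) := Finset.univ.image μ with hE
  have hEsub : E ⊆ C₀ := fun ψ hψ => by
    obtain ⟨i, -, rfl⟩ := Finset.mem_image.mp hψ
    exact Finset.mem_compl.mpr (hμcat i)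
  have hEcard : (E.card : ℤ) = q + 1 := by
    rw [hE, Finset.card_image_of_injective _ hμinj, Finset.card_univ, Fintype.card_coe, hR1card,
      hqdef]
    push_cast; ring
  set c : R1 → ℤ := fun j => (m (μ j) χ₀ : ℤ) - ε * (if j = i₀ then 1 else 0) with hcdef
  have hmμ : ∀ j i : R1, (m (μ j) i : ℤ) = c j + ε * (if j = i then 1 else 0) := by
    intro j i
    have h := hrecip (μ j) i
    simp only [hμinj.eq_iff] at h
    simp only [hcdef]
    linarith
  have hAμ : ∀ j, A (μ j) = (q + 1) * c j + ε := by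
    intro j
    simp only [hAdef]
    rw [← Finset.sum_coe_sort R1, Finset.sum_congr rfl (fun i _ => hmμ j i), Finset.sum_add_distrib,
      Finset.sum_const, nsmul_eq_mul, ← Finset.mul_sum, Finset.sum_ite_eq, if_pos (Finset.mem_univ _),
      Finset.card_univ, Fintype.card_coe, hR1card, hqdef]
    push_cast; ring
  have hkv : ∀ ψ, kk ψ + vv ψ = q * A ψ := fun ψ => by simp only [hkdef, hvdef, hqdef]; ring
  have hsame : ∀ j, kk (μ j) = kk (μ i₀) ∧ vv (μ j) = vv (μ i₀) := by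
    intro j
    have h1 : τ j 1 = 0 := by simp only [τ]; rw [Induction.indFun_one_apply, (hα j).2.2, mul_zero]
    have h2 : τ j w = 0 := by
      have h := congrFun (CfsgLib.TIFNChar.res_ind S.ti S.cent (hα j).1 (hα j).2.1 (hα j).2.2) w
      refine h.trans ?_
      simp only [α, Pi.sub_apply]
      rw [(hR1 _ j.2).2 w hwZ, (hR1 _ hχ₀).2 w hwZ, sub_self]
    have hεC : (ε : ℂ) ≠ 0 := Int.cast_ne_zero.mpr hε0
    rw [hμ j, Pi.smul_apply, Pi.sub_apply, smul_eq_mul, mul_eq_zero, sub_eq_zero,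
      (hval _ (hμcat j)).1, (hval _ (hμcat i₀)).1, Int.cast_inj] at h1
    rw [hμ j, Pi.smul_apply, Pi.sub_apply, smul_eq_mul, mul_eq_zero, sub_eq_zero,
      (hval _ (hμcat j)).2, (hval _ (hμcat i₀)).2, Int.cast_inj] at h2
    exact ⟨mul_left_cancel₀ hdpos.ne' (h1.resolve_left hεC), h2.resolve_left hεC⟩
  set k := kk (μ i₀) with hkμ
  set v := vv (μ i₀) with hvμ
  have hsumE : ∀ g : IrrCharacter G → ℤ, ∀ g₀ : ℤ, (∀ j, g (μ j) = g₀) →
      ∑ ψ ∈ C₀, g ψ = (q + 1) * g₀ + ∑ ψ ∈ C₀ \ E, g ψ := by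
    intro g g₀ hg
    rw [← Finset.sum_sdiff hEsub, Finset.sum_congr (s₁ := E) rfl (g := fun _ => g₀) (fun ψ hψ => by
      obtain ⟨j, -, rfl⟩ := Finset.mem_image.mp hψ
      exact hg j), Finset.sum_const, nsmul_eq_mul, hEcard, add_comm]
  have hc0 : 0 ≤ c i₀ := by
    have h := hmμ i₀ i₁
    rw [if_neg (Ne.symm hi₁), mul_zero, add_zero] at h
    omega
  have hq4 : (4 : ℤ) ≤ q := by omega
  have hd2 : (2 * D + 1 : ℤ) = d := by exact_mod_cast hdD
  have hbound : c i₀ = 0 ∧ ε = 1 ∧ -q < v ∧ v < q := by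
    refine SzArith.exceptional_bounds hq4 hε hc0 (hAμ i₀ ▸ hA0 _) (hAμ i₀ ▸ hkv _) (hk0 _ (hμcat i₀)).le ?_ ?_
    · have h := hsumE (fun ψ => kk ψ ^ 2) (k ^ 2) (fun j => by rw [(hsame j).1])
      have h0 : 0 ≤ ∑ ψ ∈ C₀ \ E, kk ψ ^ 2 := Finset.sum_nonneg fun _ _ => sq_nonneg _
      rw [h] at E1
      refine le_of_mul_le_mul_left ?_ (pow_pos hdpos 2)
      nlinarith [mul_nonneg (sq_nonneg (d : ℤ)) h0]
    · have h := hsumE (fun ψ => vv ψ ^ 2) (v ^ 2) (fun j => by rw [(hsame j).2])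
      have h0 : 0 ≤ ∑ ψ ∈ C₀ \ E, vv ψ ^ 2 := Finset.sum_nonneg fun _ _ => sq_nonneg _
      rw [h] at E3
      omega
  obtain ⟨hci₀, rfl, hv1, hv2⟩ := hbound
  have hA1 : A (μ i₀) = 1 := by rw [hAμ, hci₀]; ring
  -- common multiplicity on the second kind
  have hR2ne : R2.Nonempty := by
    refine Finset.card_pos.mp (Nat.pos_of_ne_zero fun h => ?_)
    rw [h, zero_mul] at hR2card
    exact pow_ne_zero 2 (Nat.succ_ne_zero d) hR2card.symm
  obtain ⟨η₀, hη₀⟩ := hR2ne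
  set l := m (μ i₀) η₀ with hldef
  have hl : ∀ χ ∈ R2, m (μ i₀) χ = l := by
    intro χ hχ
    by_contra hne
    have hne' : χ ≠ η₀ := fun e => hne (e ▸ rfl)
    obtain ⟨hcl, hsupp, h1⟩ := hdiff χ η₀ (hR2sub χ hχ) (hR2sub η₀ hη₀)
      (by rw [(hR2 χ hχ).1, (hR2 η₀ hη₀).1])
    set β := (χ : nF T → ℂ) - (η₀ : nF T → ℂ) with hβ
    set σ := indFun (nF T) β with hσ
    set e : IrrCharacter G → ℤ := fun ψ => (m ψ χ : ℤ) - m ψ η₀ with he
    have hσe : ∀ ψ : IrrCharacter G, classInner σ (ψ : G → ℂ) = e ψ := by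
      intro ψ
      rw [hσ, Induction.classInner_swap, Induction.classInner_indFun_right _ _ (irr_isClassFunction ψ),
        hβ, classInner_sub_right, hm, hm, he]
      simp
    have hnorm : classInner σ σ = 2 := by
      rw [hσ, CfsgLib.TIFNChar.isometry S.ti S.cent hcl hsupp h1, hβ]
      simp only [classInner_sub_left, classInner_sub_right, classInner_irr, if_neg hne',
        if_neg (Ne.symm hne'), if_true]
      norm_num
    rw [classInner_self_eq_sum_sq (Induction.isClassFunction_indFun _ β) hσe] at hnorm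
    have hsum : ∑ ψ, e ψ ^ 2 = 2 := by exact_mod_cast hnorm
    have heq : ∀ j, e (μ j) = e (μ i₀) := by
      intro j
      have h : classInner (τ j) σ = 0 := by
        rw [hσ, show τ j = indFun (nF T) (α j) from rfl,
          CfsgLib.TIFNChar.isometry S.ti S.cent hcl hsupp h1]
        have hdis : ∀ x ∈ R1, ∀ y ∈ R2, x ≠ y := fun x hx y hy (e : x = y) =>
          Finset.disjoint_left.mp SzLocal.disjoint_R hx (show x ∈ R2 from e.symm ▸ hy)
        simp only [α, hβ, classInner_sub_left, classInner_sub_right, classInner_irr,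
          if_neg (hdis _ j.2 χ hχ), if_neg (hdis _ j.2 η₀ hη₀), if_neg (hdis _ hχ₀ χ hχ),
          if_neg (hdis _ hχ₀ η₀ hη₀), sub_self]
      rw [hμ j, classInner_smul_left, classInner_sub_left, Int.cast_one, one_mul, sub_eq_zero,
        Induction.classInner_swap, hσe, Induction.classInner_swap (μ i₀ : G → ℂ), hσe, map_intCast,
        map_intCast, Int.cast_inj] at h
      exact h
    have h2 : ∑ ψ ∈ E, e ψ ^ 2 ≤ 2 :=
      hsum ▸ Finset.sum_le_sum_of_subset_of_nonneg (Finset.subset_univ _) fun _ _ _ => sq_nonneg _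
    rw [Finset.sum_congr rfl (g := fun _ => e (μ i₀) ^ 2) (fun ψ hψ => by
      obtain ⟨j, -, rfl⟩ := Finset.mem_image.mp hψ
      rw [heq j]), Finset.sum_const, nsmul_eq_mul, hEcard] at h2
    have h3 : e (μ i₀) ≠ 0 := by simp only [he, hldef] at hne ⊢; omega
    have h4 : 0 < e (μ i₀) ^ 2 := by positivity
    nlinarith
  have hBμ : B (μ i₀) = R2.card * l := by
    simp only [hBdef]
    rw [Finset.sum_congr rfl (g := fun _ => (l : ℤ)) (fun χ hχ => by rw [hl χ hχ]), Finset.sum_const,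
      nsmul_eq_mul]
  have hkμ' : k = 1 + f * (R2.card * l) := by rw [hkμ, hkdef]; simp only; rw [hA1, hBμ]
  have hvμ' : v = q - k := by have := hkv (μ i₀); rw [hA1] at this; linarith
  have hl0 : 0 < l := by
    by_contra h
    have hl' : l = 0 := by omega
    rw [hl', Nat.cast_zero, mul_zero, mul_zero, add_zero] at hkμ'
    have h1 := (hval _ (hμcat i₀)).1
    have h2 := (hval _ (hμcat i₀)).2
    rw [← hkμ, hkμ', mul_one] at h1
    rw [← hvμ, hvμ', hkμ', show q - 1 = (d : ℤ) by omega] at h2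
    have hker : (w : G) ∈ irrKer (μ i₀) := mem_irrKer.mpr (h2.trans h1.symm)
    rcases (irrKer_normal (μ i₀)).eq_bot_or_eq_top with hb | ht
    · exact hwG (Subgroup.mem_bot.mp (hb ▸ hker))
    · have := congrFun ((irrKer_eq_top_iff _).mp ht) 1
      rw [h1] at this
      have : (d : ℤ) = 1 := by exact_mod_cast this
      omega
  obtain ⟨n, hn2, -, hn⟩ := S.exists_exponent
  rw [← hd'] at hn
  have hqn : q = 2 ^ n := by rw [hqdef]; exact_mod_cast hn
  obtain ⟨hf, hN1, hl1⟩ := SzArith.second_kind hl0 (show R2.card * f ^ 2 = (2 ^ n) ^ 2 by rw [← hn, hR2card])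
    (show f * (R2.card * l) < 2 * 2 ^ n by
      have h : ((f * (R2.card * l) : ℕ) : ℤ) < 2 * q := by push_cast; omega
      rw [hqn] at h
      exact_mod_cast h)
  have hfq : (f : ℤ) = q := by rw [hqn, hf]; push_cast; rfl
  rw [hN1, hl1, Nat.cast_one, mul_one, mul_one, hfq] at hkμ'
  have hvμ'' : v = -1 := by omega
  -- the other characters
  set mm : IrrCharacter G → ℤ := fun ψ => (m ψ χ₀ : ℤ) with hmm
  set uu : IrrCharacter G → ℤ := fun ψ => q * mm ψ - B ψ with huu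
  have hrest : ∀ ψ ∈ C₀ \ E, kk ψ = (q ^ 2 + q + 1) * mm ψ - q * uu ψ ∧
      vv ψ = q * uu ψ - mm ψ := by
    intro ψ hψ
    obtain ⟨-, hψE⟩ := Finset.mem_sdiff.mp hψ
    have hA' : A ψ = (q + 1) * mm ψ := by
      simp only [hAdef]
      rw [← Finset.sum_coe_sort R1, Finset.sum_congr rfl (g := fun _ => mm ψ) (fun i _ => ?_),
        Finset.sum_const, Finset.card_univ, Fintype.card_coe, hR1card, nsmul_eq_mul, hqdef]
      · push_cast; ring
      · have h := hrecip ψ i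
        have hne : ∀ j, ψ ≠ μ j := fun j e =>
          hψE (e ▸ Finset.mem_image_of_mem μ (Finset.mem_univ _))
        rw [if_neg (hne _), if_neg (hne _), sub_self, mul_zero, sub_eq_zero] at h
        exact h
    simp only [hkdef, hvdef, huu, hA', hfq]
    constructor
    · ring
    · rw [hqdef]; ring
  have hkμs : ∀ j, kk (μ j) = q + 1 := fun j => by rw [(hsame j).1, hkμ']; ring
  have hvμs : ∀ j, vv (μ j) = -1 := fun j => by rw [(hsame j).2, hvμ'']
  rw [hsumE _ ((q + 1) ^ 2) (fun j => by rw [hkμs j]),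
    Finset.sum_congr rfl (fun ψ hψ => by rw [(hrest ψ hψ).1])] at E1
  rw [hsumE _ ((q + 1) * -1) (fun j => by rw [hkμs j, hvμs j]),
    Finset.sum_congr rfl (fun ψ hψ => by rw [(hrest ψ hψ).1, (hrest ψ hψ).2])] at E2
  rw [hsumE _ ((-1 : ℤ) ^ 2) (fun j => by rw [hvμs j]),
    Finset.sum_congr rfl (fun ψ hψ => by rw [(hrest ψ hψ).2])] at E3
  set Q := q ^ 2 + q + 1 with hQ
  have x1 : ∑ ψ ∈ C₀ \ E, (Q * mm ψ - q * uu ψ) ^ 2 = Q ^ 2 * ∑ ψ ∈ C₀ \ E, mm ψ ^ 2
      - 2 * Q * q * ∑ ψ ∈ C₀ \ E, mm ψ * uu ψ + q ^ 2 * ∑ ψ ∈ C₀ \ E, uu ψ ^ 2 := by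
    simp only [Finset.mul_sum, ← Finset.sum_sub_distrib, ← Finset.sum_add_distrib]
    exact Finset.sum_congr rfl fun _ _ => by ring
  have x2 : ∑ ψ ∈ C₀ \ E, (Q * mm ψ - q * uu ψ) * (q * uu ψ - mm ψ) =
      -Q * ∑ ψ ∈ C₀ \ E, mm ψ ^ 2 + (q * Q + q) * ∑ ψ ∈ C₀ \ E, mm ψ * uu ψ
      - q ^ 2 * ∑ ψ ∈ C₀ \ E, uu ψ ^ 2 := by
    simp only [Finset.mul_sum, ← Finset.sum_sub_distrib, ← Finset.sum_add_distrib]
    exact Finset.sum_congr rfl fun _ _ => by ring
  have x3 : ∑ ψ ∈ C₀ \ E, (q * uu ψ - mm ψ) ^ 2 = ∑ ψ ∈ C₀ \ E, mm ψ ^ 2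
      - 2 * q * ∑ ψ ∈ C₀ \ E, mm ψ * uu ψ + q ^ 2 * ∑ ψ ∈ C₀ \ E, uu ψ ^ 2 := by
    simp only [Finset.mul_sum, ← Finset.sum_sub_distrib, ← Finset.sum_add_distrib]
    exact Finset.sum_congr rfl fun _ _ => by ring
  rw [x1] at E1
  rw [x2] at E2
  rw [x3] at E3
  set Smm := ∑ ψ ∈ C₀ \ E, mm ψ ^ 2 with hSmm
  set Smu := ∑ ψ ∈ C₀ \ E, mm ψ * uu ψ with hSmu
  set Suu := ∑ ψ ∈ C₀ \ E, uu ψ ^ 2 with hSuu
  have hq' : q = 2 * (D : ℤ) + 2 := by omega
  have hQ1 : Q - 1 ≠ 0 := by rw [hQ]; nlinarith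
  have hS1 : Smm = D := by
    refine mul_left_cancel₀ (a := (d : ℤ) ^ 2 * (Q - 1) ^ 2)
      (mul_ne_zero (pow_ne_zero 2 hdpos.ne') (pow_ne_zero 2 hQ1)) ?_
    rw [hQ] at E1 E2 ⊢
    rw [hq', ← hd2] at E1 E2 ⊢
    rw [hq'] at E3
    linear_combination -E1 - 2 * (2 * (D : ℤ) + 1) * E2 - (2 * (D : ℤ) + 1) ^ 2 * E3
  rw [hS1] at E1 E2 E3
  have hS2 : Smu = 1 := by
    refine mul_left_cancel₀ (a := (d : ℤ) * q * (Q - 1))
      (mul_ne_zero (mul_ne_zero hdpos.ne' (by omega)) hQ1) ?_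
    rw [hQ] at E2 ⊢
    rw [hq', ← hd2] at E2 ⊢
    rw [hq'] at E3
    linear_combination -E2 - (2 * (D : ℤ) + 1) * E3
  rw [hS2] at E3
  have hS3 : Suu = q := by
    refine mul_left_cancel₀ (a := q ^ 2) (pow_ne_zero 2 (by omega)) ?_
    rw [hq'] at E3 ⊢
    linear_combination -E3
  have hkey : ∀ ψ ∈ C₀ \ E, mm ψ * uu ψ = 2 * mm ψ ^ 2 := by
    intro ψ hψ
    by_cases h0 : mm ψ = 0
    · rw [h0]; ring
    have hm1 : 1 ≤ mm ψ := by simp only [hmm] at h0 ⊢; omega
    obtain ⟨hψC, -⟩ := Finset.mem_sdiff.mp hψ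
    have hu : uu ψ ^ 2 ≤ q := hS3 ▸ Finset.single_le_sum (fun _ _ => sq_nonneg _) hψ
    have hmD : mm ψ ^ 2 ≤ D := hS1 ▸ Finset.single_le_sum (fun _ _ => sq_nonneg _) hψ
    have hdv := hdvd ψ (hmemC hψC)
    rw [hG, show (q ^ 3 + 1) * (q ^ 3 * (d : ℤ)) = (d : ℤ) * (q ^ 3 * (q ^ 3 + 1)) by ring,
      mul_dvd_mul_iff_left hdpos.ne'] at hdv
    rw [SzArith.key hn2 hqn hm1 (by omega) hu (hrest ψ hψ).1 (hk0 ψ (hmemC hψC)) hdv]
    ring
  have hfin : Smu = 2 * Smm := by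
    rw [hSmu, hSmm, Finset.mul_sum]
    exact Finset.sum_congr rfl hkey
  omega

end CfsgLib.Zass29
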