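import Cfsg.Agent.Lib.Zass29.SuzukiSetup
import Cfsg.Agent.Lib.InvChar.InvolutionCount

/-!
# Fixed-point-free real elements of a Zassenhaus group of Suzuki type
-/

set_option autoImplicit false
set_option linter.unusedSectionVars false
set_option linter.style.haveILetI false

noncomputable section

namespace CfsgLib.Zass29

open MulAction CfsgLib.PermSmall CfsgLib.InvChar CfsgLib.Involutions
open CfsgLib.PermSmall.FeitFrame (Frame)
open scoped Classical

universe u

variable {G : Type u} {Ω : Type*} [Group G] [Fintype G] [MulAction G Ω] [Fintype Ω] {a b : Ω}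

/-- `g` has no fixed points and is a product of two involutions. -/
def IsRealFpf {Ω : Type*} [MulAction G Ω] (g : G) : Prop :=
  (∀ c : Ω, g • c ≠ c) ∧ (invPairs g).Nonempty

/-- Elements without fixed points that are products of two involutions. -/
def realFpf (G : Type u) (Ω : Type*) [Group G] [Fintype G] [MulAction G Ω] : Finset G :=
  Finset.univ.filter fun g => IsRealFpf (Ω := Ω) g

theorem mem_realFpf {g : G} :
    g ∈ realFpf G Ω ↔ (∀ c : Ω, g • c ≠ c) ∧ ∃ t, t ∈ invPairs g := by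
  unfold realFpf
  exact ⟨fun h => (Finset.mem_filter.mp h).2, fun h => Finset.mem_filter.mpr ⟨Finset.mem_univ _, h⟩⟩

namespace SzSetting

variable {T : Frame G a b} (S : SzSetting T)
include S

theorem even_card_F : Even (Nat.card T.F) := by
  obtain ⟨z, hz, hz1⟩ := S.exists_center_ne
  refine T.even_of_involution_mem z.2 (FeitFrame.orderOf_two_iff.mpr
    ⟨congrArg Subtype.val (S.center_sq hz), fun e => hz1 (Subtype.ext e)⟩)

/-- An involution fixes a unique point. -/
theorem exists_fix {w : G} (hw : orderOf w = 2) : ∃ p : Ω, ∀ x : Ω, w • x = x ↔ x = p := by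
  have h := T.card_fixed_involution hw
  have hev := Nat.even_iff.mp S.even_card_F
  rw [show Fintype.card Ω % 2 = 1 by rw [S.card_omega]; omega, Finset.card_eq_one] at h
  obtain ⟨p, hp⟩ := h
  refine ⟨p, fun x => ?_⟩
  have := Finset.ext_iff.mp hp x
  simpa using this

/-- Commuting with a fixed-point-free element. -/
theorem fpf_of_commute {g y : G} (hg : ∀ c : Ω, g • c ≠ c) (hgy : g * y = y * g) (hy : y ≠ 1)
    (c : Ω) : y • c ≠ c := by
  intro hc
  have h1 : y • g • c = g • c := by rw [← mul_smul, ← hgy, mul_smul, hc]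
  have h2 : y • g • g • c = g • g • c := by rw [← mul_smul, ← hgy, mul_smul, h1]
  by_cases h3 : g • g • c = c
  · -- then `g` is an involution
    have hg2 : g * g = 1 := by
      by_contra hne
      have hc1 : (g * g) • c = c := by rw [mul_smul, h3]
      have hc2 : (g * g) • g • c = g • c := by rw [← mul_smul, mul_assoc, mul_smul g, hc1]
      obtain ⟨u, hu, hu'⟩ := T.exists_pair (Ne.symm (hg c))
      let k : T.H := ⟨u⁻¹ * y * u, Zassenhaus.mem_pairStab.mpr
        ⟨by rw [mul_smul, mul_smul, hu, hc, ← hu, inv_smul_smul],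
         by rw [mul_smul, mul_smul, hu', h1, ← hu', inv_smul_smul]⟩⟩
      let s : G := u⁻¹ * g * u
      have hsa : s • a = b := by rw [mul_smul, mul_smul, hu, ← hu', inv_smul_smul]
      have hsb : s • b = a := by rw [mul_smul, mul_smul, hu', h3, ← hu, inv_smul_smul]
      have hss := T.swap_sq hsa hsb
      apply hne
      calc g * g = u * (s * s) * u⁻¹ := by simp only [s]; group
        _ = 1 := by rw [hss]; group
    obtain ⟨p, hp⟩ := S.exists_fix (w := g)
      (FeitFrame.orderOf_two_iff.mpr ⟨hg2, fun e => hg c (by rw [e, one_smul])⟩)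
    exact hg p ((hp p).mpr rfl)
  · exact hy (T.three y c (g • c) (g • g • c) (Ne.symm (hg c))
      (fun e => hg c (smul_left_cancel g e).symm) (Ne.symm h3) hc h1 h2)

theorem fpf_of_centralizer {g y : G} (hg : ∀ c : Ω, g • c ≠ c)
    (hy : y ∈ Subgroup.centralizer ({g} : Set G)) (hy1 : y ≠ 1) (c : Ω) : y • c ≠ c :=
  S.fpf_of_commute hg (Subgroup.mem_centralizer_singleton_iff.mp hy).symm hy1 c

theorem centralizer_fixed {g t : G} (hg : ∀ c : Ω, g • c ≠ c) (ht : orderOf t = 2) :
    ∀ c ∈ Subgroup.centralizer ({g} : Set G), Commute c t → c = 1 := by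
  intro c hc hct
  by_contra hc1
  obtain ⟨p, hp⟩ := S.exists_fix ht
  refine S.fpf_of_centralizer hg hc hc1 p ((hp _).mp ?_)
  rw [← mul_smul, ← hct.eq, mul_smul, (hp p).mpr rfl]

/-- The centralizer of a real fixed-point-free element is abelian, self-centralizing and inverted. -/
theorem realFpf_props {u t : G} (hu : ∀ c : Ω, u • c ≠ c) (ht : t ∈ invPairs u) :
    (∀ c ∈ Subgroup.centralizer ({u} : Set G), t * c * t⁻¹ = c⁻¹) ∧
    IsMulCommutative ↥(Subgroup.centralizer ({u} : Set G)) ∧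
    (invPairs u).card = Nat.card ↥(Subgroup.centralizer ({u} : Set G)) := by
  have hfix := S.centralizer_fixed hu (mem_invPairs.mp ht).1
  obtain ⟨h1, h2, -⟩ := inverts_centralizer ht hfix
  exact ⟨h1, h2, card_invPairs_eq ht hfix⟩

theorem realFpf_centralizer {u v : G} (hu : u ∈ realFpf G Ω)
    (hv : v ∈ Subgroup.centralizer ({u} : Set G)) (hv1 : v ≠ 1) :
    v ∈ realFpf G Ω ∧ Subgroup.centralizer ({v} : Set G) = Subgroup.centralizer ({u} : Set G) := by
  obtain ⟨hfu, t, ht⟩ := mem_realFpf.mp hu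
  obtain ⟨hinv, hab, -⟩ := S.realFpf_props hfu ht
  have hfv : ∀ c : Ω, v • c ≠ c := S.fpf_of_centralizer hfu hv hv1
  have ht2 := (mem_invPairs.mp ht).1
  have htv : t ∈ invPairs v := mem_invPairs_iff_inverts.mpr ⟨ht2, fun e => by
    obtain ⟨p, hp⟩ := S.exists_fix ht2
    have hvt : v = t := by
      rw [← inv_eq_self_of_involution ht2]; exact (inv_eq_of_mul_eq_one_right e).symm
    exact hfv p (hvt ▸ (hp p).mpr rfl), hinv v hv⟩
  refine ⟨mem_realFpf.mpr ⟨hfv, t, htv⟩, le_antisymm ?_ ?_⟩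
  · obtain ⟨-, habv, -⟩ := S.realFpf_props hfv htv
    have huv : u ∈ Subgroup.centralizer ({v} : Set G) :=
      Subgroup.mem_centralizer_singleton_iff.mpr (Subgroup.mem_centralizer_singleton_iff.mp hv).symm
    intro x hx
    exact Subgroup.mem_centralizer_singleton_iff.mpr
      (congrArg Subtype.val (habv.is_comm.comm ⟨x, hx⟩ ⟨u, huv⟩))
  · intro x hx
    exact Subgroup.mem_centralizer_singleton_iff.mpr
      (congrArg Subtype.val (hab.is_comm.comm ⟨x, hx⟩ ⟨v, hv⟩))

theorem realFpf_conj {g u : G} (hu : u ∈ realFpf G Ω) : g * u * g⁻¹ ∈ realFpf G Ω := by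
  obtain ⟨hf, t, ht⟩ := mem_realFpf.mp hu
  obtain ⟨h1, h2⟩ := mem_invPairs.mp ht
  refine mem_realFpf.mpr ⟨fun c hc => hf (g⁻¹ • c) ?_, g * t * g⁻¹, mem_invPairs.mpr
    ⟨by rw [orderOf_conj_eq, h1], ?_⟩⟩
  · have h : (g⁻¹ * (g * u * g⁻¹)) • c = g⁻¹ • c := by rw [mul_smul, hc]
    rw [← mul_smul]
    convert h using 2
    group
  · rw [show g * t * g⁻¹ * (g * u * g⁻¹) = g * (t * u) * g⁻¹ by group, orderOf_conj_eq, h2]

theorem one_notMem_realFpf : (1 : G) ∉ realFpf G Ω := fun h => (mem_realFpf.mp h).1 a (one_smul G a)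

/-- The centralizer of a fixed-point-free element has order dividing the number of points. -/
theorem card_centralizer_dvd {u : G} (hu : ∀ c : Ω, u • c ≠ c) :
    Nat.card ↥(Subgroup.centralizer ({u} : Set G)) ∣ Fintype.card Ω := by
  set A := Subgroup.centralizer ({u} : Set G) with hA
  have hstab : ∀ x : Ω, stabilizer A x = ⊥ := fun x => by
    rw [eq_bot_iff]
    intro y hy
    rw [Subgroup.mem_bot]
    by_contra hy1
    exact S.fpf_of_centralizer hu y.2 (fun e => hy1 (Subtype.ext e)) x hy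
  rw [← Nat.card_eq_fintype_card (α := Ω),
    Nat.card_congr (MulAction.selfEquivSigmaOrbitsQuotientStabilizer A Ω), Nat.card_sigma]
  refine Finset.dvd_sum fun ω _ => ?_
  rw [hstab, ← Subgroup.index, Subgroup.index_bot]

/-- Squaring is injective modulo the centre. -/
theorem inv_mul_mem_center (hsq : Nat.card T.F = (Nat.card T.H + 1) ^ 2) {x y : T.F}
    (he : x * x = y * y) (h1 : x * x ≠ 1) : x⁻¹ * y ∈ Subgroup.center T.F := by
  set q := Nat.card T.H + 1 with hq
  set Zs : Finset T.F := (Finset.univ.filter fun z => z ∈ Subgroup.center T.F).erase 1 with hZs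
  set fib : T.F → Finset T.F := fun z => Finset.univ.filter fun y => y * y = z with hfib
  have hmemZs : ∀ {z : T.F}, z ∈ Zs ↔ z ≠ 1 ∧ z ∈ Subgroup.center T.F := by simp [hZs]
  have hcenterCard : (Finset.univ.filter fun z : T.F => z ∈ Subgroup.center T.F).card = q := by
    rw [hq, ← S.card_center, Nat.card_eq_fintype_card (α := Subgroup.center T.F), Fintype.card_subtype]
  have hZscard : Zs.card = q - 1 := by
    rw [hZs, Finset.card_erase_of_mem (by simp [one_mem]), hcenterCard]
  -- each fibre contains a coset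
  have hcoset : ∀ z : T.F, ∀ v ∈ fib z,
      ((Finset.univ.filter fun c : T.F => c ∈ Subgroup.center T.F).image fun c => v * c) ⊆ fib z := by
    intro z v hv y hy
    obtain ⟨c, hc, rfl⟩ := Finset.mem_image.mp hy
    have hc' := (Finset.mem_filter.mp hc).2
    simp only [hfib, Finset.mem_filter, Finset.mem_univ, true_and] at hv ⊢
    rw [mul_assoc, ← mul_assoc c v c, ← Subgroup.mem_center_iff.mp hc' v, mul_assoc v c c,
      S.center_sq hc', mul_one, hv]
  -- a translation of order four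
  obtain ⟨x₀, hx₀⟩ : ∃ x₀ : T.F, x₀ * x₀ ≠ 1 := ⟨x, h1⟩
  have hne : ∀ z ∈ Zs, q ≤ (fib z).card := by
    intro z hz
    obtain ⟨hz1, hzc⟩ := hmemZs.mp hz
    obtain ⟨k, hk⟩ := S.trans (x₀ * x₀) z (S.sq_mem x₀) hx₀ hzc hz1
    have hv : T.conjF k x₀ ∈ fib z := by
      simp only [hfib, Finset.mem_filter, Finset.mem_univ, true_and]
      rw [← map_mul, hk]
    refine le_trans ?_ (Finset.card_le_card (hcoset z _ hv))
    rw [Finset.card_image_of_injective _ fun c c' e => mul_left_cancel e, hcenterCard]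
  have hdisj : ∀ z ∈ Zs, ∀ z' ∈ Zs, z ≠ z' → Disjoint (fib z) (fib z') := fun z _ z' _ hzz =>
    Finset.disjoint_left.mpr fun y hy hy' =>
      hzz ((Finset.mem_filter.mp hy).2.symm.trans (Finset.mem_filter.mp hy').2)
  have htot : ∑ z ∈ Zs, (fib z).card ≤ q ^ 2 - q := by
    rw [← Finset.card_biUnion hdisj]
    calc (Zs.biUnion fib).card ≤ (Finset.univ.filter fun y : T.F => y ∉ Subgroup.center T.F).card := by
          refine Finset.card_le_card fun y hy => ?_
          obtain ⟨z, hz, hyz⟩ := Finset.mem_biUnion.mp hy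
          refine Finset.mem_filter.mpr ⟨Finset.mem_univ _, fun hyc => (hmemZs.mp hz).1 ?_⟩
          rw [← (Finset.mem_filter.mp hyz).2, S.center_sq hyc]
      _ = q ^ 2 - q := by
          have h := Finset.card_filter_add_card_filter_not (s := (Finset.univ : Finset T.F))
            (fun y : T.F => y ∈ Subgroup.center T.F)
          rw [hcenterCard, Finset.card_univ, ← Nat.card_eq_fintype_card, hsq] at h
          omega
  set z := x * x with hz
  have hzZ : z ∈ Zs := hmemZs.mpr ⟨h1, S.sq_mem x⟩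
  have hcard : (fib z).card ≤ q := by
    have h2 : (Zs.erase z).card * q ≤ ∑ z' ∈ Zs.erase z, (fib z').card := by
      rw [← smul_eq_mul]
      exact Finset.card_nsmul_le_sum _ _ _ fun z' hz' => hne z' (Finset.mem_of_mem_erase hz')
    rw [← Finset.add_sum_erase _ _ hzZ] at htot
    rw [Finset.card_erase_of_mem hzZ, hZscard] at h2
    have hq2 : q ^ 2 - q = (q - 1 - 1) * q + q := by
      obtain ⟨r, hr⟩ : ∃ r, q = r + 2 := ⟨q - 2, by have := S.three_le; omega⟩
      rw [hr, show r + 2 - 1 - 1 = r by omega]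
      have : (r + 2) ^ 2 = r * (r + 2) + (r + 2) + (r + 2) := by ring
      omega
    omega
  have hxz : x ∈ fib z := by simp [hfib, hz]
  have hyz : y ∈ fib z := by simp [hfib, hz, he.symm]
  have heq := Finset.eq_of_subset_of_card_le (hcoset z x hxz) (by
    rw [Finset.card_image_of_injective _ fun c c' e => mul_left_cancel e, hcenterCard]; exact hcard)
  rw [← heq, Finset.mem_image] at hyz
  obtain ⟨c, hc, rfl⟩ := hyz
  rw [inv_mul_cancel_left]
  exact (Finset.mem_filter.mp hc).2

/-- Commuting square roots of an involution differ by an involution. -/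
theorem sq_inv_mul (hsq : Nat.card T.F = (Nat.card T.H + 1) ^ 2) {w x y : G} (hw : orderOf w = 2)
    (hwa : w • a = a) (hx : x * x = w) (hy : y * y = w) :
    (x⁻¹ * y) * (x⁻¹ * y) = 1 := by
  have hwF := T.mem_F_of_fix hw hwa
  have hw1 : w ≠ 1 := (FeitFrame.orderOf_two_iff.mp hw).2
  have hxF : x ∈ T.F := S.cent w hwF hw1
    (Subgroup.mem_centralizer_singleton_iff.mpr (by rw [← hx]; group))
  have hyF : y ∈ T.F := S.cent w hwF hw1
    (Subgroup.mem_centralizer_singleton_iff.mpr (by rw [← hy]; group))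
  have h := S.center_sq (S.inv_mul_mem_center hsq (x := ⟨x, hxF⟩) (y := ⟨y, hyF⟩)
    (Subtype.ext (hx.trans hy.symm)) (fun e => hw1 (by rw [← hx]; exact congrArg Subtype.val e)))
  exact congrArg Subtype.val h

/-- Elements commuting with an involution have order dividing four. -/
theorem pow_four (w x : G) (hw : orderOf w = 2) (hx : x * w = w * x) : x ^ 4 = 1 := by
  obtain ⟨p, hp⟩ := S.exists_fix hw
  obtain ⟨g, rfl⟩ := T.transitive p
  have hwa : (g⁻¹ * w * g) • a = a := by
    rw [mul_smul, mul_smul, (hp _).mpr rfl, inv_smul_smul]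
  have hw' : orderOf (g⁻¹ * w * g) = 2 := by
    have := orderOf_conj_eq g⁻¹ w
    rwa [inv_inv, hw] at this
  have hwF := T.mem_F_of_fix hw' hwa
  have hxF : g⁻¹ * x * g ∈ T.F := S.cent _ hwF (FeitFrame.orderOf_two_iff.mp hw').2
    (Subgroup.mem_centralizer_singleton_iff.mpr (by
      calc g⁻¹ * x * g * (g⁻¹ * w * g) = g⁻¹ * (x * w) * g := by group
        _ = g⁻¹ * w * g * (g⁻¹ * x * g) := by rw [hx]; group))
  have h := S.center_sq (S.sq_mem ⟨_, hxF⟩)
  have h' : g⁻¹ * x * g * (g⁻¹ * x * g) * (g⁻¹ * x * g * (g⁻¹ * x * g)) = 1 :=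
    congrArg Subtype.val h
  calc x ^ 4 = g * (g⁻¹ * x * g * (g⁻¹ * x * g) * (g⁻¹ * x * g * (g⁻¹ * x * g))) * g⁻¹ := by
        rw [show (4 : ℕ) = 1 + 1 + 1 + 1 from rfl, pow_add, pow_add, pow_add, pow_one]; group
    _ = 1 := by rw [h']; group

/-- The normalizer of the centralizer of a real fixed-point-free element. -/
theorem card_normalizer (hsq : Nat.card T.F = (Nat.card T.H + 1) ^ 2) {u : G}
    (hu : u ∈ realFpf G Ω) :
    ∃ l : ℕ, (l = 2 ∨ l = 4) ∧
      Nat.card ↥(Subgroup.normalizer ((Subgroup.centralizer ({u} : Set G) : Subgroup G) : Set G)) =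
        Nat.card ↥(Subgroup.centralizer ({u} : Set G)) * l := by
  obtain ⟨hfu, t, ht⟩ := mem_realFpf.mp hu
  obtain ⟨hinv, hab, -⟩ := S.realFpf_props hfu ht
  have ht2 := (mem_invPairs.mp ht).1
  have htt := mul_self_eq_one ht2
  set A := Subgroup.centralizer ({u} : Set G) with hA
  have hfixA : ∀ (s : G), orderOf s = 2 → ∀ c ∈ A, Commute c s → c = 1 := fun s hs =>
    S.centralizer_fixed hfu hs
  set L := Subgroup.normalizer (A : Set G) ⊓ Subgroup.centralizer ({t} : Set G) with hL
  have hdisj : ∀ c ∈ A, c ∈ L → c = 1 := fun c hc hcL =>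
    hfixA t ht2 c hc (Subgroup.mem_centralizer_singleton_iff.mp hcL.2)
  -- square roots in `A`
  have hroot : ∀ c ∈ A, ∃ r ∈ A, r * r = c := by
    intro c hc
    have hodd := (inverts_centralizer ht (S.centralizer_fixed hfu ht2)).2.2
    have hcop : Nat.Coprime 2 (orderOf (⟨c, hc⟩ : A)) :=
      Nat.coprime_two_left.mpr (hodd.of_dvd_nat (orderOf_dvd_natCard _))
    obtain ⟨j, hj⟩ := exists_pow_eq_self_of_coprime hcop
    refine ⟨c ^ j, pow_mem hc j, ?_⟩
    have := congrArg Subtype.val hj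
    rw [Subgroup.coe_pow, Subgroup.coe_pow] at this
    rw [← pow_add, ← two_mul, pow_mul]
    exact this
  -- the normalizer splits
  have hsplit : ∀ x ∈ Subgroup.normalizer (A : Set G), ∃ r ∈ A, r * x ∈ L := by
    intro x hx
    set s := x * t * x⁻¹ with hs
    have hsA : ∀ c ∈ A, s * c * s⁻¹ = c⁻¹ := by
      intro c hc
      have hc' : x⁻¹ * c * x ∈ A := (Subgroup.mem_normalizer_iff''.mp hx c).mp hc
      calc s * c * s⁻¹ = x * (t * (x⁻¹ * c * x) * t⁻¹) * x⁻¹ := by rw [hs]; group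
        _ = c⁻¹ := by rw [hinv _ hc']; group
    have hts : t⁻¹ * s ∈ A := by
      rw [hA, Subgroup.mem_centralizer_singleton_iff]
      have h1 := hsA u (Subgroup.mem_centralizer_singleton_iff.mpr rfl)
      have h2 := hinv u (Subgroup.mem_centralizer_singleton_iff.mpr rfl)
      rw [← mul_inv_eq_iff_eq_mul]
      calc t⁻¹ * s * u * (t⁻¹ * s)⁻¹ = t⁻¹ * (s * u * s⁻¹) * t := by group
        _ = t⁻¹ * (t * u * t⁻¹) * t := by rw [h1, h2]
        _ = u := by group
    obtain ⟨r, hr, hrr⟩ := hroot _ hts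
    refine ⟨r, hr, Subgroup.mem_inf.mpr ⟨mul_mem (Subgroup.le_normalizer hr) hx,
      Subgroup.mem_centralizer_singleton_iff.mpr ?_⟩⟩
    have h1 : r * s * r⁻¹ = t := by
      have h2 := hinv r hr
      have h3 : s = t * (r * r) := by rw [hrr, mul_inv_cancel_left]
      have h4 : r * t = t * r⁻¹ := by
        have := hinv r⁻¹ (inv_mem hr)
        rw [inv_inv] at this
        calc r * t = t * r⁻¹ * t⁻¹ * t := by rw [this]
          _ = t * r⁻¹ := by group
      calc r * s * r⁻¹ = r * t * (r * r) * r⁻¹ := by rw [h3]; group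
        _ = t := by rw [h4]; group
    rw [← mul_inv_eq_iff_eq_mul]
    calc r * x * t * (r * x)⁻¹ = r * s * r⁻¹ := by rw [hs]; group
      _ = t := h1
  have hcardN : Nat.card ↥(Subgroup.normalizer (A : Set G)) = Nat.card A * Nat.card L := by
    rw [← Nat.card_prod]
    refine (Nat.card_eq_of_bijective (fun p : A × L => (⟨(p.1 : G) * p.2,
      mul_mem (Subgroup.le_normalizer p.1.2) p.2.2.1⟩ : ↥(Subgroup.normalizer (A : Set G)))) ⟨?_, ?_⟩).symm
    · rintro ⟨c, l⟩ ⟨c', l'⟩ e
      have e' : (c : G) * l = c' * l' := congrArg Subtype.val e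
      have h1 : (c' : G)⁻¹ * c = l' * (l : G)⁻¹ := by
        calc (c' : G)⁻¹ * c = (c' : G)⁻¹ * ((c : G) * l) * (l : G)⁻¹ := by group
          _ = l' * (l : G)⁻¹ := by rw [e']; group
      have h2 := hdisj _ (mul_mem (inv_mem c'.2) c.2) (h1 ▸ mul_mem l'.2 (inv_mem l.2))
      have h3 : c = c' := Subtype.ext (inv_mul_eq_one.mp h2).symm
      subst h3
      exact Prod.ext rfl (Subtype.ext (mul_left_cancel e'))
    · rintro ⟨x, hx⟩
      obtain ⟨r, hr, hrx⟩ := hsplit x hx
      exact ⟨(⟨r⁻¹, inv_mem hr⟩, ⟨r * x, hrx⟩), Subtype.ext (inv_mul_cancel_left r x)⟩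
  -- the complement
  have htN : t ∈ Subgroup.normalizer (A : Set G) := by
    rw [Subgroup.mem_normalizer_iff]
    intro c
    refine ⟨fun hc => by rw [hinv c hc]; exact inv_mem hc, fun hc => ?_⟩
    have h : c = (t * c * t⁻¹)⁻¹ := by
      rw [← hinv _ hc]
      calc c = t * t * c * (t * t)⁻¹ := by rw [htt]; group
        _ = t * (t * c * t⁻¹) * t⁻¹ := by group
    rw [h]; exact inv_mem hc
  have htL : t ∈ L := Subgroup.mem_inf.mpr ⟨htN, Subgroup.mem_centralizer_singleton_iff.mpr rfl⟩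
  have hinvol : ∀ x ∈ L, x * x = 1 → x = 1 ∨ x = t := by
    intro x hx hxx
    by_cases hx1 : x = 1
    · exact Or.inl hx1
    refine Or.inr ?_
    have hx2 : orderOf x = 2 := FeitFrame.orderOf_two_iff.mpr ⟨hxx, hx1⟩
    have hxinv := inverts_of_fixedPointFree (A := A) hx2
      (fun c hc => (Subgroup.mem_normalizer_iff.mp hx.1 c).mp hc) (hfixA x hx2)
    have hmem : t⁻¹ * x ∈ A := by
      rw [hA, Subgroup.mem_centralizer_singleton_iff, ← mul_inv_eq_iff_eq_mul]
      have h1 := hxinv u (Subgroup.mem_centralizer_singleton_iff.mpr rfl)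
      have h2 := hinv u (Subgroup.mem_centralizer_singleton_iff.mpr rfl)
      calc t⁻¹ * x * u * (t⁻¹ * x)⁻¹ = t⁻¹ * (x * u * x⁻¹) * t := by group
        _ = t⁻¹ * (t * u * t⁻¹) * t := by rw [h1, h2]
        _ = u := by group
    exact (inv_mul_eq_one.mp (hdisj _ hmem (mul_mem (inv_mem htL) hx))).symm
  have hsq' : ∀ x ∈ L, x * x = 1 ∨ x * x = t := by
    intro x hx
    refine hinvol _ (mul_mem hx hx) ?_
    have := S.pow_four t x ht2 (Subgroup.mem_centralizer_singleton_iff.mp hx.2)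
    rw [show x * x * (x * x) = x ^ 4 by simp only [pow_succ, pow_zero, one_mul, mul_assoc], this]
  have hle : Nat.card L ≤ 4 := by
    obtain ⟨p, hp⟩ := S.exists_fix ht2
    obtain ⟨g, rfl⟩ := T.transitive p
    have hsmall : ∀ x ∈ L, ∀ y ∈ L, x * x = t → y * y = t → y = x ∨ y = x * t := by
      intro x hx y hy hxt hyt
      have hconj := S.sq_inv_mul hsq (w := g⁻¹ * t * g) (x := g⁻¹ * x * g) (y := g⁻¹ * y * g)
        (by have := orderOf_conj_eq g⁻¹ t; rwa [inv_inv, ht2] at this)
        (by rw [mul_smul, mul_smul, (hp _).mpr rfl, inv_smul_smul])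
        (by rw [← hxt]; group) (by rw [← hyt]; group)
      have h2 : x⁻¹ * y * (x⁻¹ * y) = 1 := by
        calc x⁻¹ * y * (x⁻¹ * y) = g * ((g⁻¹ * x * g)⁻¹ * (g⁻¹ * y * g) *
              ((g⁻¹ * x * g)⁻¹ * (g⁻¹ * y * g))) * g⁻¹ := by group
          _ = 1 := by rw [hconj]; group
      rcases hinvol _ (mul_mem (inv_mem hx) hy) h2 with h | h
      · exact Or.inl (inv_mul_eq_one.mp h).symm
      · exact Or.inr (inv_mul_eq_iff_eq_mul.mp h)
    obtain ⟨x₀, hx₀⟩ : ∃ x₀ : G, ∀ x ∈ L, x = 1 ∨ x = t ∨ x = x₀ ∨ x = x₀ * t := by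
      by_cases hex : ∃ x ∈ L, x * x = t
      · obtain ⟨x₀, hx₀, hx₀t⟩ := hex
        refine ⟨x₀, fun x hx => ?_⟩
        rcases hsq' x hx with h | h
        · exact (hinvol x hx h).imp id Or.inl
        · exact Or.inr (Or.inr (hsmall x₀ hx₀ x hx hx₀t h))
      · refine ⟨1, fun x hx => ?_⟩
        rcases hsq' x hx with h | h
        · exact (hinvol x hx h).imp id Or.inl
        · exact absurd ⟨x, hx, h⟩ hex
    calc Nat.card L = (L : Set G).ncard := rfl
      _ ≤ ((({1, t, x₀, x₀ * t} : Finset G)) : Set G).ncard := Set.ncard_le_ncard (fun x hx => by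
          rcases hx₀ x hx with h | h | h | h <;> simp [h]) (Set.toFinite _)
      _ ≤ 4 := by rw [Set.ncard_coe_finset]; exact Finset.card_le_four
  have htwo : 2 ∣ Nat.card L := by
    rw [← ht2, ← Subgroup.orderOf_mk t htL]
    exact orderOf_dvd_natCard _
  have hpos : 0 < Nat.card L := Nat.card_pos
  exact ⟨Nat.card L, by omega, hcardN⟩

/-- Non-conjugate centralizers of real fixed-point-free elements have coprime orders. -/
theorem coprime_card {u v : G} (hu : u ∈ realFpf G Ω) (hv : v ∈ realFpf G Ω)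
    (hne : ¬ ∃ g : G, (Subgroup.centralizer ({u} : Set G)).map (MulAut.conj g).toMonoidHom =
      Subgroup.centralizer ({v} : Set G)) :
    Nat.Coprime (Nat.card ↥(Subgroup.centralizer ({u} : Set G)))
      (Nat.card ↥(Subgroup.centralizer ({v} : Set G))) := by
  refine Nat.coprime_of_dvd fun p hp hpu hpv => hne ?_
  haveI : Fact p.Prime := ⟨hp⟩
  -- a Sylow subgroup inside each of them
  have key : ∀ w : G, w ∈ realFpf G Ω → p ∣ Nat.card ↥(Subgroup.centralizer ({w} : Set G)) →
      ∃ P : Sylow p G, (P : Subgroup G) ≤ Subgroup.centralizer ({w} : Set G) ∧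
        ∃ y ∈ (P : Subgroup G), y ≠ 1 := by
    intro w hw hpw
    obtain ⟨y, hy⟩ := exists_prime_orderOf_dvd_card' p hpw
    have hy1 : (y : G) ≠ 1 := fun e => by
      rw [show y = 1 from Subtype.ext e, orderOf_one] at hy
      exact hp.ne_one hy.symm
    have hzp : IsPGroup p (Subgroup.zpowers (y : G)) := IsPGroup.of_card (n := 1) (by
      rw [Nat.card_zpowers, Subgroup.orderOf_coe, hy, pow_one])
    obtain ⟨P, hP⟩ := hzp.exists_le_sylow
    have hyP : (y : G) ∈ (P : Subgroup G) := hP (Subgroup.mem_zpowers _)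
    refine ⟨P, ?_, y, hyP, hy1⟩
    haveI : Nontrivial (P : Subgroup G) := ⟨⟨⟨_, hyP⟩, 1, fun e => hy1 (congrArg Subtype.val e)⟩⟩
    haveI := P.isPGroup'.center_nontrivial
    obtain ⟨z, hz⟩ := exists_ne (1 : Subgroup.center (P : Subgroup G))
    have hz1 : ((z : (P : Subgroup G)) : G) ≠ 1 := fun e => hz (Subtype.ext (Subtype.ext e))
    obtain ⟨hyR, hCy⟩ := S.realFpf_centralizer hw y.2 hy1
    have hzy : ((z : (P : Subgroup G)) : G) ∈ Subgroup.centralizer ({(y : G)} : Set G) :=
      Subgroup.mem_centralizer_singleton_iff.mpr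
        (congrArg Subtype.val (Subgroup.mem_center_iff.mp z.2 ⟨_, hyP⟩)).symm
    intro x hx
    rw [← hCy, ← (S.realFpf_centralizer hyR hzy hz1).2]
    exact Subgroup.mem_centralizer_singleton_iff.mpr
      (congrArg Subtype.val (Subgroup.mem_center_iff.mp z.2 ⟨x, hx⟩))
  obtain ⟨P, hPu, -⟩ := key u hu hpu
  obtain ⟨Q, hQv, y, hyQ, hy1⟩ := key v hv hpv
  obtain ⟨g, hg⟩ := MulAction.exists_smul_eq G Q P
  refine ⟨g⁻¹, ?_⟩
  have hmem : g * y * g⁻¹ ∈ Subgroup.centralizer ({u} : Set G) := hPu (by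
    rw [← hg]
    refine Subgroup.mem_pointwise_smul_iff_inv_smul_mem.mpr ?_
    convert hyQ using 1
    simp [MulAut.smul_def]; group)
  have hCy := (S.realFpf_centralizer hu hmem (fun e => hy1 (by simpa using e))).2
  rw [← (S.realFpf_centralizer hv (hQv hyQ) hy1).2, ← hCy]
  ext x
  simp only [Subgroup.mem_map_equiv, Subgroup.mem_centralizer_singleton_iff, MulAut.conj_symm_apply,
    inv_inv]
  constructor
  · intro h
    calc x * y = g⁻¹ * (g * x * g⁻¹ * (g * y * g⁻¹)) * g := by group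
      _ = y * x := by rw [h]; group
  · intro h
    calc g * x * g⁻¹ * (g * y * g⁻¹) = g * (x * y) * g⁻¹ := by group
      _ = g * y * g⁻¹ * (g * x * g⁻¹) := by rw [h]; group

end SzSetting

end CfsgLib.Zass29
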