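import Cfsg.Agent.Lib.Zass29.SuzukiCube
import Cfsg.Agent.Lib.Zass29.SuzukiTori
import Cfsg.Agent.Lib.Zass29.SuzukiArith

/-!
# The order of a simple Zassenhaus group of Suzuki type
-/

set_option autoImplicit false
set_option linter.unusedSectionVars false
set_option linter.style.haveILetI false

noncomputable section

namespace CfsgLib.Zass29

open MulAction CfsgLib.PermSmall CfsgLib.InvChar CfsgLib.Involutions
open CfsgLib.PermSmall.FeitFrame (Frame)
open scoped Classical

universe u

variable {G : Type u} {Ω : Type*} [Group G] [Fintype G] [MulAction G Ω] [Fintype Ω] {a b : Ω}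

/-- The fixed points of an element. -/
def fixFinset {Ω : Type*} [MulAction G Ω] [Fintype Ω] (g : G) : Finset Ω :=
  Finset.univ.filter fun x => g • x = x

theorem mem_fixFinset {g : G} {x : Ω} : x ∈ fixFinset (Ω := Ω) g ↔ g • x = x := by
  simp [fixFinset]

theorem isConj_invPairs_card (g x : G) :
    (invPairs (x * g * x⁻¹)).card = (invPairs g).card := by
  refine (Finset.card_bij (fun t _ => x * t * x⁻¹) ?_ ?_ ?_).symm
  · intro t ht
    obtain ⟨h1, h2⟩ := mem_invPairs.mp ht
    exact mem_invPairs.mpr ⟨by rw [orderOf_conj_eq, h1],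
      by rw [show x * t * x⁻¹ * (x * g * x⁻¹) = x * (t * g) * x⁻¹ by group, orderOf_conj_eq, h2]⟩
  · intro t _ t' _ e
    simpa using e
  · intro t ht
    obtain ⟨h1, h2⟩ := mem_invPairs.mp ht
    refine ⟨x⁻¹ * t * x, mem_invPairs.mpr ⟨?_, ?_⟩, by group⟩
    · have := orderOf_conj_eq x⁻¹ t
      rw [inv_inv] at this
      rw [this, h1]
    · have := orderOf_conj_eq x⁻¹ (t * (x * g * x⁻¹))
      rw [inv_inv, h2] at this
      rw [← this]
      congr 1
      group

namespace SzSetting

variable {T : Frame G a b} (S : SzSetting T)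
include S

theorem card_fixing_eq (c : Ω) :
    ((Finset.univ : Finset G).filter fun w => orderOf w = 2 ∧ w • c = c).card = Nat.card T.H := by
  have h1 := T.card_fixing c
  rw [T.card_involutions, if_pos S.even_card_F, Nat.mul_add, Nat.mul_one,
    Nat.mul_comm (Nat.card T.F)] at h1
  rw [Nat.card_eq_fintype_card, Fintype.card_subtype] at h1
  omega

/-- Pairs of involutions with product fixing two points. -/
theorem card_invPairs_two {g : G} {p q : Ω} (hpq : p ≠ q) (hg : g ≠ 1)
    (hp : g • p = p) (hq : g • q = q) (hfix : ∀ x : Ω, g • x = x → x = p ∨ x = q) :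
    (invPairs g).card = Nat.card T.H := by
  obtain ⟨x, hxa, hxb⟩ := T.exists_pair hpq
  set g' := x⁻¹ * g * x with hg'
  have hgg : g = x * g' * x⁻¹ := by rw [hg']; group
  rw [hgg, isConj_invPairs_card]
  have hmem : g' ∈ T.H := Zassenhaus.mem_pairStab.mpr
    ⟨by rw [hg', mul_smul, mul_smul, hxa, hp, ← hxa, inv_smul_smul],
     by rw [hg', mul_smul, mul_smul, hxb, hq, ← hxb, inv_smul_smul]⟩
  have hfix' : ∀ y : Ω, g' • y = y → y = a ∨ y = b := by
    intro y hy
    rw [hg', mul_smul, mul_smul, inv_smul_eq_iff] at hy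
    rcases hfix _ hy with h | h
    · exact Or.inl (smul_left_cancel x (h.trans hxa.symm))
    · exact Or.inr (smul_left_cancel x (h.trans hxb.symm))
  rw [Nat.card_eq_fintype_card, ← Finset.card_univ]
  refine (Finset.card_bij (s := (Finset.univ : Finset T.H)) (t := invPairs g')
    (fun h _ => T.swap * (h : G)) ?_ ?_ ?_).symm
  · intro h _
    obtain ⟨e1, e2⟩ := T.mul_mem_swap T.swap_a T.swap_b h
    refine mem_invPairs_iff_inverts.mpr ⟨FeitFrame.orderOf_two_iff.mpr ⟨T.swap_sq e1 e2,
      fun e => T.ne (by rw [← e1, e, one_smul])⟩, fun e => T.ne ?_, T.inv _ e1 e2 _ hmem⟩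
    conv_lhs => rw [← one_smul G a, ← e, mul_smul, hmem.1, e1]
  · intro h _ k _ e
    exact Subtype.ext (mul_left_cancel e)
  · intro y hy
    obtain ⟨hy2, -, hyinv⟩ := mem_invPairs_iff_inverts.mp hy
    have hyy := mul_self_eq_one hy2
    have hperm : ∀ z : Ω, g' • z = z → g' • y • z = y • z := by
      intro z hz
      have h : g' * y = y * g'⁻¹ := by
        rw [← hyinv]
        calc g' * y = (y * y) * g' * y := by rw [hyy, one_mul]
          _ = y * (y * g' * y⁻¹) * (y * y) := by group
          _ = y * (y * g' * y⁻¹) := by rw [hyy, mul_one]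
      rw [← mul_smul, h, mul_smul, inv_smul_eq_iff.mpr hz.symm]
    have hya : y • a = b := by
      refine (hfix' _ (hperm a hmem.1)).resolve_left fun e => ?_
      have hyb : y • b = b := (hfix' _ (hperm b hmem.2)).resolve_left fun e' =>
        T.ne (smul_left_cancel y (e.trans e'.symm))
      exact ne_one_of_involution hy2 (T.eq_one_of_two_fixed hyy T.ne e hyb)
    have hyb : y • b = a := by rw [← hya, ← mul_smul, hyy, one_smul]
    refine ⟨⟨T.swap⁻¹ * y, Zassenhaus.mem_pairStab.mpr
      ⟨by rw [mul_smul, hya, inv_smul_eq_iff, T.swap_a],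
       by rw [mul_smul, hyb, inv_smul_eq_iff, T.swap_b]⟩⟩, Finset.mem_univ _, ?_⟩
    exact mul_inv_cancel_left T.swap y

/-- Pairs of involutions with product fixing exactly one point. -/
theorem card_invPairs_one' (hZ : Cfsg.IsZassenhausGroup G Ω) {g : G} {c : Ω} (hg : g ≠ 1)
    (hc : ∀ x : Ω, g • x = x ↔ x = c) :
    (invPairs g).card = if orderOf g = 2 then Nat.card T.H - 1 else 0 := by
  obtain ⟨x, hx⟩ := T.transitive c
  split_ifs with h2
  · have heq : invPairs g =
        ((Finset.univ : Finset G).filter fun w => orderOf w = 2 ∧ w • c = c).erase g := by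
      ext w
      rw [mem_invPairs_of_involution h2, Finset.mem_erase, Finset.mem_filter]
      constructor
      · rintro ⟨hw, hwg, hne⟩
        refine ⟨hne, Finset.mem_univ _, hw, (hc _).mp ?_⟩
        rw [← mul_smul, ← hwg.eq, mul_smul, (hc c).mpr rfl]
      · rintro ⟨hne, -, hw, hwc⟩
        refine ⟨hw, ?_, hne⟩
        have hconj : ∀ v : G, v • c = c → (x⁻¹ * v * x) • a = a := fun v hv => by
          rw [mul_smul, mul_smul, hx, hv, ← hx, inv_smul_smul]
        have hord : ∀ v : G, orderOf v = 2 → orderOf (x⁻¹ * v * x) = 2 := fun v hv => by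
          have := orderOf_conj_eq x⁻¹ v
          rwa [inv_inv, hv] at this
        have h := (T.commute_of_fix (hord w hw) (hconj w hwc) (hord g h2)
          (hconj g ((hc c).mpr rfl))).eq
        show w * g = g * w
        calc w * g = x * (x⁻¹ * w * x * (x⁻¹ * g * x)) * x⁻¹ := by group
          _ = g * w := by rw [h]; group
    rw [heq, Finset.card_erase_of_mem (by simp [h2, (hc c).mpr rfl]), S.card_fixing_eq]
  · rw [Finset.card_eq_zero, Finset.eq_empty_iff_forall_notMem]
    intro t ht
    have hgg : g = x * (x⁻¹ * g * x) * x⁻¹ := by group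
    obtain ⟨t', ht'⟩ : (invPairs (x⁻¹ * g * x)).Nonempty := by
      rw [← Finset.card_pos, ← isConj_invPairs_card _ x, ← hgg]
      exact Finset.card_pos.mpr ⟨t, ht⟩
    obtain ⟨h1, h1'⟩ := mem_invPairs.mp ht'
    have hmem : x⁻¹ * g * x ∈ T.F := by
      rw [FeitThm.mem_iff_fixOnly hZ T.ne T.F_le S.card_omega.symm (fun u hu hu1 y => T.fix_only hu hu1)]
      refine Or.inr fun y => ?_
      rw [mul_smul, mul_smul, inv_smul_eq_iff, hc]
      exact ⟨fun e => smul_left_cancel x (e.trans hx.symm), fun e => e ▸ hx⟩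
    refine h2 ?_
    have h := T.orderOf_eq_two_of_mul hmem (fun e => hg (by rw [hgg, e]; group)) h1 h1'
      (by rw [← mul_assoc, mul_self_eq_one h1, one_mul])
    rw [hgg, orderOf_conj_eq, h]

/-- The translations of a simple Zassenhaus group of Suzuki type have order `q ^ 2`, and the
two-point stabilisers order `q - 1`, where `q` is an odd power of two. -/
theorem exists_odd_exponent [IsSimpleGroup G] (hZ : Cfsg.IsZassenhausGroup G Ω) :
    ∃ e : ℕ, Odd e ∧ 1 < e ∧ Nat.card T.H + 1 = 2 ^ e ∧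
      Nat.card T.F = (Nat.card T.H + 1) ^ 2 := by
  have hsq : Nat.card T.F = (Nat.card T.H + 1) ^ 2 :=
    S.card_cases.resolve_right S.card_ne_cube
  obtain ⟨e, he2, -, hqe⟩ := S.exists_exponent
  have hd3 := S.three_le
  haveI : IsPretransitive G Ω := ⟨fun x y => by
    obtain ⟨g, hg⟩ := T.transitive x
    obtain ⟨k, hk⟩ := T.transitive y
    exact ⟨k * g⁻¹, by rw [mul_smul, inv_smul_eq_iff.mpr hg.symm, hk]⟩⟩
  set d := Nat.card T.H with hd
  set n := Fintype.card Ω with hn
  set h := Nat.card T.F with hh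
  have hnh : n = h + 1 := S.card_omega
  have hG : Nat.card G = n * (h * d) := by rw [hnh]; exact S.card_G_eq
  set J : ℕ → Finset G := fun i => Finset.univ.filter fun g => g ≠ 1 ∧ (fixFinset (Ω := Ω) g).card = i
    with hJ
  have hfix : ∀ g : G, g ≠ 1 → (fixFinset (Ω := Ω) g).card ≤ 2 := by
    intro g hg
    by_contra hlt
    obtain ⟨x, y, z, hx, hy, hz, hxy, hxz, hyz⟩ := Finset.two_lt_card_iff.mp (not_le.mp hlt)
    exact hg (T.three g x y z hxy hyz hxz (mem_fixFinset.mp hx) (mem_fixFinset.mp hy) (mem_fixFinset.mp hz))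
  have hmemJ : ∀ {i : ℕ} {g : G}, g ∈ J i ↔ g ≠ 1 ∧ (fixFinset (Ω := Ω) g).card = i := by
    intro i g; simp [hJ]
  have hsplit : ∀ F : G → ℕ, ∑ g : G, F g = F 1 + ∑ g ∈ J 0, F g + ∑ g ∈ J 1, F g + ∑ g ∈ J 2, F g := by
    intro F
    rw [← Finset.add_sum_erase _ _ (Finset.mem_univ (1 : G)),
      ← Finset.sum_fiberwise_of_maps_to (g := fun g => (fixFinset (Ω := Ω) g).card) (t := Finset.range 3)
        (fun g hg => Finset.mem_range.mpr (Nat.lt_succ_of_le (hfix g (Finset.ne_of_mem_erase hg))))]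
    have hfil : ∀ i, ((Finset.univ : Finset G).erase 1).filter
        (fun g => (fixFinset (Ω := Ω) g).card = i) = J i := by
      intro i; ext g; simp [hJ]
    rw [Finset.sum_range_succ, Finset.sum_range_succ, Finset.sum_range_one, hfil, hfil, hfil]
    ring
  have hburn : ∑ g : G, (fixFinset (Ω := Ω) g).card = Nat.card G := by
    have h := MulAction.sum_card_fixedBy_eq_card_orbits_mul_card_group G Ω
    rw [Fintype.card_eq_one_iff.mpr ⟨Quotient.mk _ a, fun q => Quotient.inductionOn q fun x =>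
      Quotient.sound (MulAction.exists_smul_eq G a x)⟩, one_mul, ← Nat.card_eq_fintype_card] at h
    rw [← h]
    refine Finset.sum_congr rfl fun g _ => ?_
    rw [fixFinset, Fintype.card_subtype]
    rfl
  have hfix1 : (fixFinset (Ω := Ω) (1 : G)).card = n := by simp [fixFinset, hn]
  rw [hsplit, hfix1, Finset.sum_const_nat (m := 0) (fun g hg => (hmemJ.mp hg).2),
    Finset.sum_const_nat (m := 1) (fun g hg => (hmemJ.mp hg).2),
    Finset.sum_const_nat (m := 2) (fun g hg => (hmemJ.mp hg).2), hG] at hburn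
  have hcardG : 1 + (J 0).card + (J 1).card + (J 2).card = n * (h * d) := by
    have h := hsplit fun _ => 1
    simp only [Finset.sum_const, smul_eq_mul, mul_one, Finset.card_univ] at h
    rw [← hG, Nat.card_eq_fintype_card, h]
  have hJ1 : (J 1).card = n * (h - 1) := by
    have heq : J 1 = (Finset.univ : Finset Ω).biUnion
        (fun x => Finset.univ.filter fun g : G => Zassenhaus.fixOnly x g) := by
      ext g
      rw [hmemJ, Finset.mem_biUnion]
      simp only [Finset.mem_filter, Finset.mem_univ, true_and]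
      simp only [Zassenhaus.fixOnly, Finset.card_eq_one, Finset.ext_iff, mem_fixFinset,
        Finset.mem_singleton]
      constructor
      · exact fun h => h.2
      · rintro ⟨x, hx⟩
        refine ⟨fun e => ?_, x, hx⟩
        subst e
        exact T.ne (((hx a).mp (one_smul _ _)).trans ((hx b).mp (one_smul _ _)).symm)
    rw [heq, Finset.card_biUnion, Finset.sum_const_nat (m := h - 1), Finset.card_univ]
    · intro x _
      have h1 := Zassenhaus.ncard_fixOnly hZ x
      rw [show {g : G | Zassenhaus.fixOnly x g}.ncard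
        = (Finset.univ.filter fun g : G => Zassenhaus.fixOnly x g).card by
          rw [← Set.ncard_coe_finset]; simp] at h1
      omega
    · intro x _ y _ hxy
      simp only [Function.onFun, Finset.disjoint_left, Finset.mem_filter, Finset.mem_univ, true_and]
      exact fun g hg hg' => hxy ((hg' x).mp ((hg x).mpr rfl))
  -- the involutions
  have ht : (invs G).card = d * n := by
    have h1 := T.card_involutions
    rw [if_pos S.even_card_F, Nat.card_eq_fintype_card, Fintype.card_subtype] at h1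
    rw [hnh, ← h1]
    congr 1
  have hinvsJ : (J 1).filter (fun g => orderOf g = 2) = invs G := by
    ext g
    rw [Finset.mem_filter, hmemJ, mem_invs]
    refine ⟨fun h => h.2, fun h2 => ⟨⟨ne_one_of_involution h2, ?_⟩, h2⟩⟩
    obtain ⟨p, hp⟩ := S.exists_fix h2
    rw [Finset.card_eq_one]
    exact ⟨p, by ext x; rw [mem_fixFinset, hp, Finset.mem_singleton]⟩
  have hP1 : ∑ g ∈ J 1, (invPairs g).card = d * n * (d - 1) := by
    rw [Finset.sum_congr rfl (g := fun g => if orderOf g = 2 then d - 1 else 0) fun g hg => ?_,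
      Finset.sum_ite, Finset.sum_const_zero, add_zero, hinvsJ, Finset.sum_const, smul_eq_mul, ht]
    obtain ⟨hg1, hgc⟩ := hmemJ.mp hg
    obtain ⟨c, hc⟩ := Finset.card_eq_one.mp hgc
    exact S.card_invPairs_one' hZ hg1 (c := c) fun x => by
      rw [← mem_fixFinset, hc, Finset.mem_singleton]
  have hP2 : ∑ g ∈ J 2, (invPairs g).card = (J 2).card * d := by
    refine Finset.sum_const_nat fun g hg => ?_
    obtain ⟨hg1, hgc⟩ := hmemJ.mp hg
    obtain ⟨p, q, hpq, he⟩ := Finset.card_eq_two.mp hgc
    refine S.card_invPairs_two hpq hg1 (mem_fixFinset.mp (he ▸ Finset.mem_insert_self p _))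
      (mem_fixFinset.mp (he ▸ Finset.mem_insert_of_mem (Finset.mem_singleton_self q))) fun x hx => ?_
    have := mem_fixFinset.mpr hx
    rw [he, Finset.mem_insert, Finset.mem_singleton] at this
    exact this
  set R := realFpf G Ω with hR
  have hRJ : R ⊆ J 0 := fun g hg => by
    obtain ⟨hf, -⟩ := mem_realFpf.mp hg
    refine hmemJ.mpr ⟨fun e => hf a (by rw [e, one_smul]), ?_⟩
    rw [Finset.card_eq_zero, Finset.eq_empty_iff_forall_notMem]
    exact fun x hx => hf x (mem_fixFinset.mp hx)
  have hP0 : ∑ g ∈ J 0, (invPairs g).card =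
      ∑ g ∈ R, Nat.card ↥(Subgroup.centralizer ({g} : Set G)) := by
    rw [← Finset.sum_subset hRJ fun g hg hgR => ?_]
    · refine Finset.sum_congr rfl fun g hg => ?_
      obtain ⟨hf, t, ht⟩ := mem_realFpf.mp hg
      exact (S.realFpf_props hf ht).2.2
    · rw [Finset.card_eq_zero, Finset.eq_empty_iff_forall_notMem]
      intro t ht
      refine hgR (mem_realFpf.mpr ⟨fun c hc => ?_, t, ht⟩)
      have := (hmemJ.mp hg).2
      rw [Finset.card_eq_zero] at this
      exact Finset.notMem_empty c (this ▸ mem_fixFinset.mpr hc)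
  have htot := sum_card_invPairs (G := G)
  rw [hsplit, invPairs_one, hP0, hP1, hP2, ht] at htot
  obtain ⟨reps, hreps, hrne, hrsum⟩ := exists_reps_sum R (fun g u hu => S.realFpf_conj hu)
    S.one_notMem_realFpf (fun u hu v hv hv1 => S.realFpf_centralizer hu hv hv1)
  have hsumid : ∑ g ∈ R, Nat.card ↥(Subgroup.centralizer ({g} : Set G)) =
      ∑ A ∈ reps, (Subgroup.normalizer (A : Set G)).index * ((Nat.card ↥A - 1) * Nat.card ↥A) :=
    hrsum id
  have hsum1 : R.card = ∑ A ∈ reps, (Subgroup.normalizer (A : Set G)).index * (Nat.card ↥A - 1) := by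
    have := hrsum fun _ => 1
    simpa using this
  -- the data of each class of tori
  have hdata : ∀ A ∈ reps, ∃ w : ℕ, (w = 1 ∨ w = 2) ∧ 5 ≤ Nat.card A ∧
      Nat.card A ∣ (2 ^ e) ^ 2 + 1 ∧
      (Subgroup.normalizer (A : Set G)).index * Nat.card A * 4 = Nat.card G * w := by
    intro A hA
    obtain ⟨u, hu, rfl⟩ := hreps A hA
    obtain ⟨l, hl, hN⟩ := S.card_normalizer hsq hu
    set N : Subgroup G := Subgroup.normalizer ((Subgroup.centralizer ({u} : Set G) : Subgroup G) : Set G)
    have hidx := N.index_mul_card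
    rw [hN] at hidx
    refine ⟨4 / l, by rcases hl with rfl | rfl <;> decide, ?_, ?_, ?_⟩
    rotate_left
    · have := S.card_centralizer_dvd (mem_realFpf.mp hu).1
      rwa [← hn, hnh, hsq, hqe] at this
    · rw [← hidx]
      rcases hl with rfl | rfl <;> ring
    · have hdvd : Nat.card ↥(Subgroup.centralizer ({u} : Set G)) ∣ (2 ^ e) ^ 2 + 1 := by
        have := S.card_centralizer_dvd (mem_realFpf.mp hu).1
        rwa [← hn, hnh, hsq, hqe] at this
      have h1 : 1 < Nat.card ↥(Subgroup.centralizer ({u} : Set G)) := by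
        haveI : Nontrivial ↥(Subgroup.centralizer ({u} : Set G)) :=
          ⟨⟨⟨u, Subgroup.mem_centralizer_singleton_iff.mpr rfl⟩, 1,
            fun e => S.one_notMem_realFpf ((show u = 1 from congrArg Subtype.val e) ▸ hu)⟩⟩
        exact Finite.one_lt_card
      by_contra hlt
      have h2 : ¬ 2 ∣ (2 ^ e) ^ 2 + 1 := by
        have : 2 ∣ (2 ^ e) ^ 2 := dvd_pow (dvd_pow_self 2 (by omega)) two_ne_zero
        omega
      have h3 : ¬ 3 ∣ (2 ^ e) ^ 2 + 1 := by
        rw [← pow_mul, mul_comm, pow_mul]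
        have : (2 ^ 2) ^ e % 3 = 1 := by rw [Nat.pow_mod]; norm_num
        omega
      interval_cases hx : Nat.card ↥(Subgroup.centralizer ({u} : Set G))
      · exact h2 hdvd
      · exact h3 hdvd
      · exact h2 ((dvd_mul_left 2 2).trans hdvd)
  choose! w hw ha5 hadvd hidx using hdata
  have hGpos : 0 < Nat.card G := Nat.card_pos
  have hh2 : 2 ≤ h := by rw [hsq]; nlinarith
  obtain ⟨h₁, hh₁⟩ : ∃ h₁, h = h₁ + 1 := ⟨h - 1, by omega⟩
  obtain ⟨d₁, hd₁⟩ : ∃ d₁, d = d₁ + 1 := ⟨d - 1, by omega⟩
  rw [hh₁, Nat.add_sub_cancel] at hJ1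
  rw [hd₁, Nat.add_sub_cancel] at htot
  have hJ2Z : 2 * ((J 2).card : ℤ) = n * (d * h - h) := by
    have e1 : (n : ℤ) + (J 1).card + 2 * (J 2).card = n * (h * d) := by
      exact_mod_cast (show n + (J 1).card + 2 * (J 2).card = n * (h * d) by omega)
    have e2 : ((J 1).card : ℤ) = n * h₁ := by exact_mod_cast hJ1
    have e3 : (h : ℤ) = h₁ + 1 := by exact_mod_cast hh₁
    linear_combination e1 - e2 - (n : ℤ) * (-1) * e3
  have hS : 2 * ((∑ g ∈ R, Nat.card ↥(Subgroup.centralizer ({g} : Set G)) : ℕ) : ℤ) =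
      (n * (h * d)) * (d + 1) := by
    have e1 : ((d₁ + 1) * n + (∑ g ∈ R, Nat.card ↥(Subgroup.centralizer ({g} : Set G))) +
        (d₁ + 1) * n * d₁ + (J 2).card * (d₁ + 1) : ℤ) = ((d₁ + 1) * n) * ((d₁ + 1) * n) := by
      exact_mod_cast htot
    have e2 : (d : ℤ) = d₁ + 1 := by exact_mod_cast hd₁
    have e3 : (n : ℤ) = h + 1 := by exact_mod_cast hnh
    rw [← e2] at e1
    have e4 : (d₁ : ℤ) = d - 1 := by linarith
    rw [e4] at e1
    linear_combination 2 * e1 - (d : ℤ) * hJ2Z + 2 * (d : ℤ) ^ 2 * n * e3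
  have hJ0Z : 2 * ((J 0).card : ℤ) < Nat.card G := by
    have e1 : (1 : ℤ) + (J 0).card + (J 1).card + (J 2).card = n * (h * d) := by exact_mod_cast hcardG
    have e2 : ((J 1).card : ℤ) = n * h₁ := by exact_mod_cast hJ1
    have e3 : (h : ℤ) = h₁ + 1 := by exact_mod_cast hh₁
    have e4 : (n : ℤ) = h + 1 := by exact_mod_cast hnh
    have e5 : (Nat.card G : ℤ) = n * (h * d) := by exact_mod_cast hG
    have e6 : (d : ℤ) ≤ h := by
      have h6 : (d : ℤ) ≤ ((d + 1) ^ 2 : ℕ) := by push_cast; nlinarith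
      rwa [← hsq] at h6
    nlinarith
  -- the weights
  have hweights : ∑ A ∈ reps, w A * (Nat.card A - 1) = 2 * 2 ^ e := by
    have h1 : Nat.card G * ∑ A ∈ reps, w A * (Nat.card A - 1) =
        4 * ∑ g ∈ R, Nat.card ↥(Subgroup.centralizer ({g} : Set G)) := by
      rw [hsumid, Finset.mul_sum, Finset.mul_sum]
      refine Finset.sum_congr rfl fun A hA => ?_
      rw [← mul_assoc, ← hidx A hA]
      ring
    have h2 : (Nat.card G : ℤ) * ((∑ A ∈ reps, w A * (Nat.card A - 1) : ℕ) : ℤ) =
        4 * ((∑ g ∈ R, Nat.card ↥(Subgroup.centralizer ({g} : Set G)) : ℕ) : ℤ) := by exact_mod_cast h1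
    have h3 : (Nat.card G : ℤ) = n * (h * d) := by exact_mod_cast hG
    have h4 : (d : ℤ) + 1 = ((2 ^ e : ℕ) : ℤ) := by exact_mod_cast hqe
    have h5 : (Nat.card G : ℤ) * ((∑ A ∈ reps, w A * (Nat.card A - 1) : ℕ) : ℤ) =
        (Nat.card G : ℤ) * ((2 * 2 ^ e : ℕ) : ℤ) := by
      rw [h2, Nat.cast_mul, ← h4, h3]
      linear_combination 2 * hS
    exact_mod_cast mul_left_cancel₀ (by positivity : (Nat.card G : ℤ) ≠ 0) h5
  have hwsum : ∑ A ∈ reps, w A ≤ 2 := by
    have h1 : 4 * Nat.card G * ∑ A ∈ reps, w A ≤ 20 * R.card := by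
      rw [hsum1, Finset.mul_sum, Finset.mul_sum]
      refine Finset.sum_le_sum fun A hA => ?_
      have h5 := ha5 A hA
      calc 4 * Nat.card G * w A = (Subgroup.normalizer (A : Set G)).index * (16 * Nat.card A) := by
            rw [mul_assoc, ← hidx A hA]; ring
        _ ≤ (Subgroup.normalizer (A : Set G)).index * (20 * (Nat.card A - 1)) :=
            Nat.mul_le_mul_left _ (by omega)
        _ = 20 * ((Subgroup.normalizer (A : Set G)).index * (Nat.card A - 1)) := by ring
    have h2 : R.card ≤ (J 0).card := Finset.card_le_card hRJ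
    have h3 : 2 * (J 0).card < Nat.card G := by exact_mod_cast hJ0Z
    by_contra hlt
    have h4 : 4 * Nat.card G * 3 ≤ 4 * Nat.card G * ∑ A ∈ reps, w A :=
      Nat.mul_le_mul_left _ (by omega)
    omega
  have hcardw : reps.card ≤ ∑ A ∈ reps, w A := by
    rw [Finset.card_eq_sum_ones]
    exact Finset.sum_le_sum fun A hA => by rcases hw A hA with h | h <;> omega
  have hodd : Odd e := by
    rcases (show reps.card = 0 ∨ reps.card = 1 ∨ reps.card = 2 by omega) with h0 | h1 | h2
    · rw [Finset.card_eq_zero] at h0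
      rw [h0, Finset.sum_empty] at hweights
      have := Nat.two_pow_pos e
      omega
    · obtain ⟨A, rfl⟩ := Finset.card_eq_one.mp h1
      rw [Finset.sum_singleton] at hweights
      have hA := Finset.mem_singleton_self A
      exact (SzArith.false_of_one he2 (hw A hA) (hadvd A hA) hweights).elim
    · obtain ⟨A, B, hAB, rfl⟩ := Finset.card_eq_two.mp h2
      rw [Finset.sum_pair hAB] at hwsum hweights
      have hA : A ∈ ({A, B} : Finset (Subgroup G)) := Finset.mem_insert_self _ _
      have hB : B ∈ ({A, B} : Finset (Subgroup G)) :=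
        Finset.mem_insert_of_mem (Finset.mem_singleton_self _)
      have h5A := ha5 A hA
      have h5B := ha5 B hB
      have hwA : w A = 1 := by rcases hw A hA with h | h <;> rcases hw B hB with h' | h' <;> omega
      have hwB : w B = 1 := by rcases hw A hA with h | h <;> rcases hw B hB with h' | h' <;> omega
      rw [hwA, hwB, one_mul, one_mul] at hweights
      refine SzArith.odd_of_two (a := Nat.card A) (b := Nat.card B) (by omega) (by omega) (by omega)
        (Nat.Coprime.mul_dvd_of_dvd_of_dvd ?_ (hadvd A hA) (hadvd B hB))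
      obtain ⟨u, hu, huA⟩ := hreps A hA
      obtain ⟨v, hv, hvB⟩ := hreps B hB
      rw [huA, hvB]
      refine S.coprime_card hu hv fun hex => hAB (hrne A hA B hB ?_)
      rw [huA, hvB]
      exact hex
  exact ⟨e, hodd, by omega, hqe, hsq⟩

/-- A simple Zassenhaus group of Suzuki type has Suzuki order. -/
theorem isSuzuki [IsSimpleGroup G] (hZ : Cfsg.IsZassenhausGroup G Ω) : Cfsg.IsSuzuki G := by
  obtain ⟨e, ⟨m, hm⟩, he1, hqe, hsq⟩ := S.exists_odd_exponent hZ
  refine ⟨inferInstance, m, by omega, ?_⟩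
  rw [S.card_G_eq, hsq, show Nat.card T.H = 2 ^ e - 1 by omega,
    show 2 ^ e - 1 + 1 = 2 ^ e by omega, hm]
  ring

end SzSetting

end CfsgLib.Zass29
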