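import Cfsg.Agent.Lib.Zass29.FeitTheorem
import Cfsg.Agent.Lib.PermSmall.FeitSimple
import Cfsg.Agent.S1137
import Cfsg.Agent.S1138

/-!
# Zassenhaus groups of Suzuki type: the translations form a Suzuki 2-group
-/

set_option autoImplicit false
set_option linter.unusedSectionVars false

noncomputable section

namespace CfsgLib.Zass29

open MulAction CfsgLib.PermSmall
open CfsgLib.PermSmall.Zassenhaus (pairStab)
open CfsgLib.PermSmall.FeitFrame (Frame)
open scoped Classical

universe u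

variable {G : Type u} {Ω : Type*} [Group G] [MulAction G Ω] {a b : Ω}

/-- The facts about translations forming a non-abelian 2-group. -/
structure SzSetting [Finite G] [Fintype Ω] (T : Frame G a b) : Prop where
  suzuki : Cfsg.IsSuzukiTwoGroup T.F
  three_le : 3 ≤ Nat.card T.H
  card_center : Nat.card (Subgroup.center T.F) = Nat.card T.H + 1
  trans : ∀ z z' : T.F, z ∈ Subgroup.center T.F → z ≠ 1 → z' ∈ Subgroup.center T.F → z' ≠ 1 →
    ∃ k : T.H, T.conjF k z = z'
  cent : ∀ k ∈ T.F, k ≠ 1 → Subgroup.centralizer ({k} : Set G) ≤ T.F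
  norm_eq : Subgroup.normalizer (T.F : Set G) = T.M
  ti : ∀ g : G, g ∉ Subgroup.normalizer (T.F : Set G) → ∀ k ∈ T.F, g * k * g⁻¹ ∈ T.F → k = 1

theorem isCyclic_pairStab [Finite G] [Fintype Ω] [IsSimpleGroup G]
    (hZ : Cfsg.IsZassenhausGroup G Ω) (hab : a ≠ b) (hodd : Odd (Nat.card (pairStab G a b))) :
    IsCyclic (pairStab G a b) := by
  refine (OddStab.cyclic_inverted hZ hab hodd ?_).1
  rintro q hq hqd ⟨N, hN, hNi⟩
  have hv : 0 < (Nat.card G).factorization q := Nat.Prime.factorization_pos_of_dvd hq Nat.card_pos.ne'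
    (hqd.trans (Subgroup.card_subgroup_dvd_card _))
  rcases hN.eq_bot_or_eq_top with rfl | rfl
  · obtain ⟨s, hs2, -, -⟩ := Zassenhaus.exists_swapping hZ hab
    rw [Subgroup.index_bot] at hNi
    have h2 : 2 ∣ q ^ (Nat.card G).factorization q := by
      rw [← hNi, ← hs2]; exact orderOf_dvd_natCard s
    obtain rfl := (Nat.prime_dvd_prime_iff_eq Nat.prime_two hq).mp (Nat.prime_two.dvd_of_dvd_pow h2)
    exact (Nat.not_even_iff_odd.mpr hodd) (even_iff_two_dvd.mpr hqd)
  · rw [Subgroup.index_top] at hNi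
    exact (Nat.one_lt_pow hv.ne' hq.one_lt).ne hNi

/-- In a simple Zassenhaus group with non-abelian translations of 2-power order the translations
form a Suzuki 2-group. -/
theorem exists_szSetting [Finite G] [Fintype Ω] [IsSimpleGroup G]
    (hZ : Cfsg.IsZassenhausGroup G Ω) (hab : a ≠ b) (hodd : Odd (Nat.card (pairStab G a b)))
    (H : Subgroup G) (hHa : H ≤ stabilizer G a) (hHcard : Nat.card H + 1 = Fintype.card Ω)
    (hHfix : ∀ u ∈ H, u ≠ 1 → ∀ c : Ω, u • c = c → c = a)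
    (h2 : IsPGroup 2 H) (hna : ∃ u v : H, u * v ≠ v * u) :
    ∃ T : Frame G a b, SzSetting T := by
  obtain ⟨T, rfl⟩ := FeitFrame.exists_frame hZ hab hodd H hHa hHcard hHfix
  refine ⟨T, ?_⟩
  haveI : IsCyclic T.H := isCyclic_pairStab hZ hab hodd
  have hd : 3 ≤ Nat.card T.H := by
    have h1 : 1 < Nat.card T.H := Zassenhaus.one_lt_card_pairStab hZ hab
    obtain ⟨r, hr⟩ := T.odd
    change Nat.card T.H = 2 * r + 1 at hr
    omega
  have hev : Even (Nat.card T.F) := by
    obtain ⟨k, hk⟩ := h2.exists_card_eq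
    rw [hk]
    refine (Nat.even_pow).mpr ⟨even_two, fun e => ?_⟩
    rw [e, pow_zero] at hk
    have := Zassenhaus.three_le_card hZ hab
    omega
  -- the involutions of the translations
  have hinvmem : ∀ u : T.F, u ≠ 1 → u * u = 1 → orderOf (u : G) = 2 := fun u hu1 hu2 =>
    FeitFrame.orderOf_two_iff.mpr ⟨congrArg Subtype.val hu2, fun e => hu1 (Subtype.ext e)⟩
  let e : {u : T.F // u ≠ 1 ∧ u * u = 1} ≃ {w : G // orderOf w = 2 ∧ w • a = a} :=
    { toFun := fun u => ⟨(u.1 : G), hinvmem u.1 u.2.1 u.2.2, T.F_le u.1.2⟩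
      invFun := fun w => ⟨⟨w.1, T.mem_F_of_fix w.2.1 w.2.2⟩,
        fun e => (FeitFrame.orderOf_two_iff.mp w.2.1).2 (congrArg Subtype.val e),
        Subtype.ext (FeitFrame.orderOf_two_iff.mp w.2.1).1⟩
      left_inv := fun _ => rfl
      right_inv := fun _ => rfl }
  have hcard : Nat.card {u : T.F // u ≠ 1 ∧ u * u = 1} = Nat.card T.H := by
    rw [Nat.card_congr e]
    have h1 := T.card_fixing a
    rw [T.card_involutions, if_pos hev, Nat.mul_add, Nat.mul_one,
      Nat.mul_comm (Nat.card T.F)] at h1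
    omega
  have hfpf : ∀ (k k' : T.H) (u : T.F), u ≠ 1 → T.conjF k u = T.conjF k' u → k = k' := by
    intro k k' u hu e'
    by_contra hkk
    refine hu (T.fixed_translation (h := k'⁻¹ * k) (fun h => hkk (inv_mul_eq_one.mp h).symm) ?_)
    have e'' : (k : G) * u * (k : G)⁻¹ = (k' : G) * u * (k' : G)⁻¹ := congrArg Subtype.val e'
    rw [Subgroup.coe_mul, Subgroup.coe_inv]
    calc (k' : G)⁻¹ * k * u * ((k' : G)⁻¹ * k)⁻¹ = (k' : G)⁻¹ * ((k : G) * u * (k : G)⁻¹) * k' := by group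
      _ = u := by rw [e'']; group
  have hreg : ∀ x : T.F, x ≠ 1 → x * x = 1 → ∀ y : T.F, y ≠ 1 → y * y = 1 →
      ∃ k : T.H, T.conjF k x = y := by
    intro x hx hx2 y hy hy2
    let f : T.H → {u : T.F // u ≠ 1 ∧ u * u = 1} := fun k => ⟨T.conjF k x,
      fun h => hx ((map_eq_one_iff _ (T.conjF k).injective).mp h), by rw [← map_mul, hx2, map_one]⟩
    have hf : Function.Bijective f := (Nat.bijective_iff_injective_and_card f).mpr
      ⟨fun k k' h => hfpf k k' x hx (congrArg Subtype.val h), hcard.symm⟩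
    obtain ⟨k, hk⟩ := hf.2 ⟨y, hy, hy2⟩
    exact ⟨k, congrArg Subtype.val hk⟩
  have hsz : Cfsg.IsSuzukiTwoGroup T.F := by
    refine ⟨inferInstance, h2, hna, ?_, T.conjHom.range,
      isCyclic_of_surjective _ T.conjHom.rangeRestrict_surjective, ?_⟩
    · haveI : Nontrivial {u : T.F // u ≠ 1 ∧ u * u = 1} :=
        Finite.one_lt_card_iff_nontrivial.mp (by omega)
      obtain ⟨x, y, hxy⟩ := exists_pair_ne {u : T.F // u ≠ 1 ∧ u * u = 1}
      exact ⟨x.1, y.1, fun h => hxy (Subtype.ext h), x.2.1, x.2.2, y.2.1, y.2.2⟩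
    · intro x y hx hx2 hy hy2
      obtain ⟨k, hk⟩ := hreg x hx hx2 y hy hy2
      refine ⟨⟨T.conjHom k, k, rfl⟩, hk, ?_⟩
      rintro ⟨_, k', rfl⟩ hk'
      exact Subtype.ext (congrArg T.conjHom (hfpf k' k x hx (hk'.trans hk.symm)))
  obtain ⟨hiff, hcsq⟩ := Cfsg.Agent.S1137.result hsz
  obtain ⟨hTI, hN⟩ := Cfsg.Agent.S0878.result hZ a T.F hHa hHcard hHfix
  refine ⟨hsz, hd, ?_, ?_, FeitThm.centralizer_le hZ hab hHa hHcard hHfix, hN,
    fun g hg => hTI g fun h => hg (hN.symm ▸ h)⟩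
  · rw [← hcard]
    have h1 : Nat.card {u : T.F // u ≠ 1 ∧ u * u = 1}
        = (((Subgroup.center T.F : Subgroup T.F) : Set T.F) \ {1}).ncard := by
      rw [← Nat.card_coe_set_eq]
      exact Nat.card_congr (Equiv.subtypeEquivRight fun u => by
        rw [hiff]; exact Iff.rfl)
    rw [h1, Set.ncard_sdiff_singleton_add_one (one_mem _) (Set.toFinite _)]
    rfl
  · intro z z' hz hz1 hz' hz'1
    exact hreg z hz1 (hcsq z hz) z' hz'1 (hcsq z' hz')

namespace SzSetting

variable [Finite G] [Fintype Ω] {T : Frame G a b} (S : SzSetting T)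
include S

/-- The order `q` of the centre of the translations. -/
theorem exists_exponent : ∃ n : ℕ, 2 ≤ n ∧ Nat.card (Subgroup.center T.F) = 2 ^ n ∧
    Nat.card T.H + 1 = 2 ^ n := by
  obtain ⟨n, hn⟩ := (S.suzuki.2.1.to_subgroup (Subgroup.center T.F)).exists_card_eq
  refine ⟨n, ?_, hn, S.card_center ▸ hn⟩
  have h := S.card_center
  rw [hn] at h
  have := S.three_le
  by_contra hlt
  interval_cases n <;> omega

theorem invol_iff (x : T.F) : (x ≠ 1 ∧ x * x = 1) ↔ (x ∈ Subgroup.center T.F ∧ x ≠ 1) :=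
  (Cfsg.Agent.S1137.result S.suzuki).1 x

theorem center_sq {z : T.F} (hz : z ∈ Subgroup.center T.F) : z * z = 1 :=
  (Cfsg.Agent.S1137.result S.suzuki).2 z hz

theorem sq_mem (x : T.F) : x * x ∈ Subgroup.center T.F := (Cfsg.Agent.S1138.result S.suzuki).1 x

theorem comm_mem (x y : T.F) : x⁻¹ * y⁻¹ * x * y ∈ Subgroup.center T.F :=
  (Cfsg.Agent.S1138.result S.suzuki).2.1 x y

theorem card_cases : Nat.card T.F = (Nat.card T.H + 1) ^ 2 ∨ Nat.card T.F = (Nat.card T.H + 1) ^ 3 :=
  S.card_center ▸ (Cfsg.Agent.S1138.result S.suzuki).2.2.1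

theorem card_omega : Fintype.card Ω = Nat.card T.F + 1 := by
  have := T.card_F
  have := T.two_le_card
  omega

theorem card_G_eq : Nat.card G = (Nat.card T.F + 1) * (Nat.card T.F * Nat.card T.H) := by
  rw [T.card_G, T.card_M]
  ring

/-- The centralizer of a central involution. -/
theorem centralizer_eq {z : T.F} (hz : z ∈ Subgroup.center T.F) (hz1 : z ≠ 1) :
    Subgroup.centralizer ({(z : G)} : Set G) = T.F :=
  le_antisymm (S.cent z z.2 fun e => hz1 (Subtype.ext e)) fun u hu =>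
    Subgroup.mem_centralizer_singleton_iff.mpr
      (congrArg Subtype.val (Subgroup.mem_center_iff.mp hz ⟨u, hu⟩))

theorem exists_center_ne : ∃ z : T.F, z ∈ Subgroup.center T.F ∧ z ≠ 1 := by
  haveI : Nontrivial (Subgroup.center T.F) :=
    Finite.one_lt_card_iff_nontrivial.mp (by rw [S.card_center]; have := S.three_le; omega)
  obtain ⟨z, hz⟩ := exists_ne (1 : Subgroup.center T.F)
  exact ⟨z, z.2, fun e => hz (Subtype.ext e)⟩

end SzSetting

end CfsgLib.Zass29
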